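import Cfsg.Prelude.Def_CaseTheorems
import Cfsg.Agent.Solvable.MaximalClass
import Cfsg.Agent.S0115
import Cfsg.Agent.S4399
import Cfsg.Agent.Transfer.QuaternionSection

/-!
# Sylow 2-subgroups containing a self-centralising four-group
-/

set_option autoImplicit false
set_option linter.unusedSectionVars false
set_option linter.style.haveILetI false

namespace CfsgLib.WongThree

open Subgroup

universe u

theorem sylow_maximal_class {N : Type u} [Group N] [Finite N] (V : Subgroup N) [IsKleinFour V]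
    (hV : centralizer (V : Set N) = V) (h16 : 16 ∣ Nat.card N) :
    ∃ S : Sylow 2 N, V ≤ (S : Subgroup N) ∧
      ((∃ n : ℕ, 2 ≤ n ∧ Nonempty ((S : Subgroup N) ≃* DihedralGroup n)) ∨
        Cfsg.IsQuasiDihedral (S : Subgroup N)) := by
  classical
  haveI : Fact (Nat.Prime 2) := ⟨Nat.prime_two⟩
  obtain ⟨S, hS⟩ := (IsPGroup.of_card (n := 2) (G := V) (by rw [IsKleinFour.card_four]; norm_num)).exists_le_sylow (p := 2)
  refine ⟨S, hS, ?_⟩
  obtain ⟨m, hm⟩ := IsPGroup.iff_card.1 S.isPGroup'
  have hm4 : 4 ≤ m := by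
    have h := S.card_eq_multiplicity
    rw [hm] at h
    have h4 : 2 ^ 4 ∣ Nat.card N := by simpa using h16
    rw [Nat.pow_right_injective le_rfl h]
    exact (Nat.Prime.pow_dvd_iff_le_factorization Nat.prime_two Nat.card_pos.ne').1 h4
  set A := V.subgroupOf (S : Subgroup N) with hA
  have hAcard : Nat.card A = 2 ^ 2 := by
    rw [hA, Nat.card_congr (subgroupOfEquivOfLe hS).toEquiv, IsKleinFour.card_four]; norm_num
  have hAC : centralizer (A : Set (S : Subgroup N)) = A := by
    refine le_antisymm (fun x hx => mem_subgroupOf.2 (hV.le (mem_centralizer_iff.2 fun v hv => ?_)))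
      fun x hx => mem_centralizer_iff.2 fun y hy => Subtype.ext ?_
    · exact congrArg Subtype.val (mem_centralizer_iff.1 hx ⟨v, hS hv⟩ (mem_subgroupOf.2 hv))
    · exact (mem_centralizer_iff.1 (hV.ge (mem_subgroupOf.1 hx)) y (mem_subgroupOf.1 hy))
  have hcl := CfsgLib.MaximalClass.class_of_self_centralizing m hm A hAcard hAC
  haveI := (Cfsg.Agent.S0115.result m (by omega) hm).1 hcl
  have hab : Nat.card (Abelianization (S : Subgroup N)) = 4 :=
    IsKleinFour.card_four (G := (S : Subgroup N) ⧸ commutator (S : Subgroup N))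
  have hexp : ∀ x : Abelianization (S : Subgroup N), x ^ 2 = 1 := fun x => by
    have h := Monoid.pow_exponent_eq_one (G := (S : Subgroup N) ⧸ commutator (S : Subgroup N)) x
    rw [IsKleinFour.exponent_two] at h
    exact h
  rcases Cfsg.Agent.S4399.result S.isPGroup' hab hexp with h | h | h | h
  · exfalso
    rw [hm] at h
    have : m = 2 := Nat.pow_right_injective le_rfl (h.trans (by norm_num))
    omega
  · obtain ⟨k, hk⟩ := h
    exact Or.inl ⟨2 ^ (k + 2), Nat.le_self_pow (by omega) 2, hk⟩
  · obtain ⟨k, hk, a, b, ha, hb, hab'⟩ := h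
    exact Or.inr ⟨k + 3, by omega, hk, a, b, ha, hb, hab'⟩
  · exfalso
    obtain ⟨k, ⟨e⟩⟩ := h
    have hAinv : ∀ x : A, x ≠ 1 → orderOf (e (x : (S : Subgroup N))) = 2 := fun x hx => by
      rw [e.orderOf_eq, Subgroup.orderOf_coe]
      refine orderOf_eq_prime ?_ hx
      have h2 : (⟨((x : (S : Subgroup N)) : N), mem_subgroupOf.1 x.2⟩ : V) ^ 2 = 1 := by
        rw [sq]; exact IsKleinFour.mul_self _
      exact Subtype.ext (Subtype.ext (by simpa using congrArg Subtype.val h2))
    have hle : Nat.card A ≤ 2 := by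
      by_contra hgt
      push Not at hgt
      haveI := Fintype.ofFinite A
      rw [Nat.card_eq_fintype_card, Fintype.two_lt_card_iff] at hgt
      obtain ⟨x, y, z, hxy, hxz, hyz⟩ := hgt
      obtain ⟨p, q, hpq, hp1, hq1⟩ : ∃ p q : A, p ≠ q ∧ p ≠ 1 ∧ q ≠ 1 := by
        by_cases hx : x = 1
        · exact ⟨y, z, hyz, fun h => hxy (hx.trans h.symm), fun h => hxz (hx.trans h.symm)⟩
        by_cases hy : y = 1
        · exact ⟨x, z, hxz, hx, fun h => hyz (hy.trans h.symm)⟩
        · exact ⟨x, y, hxy, hx, hy⟩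
      exact hpq (Subtype.ext (e.injective
        (CfsgLib.QSection.quaternion_involution _ _ (hAinv p hp1) (hAinv q hq1))))
    rw [hAcard] at hle
    norm_num at hle

end CfsgLib.WongThree
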