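import Cfsg.Agent.WongThree.CoreKill
import Cfsg.Agent.WongThree.MaxClass
import Cfsg.Agent.GLTwoThree.L33.Uniq
import Cfsg.Agent.GLTwoThree.L33.Target
import Cfsg.Agent.GW.Top.Statement
import Cfsg.Agent.DGroup.NonSimple

/-!
# Simple groups with a self-centralising four-group
-/

set_option autoImplicit false
set_option linter.unusedSectionVars false
set_option linter.style.haveILetI false

namespace CfsgLib.WongThree

open Subgroup
open scoped commutatorElement

universe u

/-- The existence of a cover in the quasidihedral case. -/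
def CoverSupply : Prop :=
  ∀ (N : Type u) [Group N] [Finite N] [IsSimpleGroup N] (S : Sylow 2 N),
    Cfsg.IsQuasiDihedral (S : Subgroup N) → ∀ (V : Subgroup N) [IsKleinFour V],
      centralizer (V : Set N) = V → ∃ t : N, orderOf t = 2 ∧ Nonempty (Cover t)

local instance factThreeCore : Fact (Nat.Prime 3) := ⟨Nat.prime_three⟩

theorem simple_core (hcov : CoverSupply.{u}) {N : Type u} [Group N] [Finite N] [IsSimpleGroup N]
    (V : Subgroup N) [IsKleinFour V] (hV : centralizer (V : Set N) = V) (h16 : 16 ∣ Nat.card N) :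
    (∃ (F : Type) (_ : Field F) (_ : Fintype F), Odd (Fintype.card F) ∧ 3 < Fintype.card F ∧
        Nonempty (N ≃* Matrix.ProjectiveSpecialLinearGroup (Fin 2) F)) ∨
      Nonempty (N ≃* Matrix.ProjectiveSpecialLinearGroup (Fin 3) (ZMod 3)) ∨
      Nat.card N = 7920 := by
  classical
  haveI : Fact (Nat.Prime 2) := ⟨Nat.prime_two⟩
  have hna : ¬ IsMulCommutative N := by
    intro h
    have hp : (Nat.card N).Prime := by
      letI : CommGroup N := { (inferInstance : Group N) with mul_comm := fun a b => h.is_comm.comm a b }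
      exact IsSimpleGroup.prime_card
    have := (Nat.prime_dvd_prime_iff_eq Nat.prime_two hp).1 (dvd_trans (by norm_num) h16)
    omega
  obtain ⟨S, hVS, hS⟩ := sylow_maximal_class V hV h16
  rcases hS with ⟨n, hn, hD⟩ | hQD
  · haveI : Group.IsPerfect N := ⟨(Subgroup.Normal.eq_bot_or_eq_top (H := commutator N) inferInstance).resolve_left
      fun h => hna ⟨⟨fun a b => by
        have hm : ⁅a, b⁆ ∈ commutator N := by
          rw [_root_.commutator_def]; exact commutator_mem_commutator (mem_top a) (mem_top b)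
        rw [h, mem_bot, commutatorElement_eq_one_iff_mul_comm] at hm
        exact hm⟩⟩⟩
    have hO := CfsgLib.DGroup.oddCore_eq_bot_of_simple (G := N) hna
    have hq : Function.Bijective (QuotientGroup.mk' (Cfsg.oddCore N)) := by
      refine ⟨(MonoidHom.ker_eq_bot_iff _).1 ?_, QuotientGroup.mk'_surjective _⟩
      rw [QuotientGroup.ker_mk', hO]
    let q : N ≃* N ⧸ Cfsg.oddCore N := MulEquiv.ofBijective (QuotientGroup.mk' _) hq
    rcases CfsgLib.GW.Top.statement N S n hn hD with ⟨F, iF, iFF, hodd, h3, ⟨e⟩⟩ | ⟨⟨e⟩⟩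
    · exact Or.inl ⟨F, iF, iFF, hodd, h3,
        ⟨q.trans e⟩⟩
    · exfalso
      have hc : Nat.card N = 2520 := by
        rw [Nat.card_congr (q.trans e).toEquiv, nat_card_alternatingGroup,
          Nat.card_fin]
        rfl
      rw [hc] at h16
      norm_num at h16
  · right
    haveI := Fintype.ofFinite N
    obtain ⟨t, ht, ⟨D⟩⟩ := hcov N S hQD V hV
    let φ : centralizer ({t} : Set N) ≃* CfsgLib.GLTwoThree.Mat :=
      MulEquiv.ofBijective D.π ⟨(MonoidHom.ker_eq_bot_iff _).1 (D.ker_eq_bot ht), D.surj⟩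
    rcases CfsgLib.GLTwoThree.card_eq φ ht with hG | hG
    · left
      haveI := CfsgLib.CommGraph.L33.isSimple_M
      obtain ⟨ψ⟩ := CfsgLib.GLTwoThree.Target.nonempty_centralizer_equiv
      obtain ⟨e1⟩ := CfsgLib.GLTwoThree.nonempty_equiv_stdGroup φ ht hG
      obtain ⟨e2⟩ := CfsgLib.GLTwoThree.nonempty_equiv_stdGroup ψ
        CfsgLib.GLTwoThree.Target.orderOf_t0 CfsgLib.CommGraph.L33.card_M
      exact ⟨(e1.trans e2.symm).trans CfsgLib.CommGraph.L33.pslEquiv.symm⟩
    · exact Or.inr hG

end CfsgLib.WongThree
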