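import Cfsg.Agent.WongThree.Simple
import Cfsg.Agent.WongThree.SimpleCore
import Cfsg.Agent.InvChar.SylowTools
import Cfsg.Agent.Classical.PSLTwo

/-!
# Simple groups with an `S₄` four-group normaliser
-/

set_option autoImplicit false
set_option linter.unusedSectionVars false
set_option linter.style.haveILetI false

namespace CfsgLib.WongThree

open Subgroup

universe u

/-- Facts about a four-group with normaliser of order 24 in a two-dimensional group, to be supplied. -/
def PSLSupply : Prop :=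
  ∀ (F : Type) [Field F] [Fintype F], Odd (Fintype.card F) →
    16 ∣ Nat.card (Matrix.ProjectiveSpecialLinearGroup (Fin 2) F) →
    ∀ (V : Subgroup (Matrix.ProjectiveSpecialLinearGroup (Fin 2) F)) [IsKleinFour V],
      centralizer (V : Set (Matrix.ProjectiveSpecialLinearGroup (Fin 2) F)) = V →
      Nat.card (normalizer (V : Set (Matrix.ProjectiveSpecialLinearGroup (Fin 2) F))) = 24 →
      (IsCoatom (normalizer (V : Set (Matrix.ProjectiveSpecialLinearGroup (Fin 2) F))) →
          (Fintype.card F).Prime) ∧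
        ∀ α : MulAut (Matrix.ProjectiveSpecialLinearGroup (Fin 2) F), α * α = 1 → α ≠ 1 →
          ¬ ∀ x, (α x = x ↔ x ∈ normalizer (V : Set (Matrix.ProjectiveSpecialLinearGroup (Fin 2) F)))

/-- The corresponding fact for the simple group of order 7920, to be supplied. -/
def ElevenSupply : Prop :=
  ∀ (N : Type u) [Group N] [Finite N] [IsSimpleGroup N], Nat.card N = 7920 →
    ∀ (V : Subgroup N) [IsKleinFour V], centralizer (V : Set N) = V →
      Nat.card (normalizer (V : Set N)) = 24 → ¬ IsCoatom (normalizer (V : Set N))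

theorem map_centralizer_equiv {A B : Type*} [Group A] [Group B] (φ : A ≃* B) (V : Subgroup A) :
    (centralizer (V : Set A)).map φ.toMonoidHom =
      centralizer ((V.map φ.toMonoidHom : Subgroup B) : Set B) := by
  ext x
  rw [mem_map_equiv, mem_centralizer_iff, mem_centralizer_iff]
  constructor
  · rintro h _ ⟨v, hv, rfl⟩
    have := congrArg φ (h v hv)
    simpa using this
  · intro h v hv
    apply φ.injective
    simpa using h (φ v) ⟨v, hv, rfl⟩

theorem isKleinFour_map {A B : Type*} [Group A] [Group B] (φ : A ≃* B) (V : Subgroup A)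
    [IsKleinFour V] : IsKleinFour (V.map φ.toMonoidHom : Subgroup B) := by
  let ψ : V ≃* (V.map φ.toMonoidHom : Subgroup B) :=
    V.equivMapOfInjective _ φ.injective
  exact ⟨(Nat.card_congr ψ.toEquiv).symm.trans IsKleinFour.card_four,
    (Monoid.exponent_eq_of_mulEquiv ψ).symm.trans IsKleinFour.exponent_two⟩

/-- A four-group transported to the two-dimensional group, with the image of its normaliser. -/
theorem psl_data {N : Type u} [Group N] [Finite N] {H : Subgroup N} (e : H ≃* Equiv.Perm (Fin 4))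
    (hN : normalizer (fourOf e : Set N) = H) (hC : centralizer (fourOf e : Set N) = fourOf e)
    (h16 : 16 ∣ Nat.card N) (hpsl : PSLSupply) {F : Type} [Field F] [Fintype F]
    (hodd : Odd (Fintype.card F)) (φ : N ≃* Matrix.ProjectiveSpecialLinearGroup (Fin 2) F) :
    (IsCoatom H → (Fintype.card F).Prime) ∧
      ∀ α : MulAut N, α * α = 1 → α ≠ 1 → ¬ ∀ x, (α x = x ↔ x ∈ H) := by
  haveI := isKleinFour_fourOf e
  set V' := (fourOf e).map φ.toMonoidHom with hV'
  haveI : IsKleinFour V' := isKleinFour_map φ _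
  have hC' : centralizer (V' : Set (Matrix.ProjectiveSpecialLinearGroup (Fin 2) F)) = V' := by
    rw [hV', ← map_centralizer_equiv, hC]
  have hN' : normalizer (V' : Set (Matrix.ProjectiveSpecialLinearGroup (Fin 2) F)) =
      H.map φ.toMonoidHom := by
    rw [hV']
    exact (Subgroup.map_equiv_normalizer_eq (fourOf e) φ).symm.trans
      (congrArg (fun K : Subgroup N => K.map φ.toMonoidHom) hN)
  have hc : Nat.card (normalizer (V' : Set (Matrix.ProjectiveSpecialLinearGroup (Fin 2) F))) = 24 := by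
    rw [hN', card_map_of_injective (f := φ.toMonoidHom) φ.injective, card_of_sym e]
  obtain ⟨h1, h2⟩ := hpsl F hodd (by rwa [← Nat.card_congr φ.toEquiv]) V' hC' hc
  refine ⟨fun hco => h1 ?_, fun α hα hα1 hfix => ?_⟩
  · rw [hN']
    exact (OrderIso.isCoatom_iff φ.mapSubgroup H).2 hco
  · refine h2 (MulAut.congr φ α) (by rw [← map_mul, hα, map_one]) ?_ fun x => ?_
    · exact fun h => hα1 ((MulAut.congr φ).injective (h.trans (map_one _).symm))
    · show φ (α (φ.symm x)) = x ↔ _
      rw [hN', mem_map_equiv, ← hfix]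
      constructor
      · intro h
        apply φ.injective
        rw [φ.apply_symm_apply]
        exact h
      · intro h
        rw [h, φ.apply_symm_apply]

theorem mod_sixteen_of_dvd {p : ℕ} (hp : p.Prime) (h2 : p ≠ 2) {m : ℕ}
    (hm : 2 * m = p * (p ^ 2 - 1)) (h16 : 16 ∣ m) : p % 16 = 1 ∨ p % 16 = 15 := by
  obtain ⟨k, rfl⟩ := hp.odd_of_ne_two h2
  have h32 : 32 ∣ (2 * k + 1) * ((2 * k + 1) ^ 2 - 1) := by
    rw [← hm]
    exact Nat.mul_dvd_mul_left 2 h16
  have hcop : Nat.Coprime 32 (2 * k + 1) := by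
    rw [show (32 : ℕ) = 2 ^ 5 by norm_num]
    exact (Nat.coprime_two_left.2 ⟨k, rfl⟩).pow_left 5
  have hd := hcop.dvd_of_dvd_mul_left h32
  have he : (2 * k + 1) ^ 2 - 1 = 4 * (k * (k + 1)) := by
    rw [show (2 * k + 1) ^ 2 = 4 * (k * (k + 1)) + 1 by ring, Nat.add_sub_cancel]
  rw [he] at hd
  have h8 : 8 ∣ k * (k + 1) := Nat.dvd_of_mul_dvd_mul_left (by norm_num : 0 < 4) hd
  have hk : ∀ a : ℕ, a < 8 → a * (a + 1) % 8 = 0 → a = 0 ∨ a = 7 := by decide
  have hmod : (k % 8) * (k % 8 + 1) % 8 = 0 := by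
    have h0 := Nat.mod_eq_zero_of_dvd h8
    rw [Nat.mul_mod, Nat.add_mod] at h0
    rw [Nat.mul_mod, Nat.add_mod, Nat.mod_mod]
    exact h0
  rcases hk (k % 8) (Nat.mod_lt _ (by norm_num)) hmod with h | h <;> omega

/-- The case of a maximal subgroup: only the groups `L₂(p)` and `L₃(3)` occur. -/
theorem coatom_finish (hcov : CoverSupply.{u}) (hpsl : PSLSupply) (hm : ElevenSupply.{u})
    {N : Type u} [Group N] [Finite N] [IsSimpleGroup N] {H : Subgroup N}
    (e : H ≃* Equiv.Perm (Fin 4)) (hN : normalizer (fourOf e : Set N) = H)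
    (hC : centralizer (fourOf e : Set N) = fourOf e) (h16 : 16 ∣ Nat.card N) (hco : IsCoatom H) :
    (∃ p : ℕ, p.Prime ∧ (p % 16 = 1 ∨ p % 16 = 15) ∧
        Nonempty (N ≃* Matrix.ProjectiveSpecialLinearGroup (Fin 2) (ZMod p))) ∨
      Nonempty (N ≃* Matrix.ProjectiveSpecialLinearGroup (Fin 3) (ZMod 3)) := by
  classical
  haveI := isKleinFour_fourOf e
  rcases simple_core hcov (fourOf e) hC h16 with ⟨F, iF, iFF, hodd, h3, ⟨φ⟩⟩ | hL | hcard
  · left
    have hp := (psl_data e hN hC h16 hpsl hodd φ).1 hco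
    haveI := Fact.mk hp
    haveI : CharP F (Fintype.card F) := charP_of_card_eq_prime rfl
    obtain ⟨φ'⟩ := CfsgLib.InvChar.psl_congr (ZMod.ringEquiv F rfl).symm
    refine ⟨_, hp, mod_sixteen_of_dvd (m := Nat.card N) hp (by omega) ?_ h16, ⟨φ.trans φ'⟩⟩
    have h1 := CfsgLib.Linear.PSLTwo.mul_card (F := F)
    have hg : Nat.gcd 2 (Nat.card F - 1) = 2 := Nat.gcd_eq_left (by
      rw [Nat.card_eq_fintype_card]
      rw [Nat.odd_iff] at hodd
      omega)
    rw [hg] at h1
    rw [Nat.card_congr φ.toEquiv, ← Nat.card_eq_fintype_card]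
    exact h1
  · exact Or.inr hL
  · exact absurd (hN.symm ▸ hco)
      (hm N hcard (fourOf e) hC (by rw [hN, card_of_sym e]))

end CfsgLib.WongThree
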