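import Cfsg.Agent.WongThree.FortyEight
import Cfsg.Agent.WongThree.Finish
import Cfsg.Agent.SmallSimple.M11Uniq.Main
import Cfsg.Agent.M11Out.Main
import Cfsg.Agent.Golay.M11Fusion

/-!
# Point stabilisers `S₄ × C₂`
-/

set_option autoImplicit false
set_option linter.unusedSectionVars false
set_option linter.style.haveILetI false

namespace CfsgLib.WongThree

open Subgroup

universe u

/-- In a simple group of order 7920 every automorphism is inner. -/
theorem inner_of_card_eleven {N : Type u} [Group N] [Finite N] [IsSimpleGroup N]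
    (h : Nat.card N = 7920) (α : MulAut N) : ∃ n : N, ∀ x, α x = n * x * n⁻¹ := by
  haveI := CfsgLib.Golay.isSimple_M11
  obtain ⟨φ⟩ := CfsgLib.M11Uniq.nonempty_equiv (G := N) CfsgLib.Golay.card_M11 h
  set β := MulAut.congr φ α
  have hsub := (Nat.card_eq_one_iff_unique.1 CfsgLib.M11Out.card_out).1
  have hβ : β ∈ Cfsg.Inn ↥Cfsg.Spor.M11 :=
    (QuotientGroup.eq_one_iff β).1 (hsub.elim _ _)
  obtain ⟨m, hm⟩ := hβ
  refine ⟨φ.symm m, fun x => φ.injective ?_⟩
  have h1 : β (φ x) = m * φ x * m⁻¹ := by rw [← hm]; rfl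
  rw [map_mul, map_mul, map_inv, φ.apply_symm_apply, ← h1]
  show φ (α x) = φ (α (φ.symm (φ x)))
  rw [φ.symm_apply_apply]

/-- Stabilisers `S₄ × C₂`. -/
theorem eight_case (hcov : CoverSupply.{u}) (hpsl : PSLSupply) {G : Type u} [Group G] [Finite G]
    {H : Subgroup G} (P : Prim H) (e : H ≃* Equiv.Perm (Fin 4) × Multiplicative (ZMod 2))
    {C : Subgroup G} (hCH : C ≤ H) (hC : 3 * Nat.card C = Nat.card H) {g : G}
    (hg : g ∈ normalizer (C : Set G)) (hgH : g ∉ H) :
    ∃ N : Subgroup G, N.Normal ∧ N.index = 2 ∧ centralizer (N : Set G) = ⊥ ∧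
      Nonempty (N ≃* Matrix.ProjectiveSpecialLinearGroup (Fin 3) (ZMod 3)) := by
  classical
  haveI : Fact (Nat.Prime 2) := ⟨Nat.prime_two⟩
  obtain ⟨F⟩ := exists_frame48 P e hCH hC hg hgH
  have h32 : 32 ∣ Nat.card G := by
    obtain ⟨k, hk⟩ := IsPGroup.iff_card.1 F.two_T
    have h16 := F.lt_card_T
    rw [hk] at h16
    have h5 : 5 ≤ k := by
      by_contra h
      have := Nat.pow_le_pow_right (show 0 < 2 by norm_num) (show k ≤ 4 by omega)
      norm_num at this
      omega
    exact ((pow_dvd_pow 2 h5).trans (hk ▸ dvd_rfl)).trans F.T.card_subgroup_dvd_card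
  obtain ⟨N, t, hNn, hidx, hcN, -, htt, htN, hct, ⟨e1⟩⟩ := forty_eight_reduce P e hCH hC hg hgH
  haveI := hNn
  refine ⟨N, hNn, hidx, hcN, ?_⟩
  have h16 : 16 ∣ Nat.card N := by
    have h1 := N.card_mul_index
    rw [hidx] at h1
    omega
  have htH : t ∈ H := hct.le (mem_centralizer_singleton_iff.2 rfl)
  have htc : ∀ x ∈ H, x * t = t * x := fun x hx => mem_centralizer_singleton_iff.1 (hct.ge hx)
  have htout : ∀ x, x ∉ N → x * t ∈ N := fun x hx =>
    (mul_mem_iff_of_index_two hidx).2 ⟨fun h => absurd h hx, fun h => absurd h htN⟩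
  -- the copy of `S₄` inside `N`
  set H₀ := H.subgroupOf N with hH₀
  let j : H₀ ≃* ↥(H ⊓ N) :=
    { toFun := fun x => ⟨(x : N), mem_subgroupOf.1 x.2, (x : N).2⟩
      invFun := fun y => ⟨⟨y, (mem_inf.1 y.2).2⟩, mem_subgroupOf.2 (mem_inf.1 y.2).1⟩
      left_inv := fun _ => rfl
      right_inv := fun _ => rfl
      map_mul' := fun _ _ => rfl }
  set e0 : H₀ ≃* Equiv.Perm (Fin 4) := j.trans e1
  set W : Subgroup G := (fourOf e0).map N.subtype with hW
  have hWH : W ≤ H := by
    rintro _ ⟨x, hx, rfl⟩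
    exact mem_subgroupOf.1 (fourOf_le e0 hx)
  have hWne : W ≠ ⊥ := fun h => by
    have h4 := card_fourOf e0
    rw [(map_eq_bot_iff_of_injective _ N.subtype_injective).1 h, card_bot] at h4
    omega
  have hn : H ≤ normalizer (W : Set G) := by
    have h1 : ∀ y : G, ∀ hy : y ∈ N, y ∈ H → y ∈ normalizer (W : Set G) := by
      intro y hyN hyH
      have h2 : (⟨y, hyN⟩ : N) ∈ normalizer (fourOf e0 : Set N) :=
        le_normalizer_fourOf e0 (mem_subgroupOf.2 hyH)
      exact le_normalizer_map _ ⟨_, h2, rfl⟩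
    have ht : t ∈ normalizer (W : Set G) := by
      refine centralizer_le_normalizer _ (mem_centralizer_iff.2 fun w hw => htc w (hWH hw))
    intro x hx
    by_cases hxN : x ∈ N
    · exact h1 x hxN hx
    · have h2 := mul_mem (h1 _ (htout x hxN) (mul_mem hx htH)) ht
      rwa [mul_assoc, htt, mul_one] at h2
  have hWn := P.normalizer_eq hWH hWne hn
  have hN0 : normalizer (fourOf e0 : Set N) = H₀ := by
    refine le_antisymm (fun x hx => mem_subgroupOf.2 (hWn.le ?_)) (le_normalizer_fourOf e0)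
    exact le_normalizer_map _ ⟨x, hx, rfl⟩
  have hC0 : centralizer (fourOf e0 : Set N) = fourOf e0 :=
    (inf_eq_left.2 ((centralizer_le_normalizer _).trans hN0.le)).symm.trans (centralizer_inf_fourOf e0)
  -- the automorphism
  set α : MulAut N := MulAut.conjNormal t with hα
  have hα2 : α * α = 1 := by rw [hα, ← map_mul, htt, map_one]
  have hαv : ∀ x : N, ((α x : N) : G) = t * x * t⁻¹ := fun x => MulAut.conjNormal_apply t x
  have hα1 : α ≠ 1 := fun h => by
    have : t ∈ centralizer (N : Set G) := mem_centralizer_iff.2 fun x hx => by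
      have h1 := hαv ⟨x, hx⟩
      rw [h, MulAut.one_apply] at h1
      exact (mul_inv_eq_iff_eq_mul.1 h1.symm).symm
    rw [hcN, mem_bot] at this
    exact htN (this ▸ one_mem N)
  have hfix : ∀ x, α x = x ↔ x ∈ H₀ := fun x => by
    rw [hH₀, mem_subgroupOf, ← hct, mem_centralizer_singleton_iff, Subtype.ext_iff, hαv,
      mul_inv_eq_iff_eq_mul, eq_comm]
  haveI hsimple : IsSimpleGroup N := by
    refine isSimple_of e0 hN0 h16 hC0 α hα2 fun L hL hLα hLne => ?_
    set M : Subgroup G := L.map N.subtype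
    have hLN : ∀ y : G, ∀ hy : y ∈ N, y ∈ normalizer (M : Set G) := fun y hy =>
      le_normalizer_map _ ⟨⟨y, hy⟩, (normalizer_eq_top_iff.2 hL).ge (mem_top _), rfl⟩
    have htM : t ∈ normalizer (M : Set G) := by
      refine mem_normalizer_iff_map_conj_eq.2 ?_
      conv_rhs => rw [show M = (L.map α.toMonoidHom).map N.subtype by rw [hLα]]
      rw [map_map, map_map]
      congr 1
    haveI hMn : M.Normal := normalizer_eq_top_iff.1 (eq_top_iff.2 fun x _ => by
      by_cases hx : x ∈ N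
      · exact hLN x hx
      · have h2 := mul_mem (hLN _ (htout x hx)) htM
        rwa [mul_assoc, htt, mul_one] at h2)
    have hMne : M ≠ ⊥ := fun h => hLne ((map_eq_bot_iff_of_injective _ N.subtype_injective).1 h)
    refine eq_top_iff.2 fun x _ => ?_
    have hx : (x : G) ∈ M ⊔ H := by rw [P.sup_eq_top hMne]; exact mem_top _
    obtain ⟨_, ⟨l, hl, rfl⟩, k, hk, hlk⟩ := mem_sup_of_normal_left.1 hx
    have hk' : k = ((l⁻¹ * x : N) : G) := by
      rw [coe_mul, InvMemClass.coe_inv, ← hlk]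
      exact (inv_mul_cancel_left _ _).symm
    rw [show x = l * (l⁻¹ * x) by rw [mul_inv_cancel_left]]
    exact mul_mem (mem_sup_left hl) (mem_sup_right (mem_subgroupOf.2 (hk' ▸ hk)))
  haveI := isKleinFour_fourOf e0
  rcases simple_core hcov (fourOf e0) hC0 h16 with ⟨K, iK, iKF, hodd, -, ⟨φ⟩⟩ | hL | hcard
  · exact absurd hfix ((psl_data e0 hN0 hC0 h16 hpsl hodd φ).2 α hα2 hα1)
  · exact hL
  · exfalso
    obtain ⟨n, hn⟩ := inner_of_card_eleven hcard α
    have hmem : ((n : G))⁻¹ * t ∈ centralizer (N : Set G) := mem_centralizer_iff.2 fun x hx => by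
      have h1 : t * x * t⁻¹ = n * x * (n : G)⁻¹ := by
        have := hαv ⟨x, hx⟩
        rw [hn] at this
        exact this.symm
      calc x * ((n : G)⁻¹ * t) = (n : G)⁻¹ * (n * x * (n : G)⁻¹) * t := by group
        _ = (n : G)⁻¹ * t * x := by rw [← h1]; group
    rw [hcN, mem_bot, inv_mul_eq_one] at hmem
    exact htN (hmem ▸ n.2)

end CfsgLib.WongThree
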