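import Cfsg.Agent.WongThree.Basic
import Cfsg.Agent.WongThree.Finish

/-!
# Point stabilisers `S₄`
-/

set_option autoImplicit false
set_option linter.unusedSectionVars false
set_option linter.style.haveILetI false

namespace CfsgLib.WongThree

open Subgroup

universe u

variable {G : Type u} [Group G] [Finite G] {H : Subgroup G}

theorem Prim.four_normalizer (P : Prim H) (e : H ≃* Equiv.Perm (Fin 4)) :
    normalizer (fourOf e : Set G) = H ∧ centralizer (fourOf e : Set G) = fourOf e := by
  have hne : fourOf e ≠ ⊥ := fun h => by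
    have := card_fourOf e
    rw [h, card_bot] at this
    omega
  have hn := P.normalizer_eq (fourOf_le e) hne (le_normalizer_fourOf e)
  refine ⟨hn, ?_⟩
  have hle : centralizer (fourOf e : Set G) ≤ H := (centralizer_le_normalizer _).trans hn.le
  exact (inf_eq_left.2 hle).symm.trans (centralizer_inf_fourOf e)

/-- A Sylow subgroup of `S₄` contains only one four-group besides the normal one. -/
theorem four_unique (e : H ≃* Equiv.Perm (Fin 4)) {C : Subgroup G} (hCH : C ≤ H)
    (hC : Nat.card C = 8) (hV : fourOf e ≤ C) {W : Subgroup G} (hWC : W ≤ C) (hW : Nat.card W = 4)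
    (hW2 : ∀ w ∈ W, w * w = 1) {W' : Subgroup G} (hWC' : W' ≤ C) (hW' : Nat.card W' = 4)
    (hW2' : ∀ w ∈ W', w * w = 1) (hne : W ≠ fourOf e) (hne' : W' ≠ fourOf e) : W ≤ W' := by
  classical
  -- the structure of such a subgroup
  have hstr : ∀ X : Subgroup G, X ≤ C → Nat.card X = 4 → (∀ w ∈ X, w * w = 1) → X ≠ fourOf e →
      ∃ a ∈ X, a ∉ fourOf e ∧ ∃ v ∈ X, v ∈ fourOf e ∧ v ≠ 1 := by
    intro X hXC hX _ hXne
    obtain ⟨a, ha, haV⟩ : ∃ a ∈ X, a ∉ fourOf e := by
      by_contra h
      push Not at h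
      exact hXne (eq_of_le_of_card_ge h (by rw [card_fourOf e, hX]))
    refine ⟨a, ha, haV, ?_⟩
    by_contra h
    push Not at h
    have hf : Function.Injective (fun p : X × fourOf e =>
        (⟨(p.1 : G) * p.2, mul_mem (hXC p.1.2) (hV p.2.2)⟩ : C)) := by
      rintro ⟨x, v⟩ ⟨x', v'⟩ hp
      have hp' : (x : G) * v = x' * v' := congrArg Subtype.val hp
      have he : (x' : G)⁻¹ * x = v' * (v : G)⁻¹ := by
        rw [eq_mul_inv_iff_mul_eq, mul_assoc, hp', inv_mul_cancel_left]
      have h1 : (x' : G)⁻¹ * x = 1 := h _ (mul_mem (inv_mem x'.2) x.2)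
        (by rw [he]; exact mul_mem v'.2 (inv_mem v.2))
      have hx : x = x' := Subtype.ext (inv_mul_eq_one.1 h1).symm
      subst hx
      simp only [mul_right_inj, SetLike.coe_eq_coe] at hp'
      rw [hp']
    have := Nat.card_le_card_of_injective _ hf
    rw [Nat.card_prod, hX, card_fourOf e, hC] at this
    omega
  obtain ⟨a, ha, haV, v, hvW, hvV, hv1⟩ := hstr W hWC hW hW2 hne
  obtain ⟨a', ha', haV', v', hvW', hvV', hv1'⟩ := hstr W' hWC' hW' hW2' hne'
  -- transport to `S₄`
  have hS : ∀ x (hx : x ∈ H), x * x = 1 → e ⟨x, hx⟩ * e ⟨x, hx⟩ = 1 := fun x hx h => by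
    rw [← map_mul, show (⟨x, hx⟩ : H) * ⟨x, hx⟩ = 1 from Subtype.ext h, map_one]
  have hout : ∀ x (hx : x ∈ H), x ∉ fourOf e → e ⟨x, hx⟩ ∉ kleinS4 := fun x hx h h' =>
    h (mem_fourOf.2 ⟨hx, h'⟩)
  have hin : ∀ x (hx : x ∈ H), x ∈ fourOf e → e ⟨x, hx⟩ ∈ kleinS4 := fun x hx h => by
    obtain ⟨_, h'⟩ := mem_fourOf.1 h
    exact h'
  have hcomm : ∀ (X : Subgroup G), (∀ w ∈ X, w * w = 1) → ∀ x ∈ X, ∀ y ∈ X, x * y = y * x :=
    fun X hX x hx y hy => by
      have h := hX _ (mul_mem hx hy)
      rw [mul_assoc, mul_eq_one_iff_eq_inv] at h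
      calc x * y = x * y * ((y * x) * (y * x)) := by rw [hX _ (mul_mem hy hx), mul_one]
        _ = x * (y * y) * x * (y * x) := by group
        _ = _ := by rw [hX y hy, mul_one, hX x hx, one_mul]
  have haH := hCH (hWC ha)
  have haH' := hCH (hWC' ha')
  -- a product of two outer elements is inner
  have hprod : ∀ x ∈ C, ∀ y ∈ C, x ∉ fourOf e → y ∉ fourOf e → x * y ∈ fourOf e := by
    intro x hx y hy hx' hy'
    set K := (fourOf e).subgroupOf C
    have hi : K.index = 2 := by
      have h1 := K.card_mul_index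
      rw [Nat.card_congr (subgroupOfEquivOfLe hV).toEquiv, card_fourOf e, hC] at h1
      omega
    have h2 := (mul_mem_iff_of_index_two hi (a := ⟨x, hx⟩) (b := ⟨y, hy⟩)).2
      ⟨fun h => absurd (mem_subgroupOf.1 h) hx', fun h => absurd (mem_subgroupOf.1 h) hy'⟩
    exact mem_subgroupOf.1 h2
  have haa := hprod a (hWC ha) a' (hWC' ha') haV haV'
  have hcaa : a * a' = a' * a := by
    have := kleinS4_outer (e ⟨a, haH⟩) (e ⟨a', haH'⟩) (hS a haH (hW2 a ha)) (hS a' haH' (hW2' a' ha'))
      (hout a haH haV) (hout a' haH' haV') (by rw [← map_mul]; exact hin _ _ haa)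
    rw [← map_mul, ← map_mul] at this
    exact congrArg Subtype.val (e.injective this)
  have hfix : ∀ x y, x ∈ fourOf e → y ∈ fourOf e → x ≠ 1 → y ≠ 1 → a * x = x * a → a * y = y * a →
      x = y := by
    intro x y hx hy hx1 hy1 hax hay
    have hxH := fourOf_le e hx
    have hyH := fourOf_le e hy
    have h1 : ∀ z (hz : z ∈ H), a * z = z * a → e ⟨a, haH⟩ * e ⟨z, hz⟩ = e ⟨z, hz⟩ * e ⟨a, haH⟩ :=
      fun z hz h => by rw [← map_mul, ← map_mul]; exact congrArg e (Subtype.ext h)
    have := kleinS4_fix (e ⟨a, haH⟩) (e ⟨x, hxH⟩) (e ⟨y, hyH⟩) (hS a haH (hW2 a ha)) (hout a haH haV)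
      (hin x hxH hx) (hin y hyH hy)
      (fun h => hx1 (congrArg Subtype.val (e.injective (h.trans (map_one e).symm))))
      (fun h => hy1 (congrArg Subtype.val (e.injective (h.trans (map_one e).symm))))
      (h1 x hxH hax) (h1 y hyH hay)
    exact congrArg Subtype.val (e.injective this)
  -- `a` lies in `W'`
  have haW' : a ∈ W' := by
    by_cases h1 : a * a' = 1
    · rw [show a = a'⁻¹ from eq_inv_of_mul_eq_one_left h1]
      exact inv_mem ha'
    · have h2 : a * (a * a') = a * a' * a := by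
        calc a * (a * a') = a * (a' * a) := by rw [← hcaa]
          _ = _ := by rw [mul_assoc]
      have h3 : a' * (a * a') = a * a' * a' := by rw [← mul_assoc, ← hcaa]
      have h4 : a' * v' = v' * a' := hcomm W' hW2' a' ha' v' hvW'
      -- `v'` commutes with `a` as `a = (a a') a'`
      have h5 : a * v' = v' * a := by
        have h6 : Commute (a * a') v' :=
          hcomm (fourOf e) (fun w hw => fourOf_sq e hw) _ haa v' hvV'
        have h7 : Commute (a * a' * a') v' := h6.mul_left h4
        rwa [mul_assoc, hW2' a' ha', mul_one] at h7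
      have h8 : a * a' = v' := hfix _ _ haa hvV' h1 hv1' h2 h5
      rw [show a = v' * a'⁻¹ by rw [← h8, mul_inv_cancel_right]]
      exact mul_mem hvW' (inv_mem ha')
  have hav' : a * v' = v' * a := hcomm W' hW2' a haW' v' hvW'
  have hvv : v = v' := hfix v v' hvV hvV' hv1 hv1' (hcomm W hW2 a ha v hvW) hav'
  intro x hx
  by_cases hxV : x ∈ fourOf e
  · by_cases hx1 : x = 1
    · rw [hx1]; exact one_mem _
    · rw [hfix x v hxV hvV hx1 hv1 (hcomm W hW2 a ha x hx) (hcomm W hW2 a ha v hvW), hvv]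
      exact hvW'
  · have hxa := hprod x (hWC hx) a (hWC ha) hxV haV
    by_cases hxa1 : x * a = 1
    · rw [show x = a⁻¹ from eq_inv_of_mul_eq_one_left hxa1]
      exact inv_mem haW'
    · have h9 : a * (x * a) = x * a * a := by rw [← mul_assoc, hcomm W hW2 a ha x hx]
      have h10 := hfix _ v hxa hvV hxa1 hv1 h9 (hcomm W hW2 a ha v hvW)
      rw [show x = v * a⁻¹ by rw [← h10, mul_inv_cancel_right], hvv]
      exact mul_mem hvW' (inv_mem haW')

/-- Sixteen divides the order of the group. -/
theorem Prim.sixteen_dvd (P : Prim H) (e : H ≃* Equiv.Perm (Fin 4)) {C : Subgroup G} (hCH : C ≤ H)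
    (hC : 3 * Nat.card C = Nat.card H) {g : G} (hg : g ∈ normalizer (C : Set G)) (hgH : g ∉ H) :
    16 ∣ Nat.card G := by
  classical
  haveI : Fact (Nat.Prime 2) := ⟨Nat.prime_two⟩
  obtain ⟨hN, -⟩ := P.four_normalizer e
  have hC8 : Nat.card C = 8 := by rw [card_of_sym e] at hC; omega
  have hV : fourOf e ≤ C := by
    set V := fourOf e
    set K := V ⊔ C
    have hKH : K ≤ H := sup_le (fourOf_le e) hCH
    have hCn : C ≤ normalizer (V : Set G) := hCH.trans (le_normalizer_fourOf e)
    have hKp : IsPGroup 2 K := (IsPGroup.of_card (n := 2) (by rw [card_fourOf e]; rfl)).to_sup_of_normal_left'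
      (IsPGroup.of_card (n := 3) (by rw [hC8]; rfl)) hCn
    obtain ⟨k, hk⟩ := IsPGroup.iff_card.1 hKp
    have hd := card_dvd_of_le hKH
    rw [card_of_sym e, hk] at hd
    have hk3 : k ≤ 3 := by
      by_contra h
      have : 16 ∣ 24 := (pow_dvd_pow 2 (show 4 ≤ k by omega)).trans hd
      norm_num at this
    have hle : Nat.card K ≤ Nat.card C := by
      rw [hk, hC8, show (8 : ℕ) = 2 ^ 3 by norm_num]
      exact Nat.pow_le_pow_right (by norm_num) hk3
    exact le_sup_left.trans (eq_of_le_of_card_ge (le_sup_right : C ≤ K) hle).ge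
  have hCnorm : ∀ x ∈ normalizer (C : Set G), x ∈ H → x ∈ C := by
    intro x hx hxH
    set D := normalizer (C : Set G) ⊓ H
    have hCD : C ≤ D := le_inf le_normalizer hCH
    have h1 : C.relIndex D * D.relIndex H = C.relIndex H := relIndex_mul_relIndex _ _ _ hCD inf_le_right
    have h3 : C.relIndex H = 3 := by
      have := (C.subgroupOf H).card_mul_index
      rw [Nat.card_congr (subgroupOfEquivOfLe hCH).toEquiv, hC8, card_of_sym e] at this
      show (C.subgroupOf H).index = 3
      omega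
    rw [h3] at h1
    rcases (Nat.dvd_prime Nat.prime_three).1 ⟨_, h1.symm⟩ with h | h
    · exact relIndex_eq_one.1 h (mem_inf.2 ⟨hx, hxH⟩)
    · exfalso
      have hDH : D = H := by
        refine eq_of_le_of_card_ge inf_le_right (le_of_eq ?_)
        have h2 : (C.subgroupOf D).index = 3 := h
        have := (C.subgroupOf D).card_mul_index
        rw [Nat.card_congr (subgroupOfEquivOfLe hCD).toEquiv, hC8, h2] at this
        rw [card_of_sym e]
        omega
      have hHn : H ≤ normalizer (C : Set G) := hDH.ge.trans inf_le_left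
      have hne : C ≠ ⊥ := fun h => by rw [h, card_bot] at hC8; omega
      exact hgH ((P.normalizer_eq hCH hne hHn).le hg)
  set V := fourOf e
  set f := (MulAut.conj g).toMonoidHom
  have hgC : C.map f = C := mem_normalizer_iff_map_conj_eq.1 hg
  have h2map : ∀ X : Subgroup G, (∀ w ∈ X, w * w = 1) → ∀ w ∈ X.map f, w * w = 1 := by
    rintro X hX _ ⟨w, hw, rfl⟩
    rw [← map_mul, hX w hw, map_one]
  set W := V.map f
  have hWC : W ≤ C := (map_mono hV).trans hgC.le
  have hW : Nat.card W = 4 := (card_map_of_injective (MulAut.conj g).injective).trans (card_fourOf e)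
  have hVsq : ∀ w ∈ V, w * w = 1 := fun w hw => fourOf_sq e hw
  have hWne : W ≠ V := fun h => hgH (hN.le (mem_normalizer_iff_map_conj_eq.2 h))
  have hg2 : g * g ∈ H := by
    refine hN.le (mem_normalizer_iff_map_conj_eq.2 ?_)
    set X := W.map f
    have hX : X = V := by
      by_contra hne
      have hXC : X ≤ C := (map_mono hWC).trans hgC.le
      have hXc : Nat.card X = 4 := (card_map_of_injective (MulAut.conj g).injective).trans hW
      have hXW : X = W := eq_of_le_of_card_ge
        (four_unique e hCH hC8 hV hXC hXc (h2map W (h2map V hVsq)) hWC hW (h2map V hVsq) hne hWne)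
        (by rw [hXc, hW])
      exact hWne (map_injective (f := f) (MulAut.conj g).injective hXW)
    calc V.map (MulAut.conj (g * g)).toMonoidHom = X := by
          show _ = (V.map f).map f
          rw [map_map, map_mul]
          rfl
      _ = V := hX
  have hg2C : g * g ∈ C := hCnorm _ (mul_mem hg hg) hg2
  have hCn : C ≤ normalizer (C : Set G) := le_normalizer
  set M := normalizer (C : Set G)
  haveI : (C.subgroupOf M).Normal := normal_subgroupOf_of_le_normalizer le_rfl
  have hord : orderOf (QuotientGroup.mk' (C.subgroupOf M) ⟨g, hg⟩) = 2 := by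
    refine orderOf_eq_prime ?_ fun h => ?_
    · rw [← map_pow]
      exact (QuotientGroup.eq_one_iff _).2 (mem_subgroupOf.2 (by rw [sq]; exact hg2C))
    · exact hgH (hCH (mem_subgroupOf.1 ((QuotientGroup.eq_one_iff _).1 h)))
  have h2 : 2 ∣ (C.subgroupOf M).index := by
    rw [index_eq_card, ← hord]
    exact _root_.orderOf_dvd_natCard _
  have h16 : 8 * 2 ∣ Nat.card M := by
    rw [← (C.subgroupOf M).card_mul_index, Nat.card_congr (subgroupOfEquivOfLe hCn).toEquiv, hC8]
    exact Nat.mul_dvd_mul_left 8 h2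
  exact h16.trans M.card_subgroup_dvd_card

/-- Stabilisers `S₄`. -/
theorem four_case (hcov : CoverSupply.{u}) (hpsl : PSLSupply) (hm : ElevenSupply.{u}) (P : Prim H)
    (e : H ≃* Equiv.Perm (Fin 4)) {C : Subgroup G} (hCH : C ≤ H)
    (hC : 3 * Nat.card C = Nat.card H) {g : G} (hg : g ∈ normalizer (C : Set G)) (hgH : g ∉ H) :
    (∃ p : ℕ, p.Prime ∧ (p % 16 = 1 ∨ p % 16 = 15) ∧
        Nonempty (G ≃* Matrix.ProjectiveSpecialLinearGroup (Fin 2) (ZMod p))) ∨
      Nonempty (G ≃* Matrix.ProjectiveSpecialLinearGroup (Fin 3) (ZMod 3)) := by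
  obtain ⟨hN, hV⟩ := P.four_normalizer e
  have h16 := P.sixteen_dvd e hCH hC hg hgH
  haveI : IsSimpleGroup G := isSimple_of e hN h16 hV 1 (one_mul 1)
    fun L hL _ hne => (haveI := hL; P.sup_eq_top hne)
  exact coatom_finish hcov hpsl hm e hN hV h16 P.coatom

end CfsgLib.WongThree
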