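import Cfsg.Agent.NsePGL2.Model
import Cfsg.Agent.Classical.PSLTwoFour
import Cfsg.Agent.InvChar.OneSixtyEight
import Cfsg.Agent.Char.Orthogonality

/-!
# Involutions of `PSL₂` and `PGL₂` with a centraliser of order twelve
-/

set_option autoImplicit false
set_option linter.unusedSectionVars false
set_option linter.style.haveILetI false

namespace CfsgLib.WongThree

open Subgroup
open scoped MatrixGroups
open CfsgLib.Linear.SmallSub (P2)
open CfsgLib.Dickson (PGL2)

universe u

theorem class_mul_centralizer {K : Type*} [Group K] [Finite K] (g : K) :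
    Nat.card {x : K // IsConj g x} * Nat.card (centralizer ({g} : Set K)) = Nat.card K :=
  CfsgLib.Char.card_conj_class_mul_card_centralizer g

variable {F : Type} [Field F] [Fintype F]

theorem pgl_two_element (p f : ℕ) [Fact p.Prime] [CharP F p] (hf : 0 < f)
    (hq : Nat.card F = p ^ f) (h2 : p = 2) {z : PGL2 F} (hz : z * z = 1) :
    p ^ f ∣ Nat.card (centralizer ({z} : Set (PGL2 F))) := by
  classical
  haveI := CfsgLib.NsePGL2.finite_pgl (F := F)
  obtain ⟨g, v, hv⟩ := CfsgLib.NsePGL2.exists_conj_unip (F := F) hf hq (x := z)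
    ⟨1, by rw [h2, pow_one, sq, hz]⟩
  have hle : (CfsgLib.NsePGL2.unip F).range.map (MulAut.conj g).toMonoidHom ≤
      centralizer ({z} : Set (PGL2 F)) := by
    rintro _ ⟨_, ⟨w, rfl⟩, rfl⟩
    rw [mem_centralizer_singleton_iff, hv, MulEquiv.coe_toMonoidHom, ← MulAut.conj_apply,
      ← map_mul, ← map_mul, ← map_mul, ← map_mul, mul_comm]
  refine dvd_trans (dvd_of_eq ?_) (card_dvd_of_le hle)
  rw [card_map_of_injective (MulAut.conj g).injective,
    ← Nat.card_congr (MonoidHom.ofInjective (CfsgLib.NsePGL2.unip_injective (F := F))).toEquiv]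
  exact hq.symm

/-- An element of `PSL₂` seen in `PGL₂`. -/
theorem psl_equiv_pgl (hq : Even (Nat.card F)) :
    Nonempty (P2 F ≃* PGL2 F) := by
  classical
  haveI := CfsgLib.NsePGL2.finite_pgl (F := F)
  refine ⟨MulEquiv.ofBijective Matrix.ProjectiveSpecialLinearGroup.toPGL
    ((Nat.bijective_iff_injective_and_card _).2
      ⟨Matrix.ProjectiveSpecialLinearGroup.toPGL_injective, ?_⟩)⟩
  have h1 := CfsgLib.Linear.PSLTwo.mul_card (F := F)
  have h2 := CfsgLib.Linear.PSLTwo.card_pgl (F := F)
  have hodd : ¬ 2 ∣ Nat.card F - 1 := by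
    have := Finite.one_lt_card (α := F)
    obtain ⟨k, hk⟩ := hq
    omega
  rw [(Nat.coprime_iff_gcd_eq_one).1 ((Nat.prime_two.coprime_iff_not_dvd).2 hodd), one_mul] at h1
  exact h1.trans h2.symm

theorem odd_psl_involution (hodd : Odd (Fintype.card F)) {z : P2 F} (hz : z * z = 1) (hz1 : z ≠ 1) :
    Nat.card (centralizer ({z} : Set (P2 F))) =
      if Fintype.card F % 4 = 1 then Fintype.card F - 1 else Fintype.card F + 1 := by
  obtain ⟨x, U, m, hx, hx1, -, -, -, hm, -, hcard, -⟩ :=
    CfsgLib.Linear.FourGroups.centralizer_shape (F := F) hodd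
  obtain ⟨g, hg⟩ :=
    isConj_iff.1 (CfsgLib.Linear.FourGroups.involutions_conj hodd hx hx1 hz hz1)
  have h1 := class_mul_centralizer x
  have h2 := class_mul_centralizer z
  have e : Nat.card {y : P2 F // IsConj z y} = Nat.card {y : P2 F // IsConj x y} := by
    have hxz : IsConj x z := isConj_iff.2 ⟨g, hg⟩
    exact Nat.card_congr (Equiv.subtypeEquivRight fun y =>
      ⟨fun h => hxz.trans h, fun h => hxz.symm.trans h⟩)
  rw [e, ← h1] at h2
  have hpos : 0 < Nat.card {y : P2 F // IsConj x y} :=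
    Nat.card_pos_iff.2 ⟨⟨⟨x, IsConj.refl x⟩⟩, inferInstance⟩
  rw [Nat.eq_of_mul_eq_mul_left hpos h2, hcard]
  exact hm

/-- The centraliser of order twelve. -/
theorem pgl_involution_twelve (hodd : Odd (Fintype.card F)) {z : PGL2 F}
    (hz : orderOf z = 2) (hC : Nat.card (centralizer ({z} : Set (PGL2 F))) = 12) :
    Fintype.card F ≤ 7 := by
  classical
  obtain ⟨p, hp⟩ := CharP.exists F
  haveI := hp
  obtain ⟨⟨f, hf⟩, hprime, hq⟩ := FiniteField.card F p
  haveI := Fact.mk hprime
  haveI := CfsgLib.NsePGL2.finite_pgl (F := F)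
  have hp2 : p ≠ 2 := fun e => by
    rw [hq, e] at hodd
    exact (Nat.not_even_iff_odd.2 hodd) ((Nat.even_pow).2 ⟨even_two, hf.ne'⟩)
  have h2 : (2 : F) ≠ 0 := Ring.two_ne_zero (by rwa [ringChar.eq F p])
  set q := Fintype.card F with hqdef
  have hqc : Nat.card F = q := Nat.card_eq_fintype_card
  have hq3 : 3 ≤ q := by
    have := Fintype.one_lt_card (α := F)
    obtain ⟨k, hk⟩ := hodd
    omega
  set ι : P2 F →* PGL2 F := Matrix.ProjectiveSpecialLinearGroup.toPGL
  have hι : Function.Injective ι := Matrix.ProjectiveSpecialLinearGroup.toPGL_injective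
  have hL : 2 * Nat.card (P2 F) = q * (q ^ 2 - 1) := by
    have h1 := CfsgLib.Linear.PSLTwo.mul_card (F := F)
    rw [hqc] at h1
    rwa [Nat.gcd_eq_left (by obtain ⟨k, hk⟩ := hodd; omega)] at h1
  have hG : Nat.card (PGL2 F) = q * (q ^ 2 - 1) := by
    rw [CfsgLib.Linear.PSLTwo.card_pgl, hqc]
  -- the inner involutions
  obtain ⟨x, U, m, hx, hx1, -, -, -, hm, -, hCx, -⟩ :=
    CfsgLib.Linear.FourGroups.centralizer_shape (F := F) hodd
  have hin : Nat.card {y : P2 F // IsConj x y} * (2 * m) = Nat.card (P2 F) := by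
    rw [← hCx]; exact class_mul_centralizer x
  have hinv : Nat.card {y : PGL2 F // orderOf y = 2} = q ^ 2 := by
    have h := CfsgLib.NsePGL2.cnt_two (F := F) h2
    rw [hqc] at h
    exact h
  have hcl : Nat.card {y : PGL2 F // IsConj z y} * 12 = q * (q ^ 2 - 1) := by
    rw [← hC, ← hG]; exact class_mul_centralizer z
  have hord : ∀ y, IsConj z y → orderOf y = 2 := fun y hy => by
    obtain ⟨c, rfl⟩ := isConj_iff.1 hy
    rw [show c * z * c⁻¹ = MulAut.conj c z from rfl, MulEquiv.orderOf_eq, hz]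
  have hmap : ∀ y : P2 F, IsConj x y → orderOf (ι y) = 2 := fun y hy => by
    obtain ⟨c, rfl⟩ := isConj_iff.1 hy
    rw [orderOf_injective ι hι, show c * x * c⁻¹ = MulAut.conj c x from rfl, MulEquiv.orderOf_eq]
    exact orderOf_eq_prime (by rw [sq, hx]) hx1
  haveI hn : (ι.range).Normal := Subgroup.normal_of_index_eq_two (by
    have h1 := ι.range.card_mul_index
    rw [← Nat.card_congr (MonoidHom.ofInjective hι).toEquiv, hG, ← hL, mul_comm 2] at h1
    exact Nat.eq_of_mul_eq_mul_left Nat.card_pos h1)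
  have hbound : Nat.card {y : PGL2 F // IsConj z y} ≤ Nat.card {y : P2 F // IsConj x y} ∨
      Nat.card {y : PGL2 F // IsConj z y} + Nat.card {y : P2 F // IsConj x y} ≤ q ^ 2 := by
    by_cases hzL : z ∈ ι.range
    · left
      have hpre : ∀ y : {y : PGL2 F // IsConj z y}, ∃ w : P2 F, ι w = y.1 ∧ IsConj x w := fun y => by
        obtain ⟨c, hc⟩ := isConj_iff.1 y.2
        obtain ⟨w, hw⟩ := hn.conj_mem z hzL c
        refine ⟨w, hw.trans hc, CfsgLib.Linear.FourGroups.involutions_conj hodd hx hx1 (hι ?_) ?_⟩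
        · have e2 := pow_orderOf_eq_one y.1
          rw [hord _ y.2] at e2
          rw [map_mul, map_one, hw.trans hc, ← sq, e2]
        · intro e
          have := hord _ y.2
          rw [← hw.trans hc, e, map_one, orderOf_one] at this
          norm_num at this
      choose w hw hwc using hpre
      exact Nat.card_le_card_of_injective (fun y => (⟨w y, hwc y⟩ : {y : P2 F // IsConj x y}))
        fun a b h => Subtype.ext (by
          have e : w a = w b := congrArg Subtype.val h
          rw [← hw a, ← hw b, e])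
    · right
      rw [← hinv, ← Nat.card_sum]
      refine Nat.card_le_card_of_injective (Sum.elim (fun y => ⟨y.1, hord _ y.2⟩)
        (fun y => ⟨ι y.1, hmap _ y.2⟩)) ?_
      refine Function.Injective.sumElim (fun a b h => Subtype.ext (congrArg Subtype.val h :))
        (fun a b h => Subtype.ext (hι (congrArg Subtype.val h :))) fun a b h => hzL ?_
      obtain ⟨c, hc⟩ := isConj_iff.1 a.2
      have := hn.conj_mem a.1 ⟨b.1, (congrArg Subtype.val h).symm⟩ c⁻¹
      rwa [← hc, inv_inv, show c⁻¹ * (c * z * c⁻¹) * c = z by group] at this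
  set a := Nat.card {y : PGL2 F // IsConj z y}
  set b := Nat.card {y : P2 F // IsConj x y}
  have hm' : 2 * m = q - 1 ∨ 2 * m = q + 1 := by
    rw [hm]
    split_ifs
    · exact Or.inl rfl
    · exact Or.inr rfl
  have hb : 4 * b * m = q * (q ^ 2 - 1) := by rw [← hL, ← hin]; ring
  by_contra h7
  push Not at h7
  obtain ⟨r, hr⟩ : ∃ r, q = r + 1 := ⟨q - 1, by omega⟩
  rw [hr] at hcl hb hm' hbound h7
  have e1 : (r + 1) ^ 2 - 1 = r * (r + 2) := by
    have : (r + 1) ^ 2 = r * (r + 2) + 1 := by ring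
    omega
  rw [e1] at hcl hb
  rcases hm' with h | h
  · have hb' : 2 * b = (r + 1) * (r + 2) := by
      refine Nat.eq_of_mul_eq_mul_right (show 0 < r by omega) ?_
      have h' : 2 * m = r := by omega
      calc 2 * b * r = 4 * b * m := by rw [← h']; ring
        _ = _ := by rw [hb]; ring
    rcases hbound with hh | hh
    · nlinarith
    · nlinarith
  · have hb' : 2 * b = (r + 1) * r := by
      refine Nat.eq_of_mul_eq_mul_right (show 0 < r + 2 by omega) ?_
      have h' : 2 * m = r + 2 := by omega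
      calc 2 * b * (r + 2) = 4 * b * m := by rw [← h']; ring
        _ = _ := by rw [hb]; ring
    rcases hbound with hh | hh
    · nlinarith
    · nlinarith

end CfsgLib.WongThree
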