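import Cfsg.Agent.S0494
import Cfsg.Agent.AutAlt.Main
import Cfsg.Agent.ThompsonWielandt.AltFacts

/-!
# Groups of order 120 with a self-centralising simple subgroup of order 60
-/

set_option autoImplicit false
set_option linter.unusedSectionVars false
set_option linter.style.haveILetI false

namespace CfsgLib.WongThree

open Subgroup

universe u

theorem sym_five {G : Type u} [Group G] [Finite G] (L : Subgroup G) [L.Normal] [IsSimpleGroup L]
    (hG : Nat.card G = 120) (hL : Nat.card L = 60) (hC : centralizer (L : Set G) = ⊥) :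
    Nonempty (G ≃* Equiv.Perm (Fin 5)) := by
  classical
  obtain ⟨e⟩ := Cfsg.Agent.S0494.result (G := L) hL
  let c : Equiv.Perm (Fin 5) →* MulAut (alternatingGroup (Fin 5)) := MulAut.conjNormal
  have hc : Function.Bijective c := by
    refine ⟨(injective_iff_map_eq_one c).2 fun σ hσ => ?_, fun φ =>
      CfsgLib.AutAlt.exists_conj (Ω := Fin 5) (by simp) (by simp) (show (0 : Fin 5) ≠ 1 by decide) φ⟩
    have hm : σ ∈ centralizer (alternatingGroup (Fin 5) : Set (Equiv.Perm (Fin 5))) :=
      mem_centralizer_iff.2 fun v hv => by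
        have := congrArg Subtype.val (DFunLike.congr_fun hσ ⟨v, hv⟩)
        rw [MulAut.conjNormal_apply, MulAut.one_apply, mul_inv_eq_iff_eq_mul] at this
        exact this.symm
    rwa [CfsgLib.ThompsonWielandt.centralizer_alternating (by simp), mem_bot] at hm
  let f : G →* MulAut (alternatingGroup (Fin 5)) :=
    (MulAut.congr e).toMonoidHom.comp (MulAut.conjNormal : G →* MulAut L)
  have hf : Function.Injective f := by
    refine (injective_iff_map_eq_one f).2 fun g hg => ?_
    have hm : g ∈ centralizer (L : Set G) := mem_centralizer_iff.2 fun l hl => by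
      have h1 : (MulAut.conjNormal g : MulAut L) = 1 := (MulAut.congr e).injective (hg.trans (map_one _).symm)
      have h2 := congrArg Subtype.val (DFunLike.congr_fun h1 ⟨l, hl⟩)
      rw [MulAut.conjNormal_apply, MulAut.one_apply, mul_inv_eq_iff_eq_mul] at h2
      exact h2.symm
    rwa [hC, mem_bot] at hm
  let ec := MulEquiv.ofBijective c hc
  refine ⟨MulEquiv.ofBijective (ec.symm.toMonoidHom.comp f)
    ((Nat.bijective_iff_injective_and_card _).2 ⟨fun a b h => hf (ec.symm.injective h), ?_⟩)⟩
  rw [hG, Nat.card_perm, Nat.card_fin]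
  rfl

end CfsgLib.WongThree
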