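import Cfsg.Agent.WongThree.Basic
import Cfsg.Agent.WongThree.PGLTools
import Cfsg.Agent.WongThree.SymFive
import Cfsg.Agent.S3322
import Cfsg.Agent.GWApps.QDCentralizer
import Cfsg.Agent.GWApps.QuaternionNormal

/-!
# Point stabilisers of order twelve
-/

set_option autoImplicit false
set_option linter.unusedSectionVars false
set_option linter.style.haveILetI false

namespace CfsgLib.WongThree

open Subgroup

universe u

theorem centralizer_card_equiv {G K : Type*} [Group G] [Group K] (e : G ≃* K) (z : G) :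
    Nat.card (centralizer ({e z} : Set K)) = Nat.card (centralizer ({z} : Set G)) := by
  refine (Nat.card_congr (e.toEquiv.subtypeEquiv fun g => ?_)).symm
  rw [mem_centralizer_singleton_iff, mem_centralizer_singleton_iff]
  show _ ↔ e g * e z = e z * e g
  rw [← map_mul, ← map_mul, e.injective.eq_iff]

theorem ringEquiv_zmod {F : Type} [Field F] [Fintype F] {p : ℕ} [Fact p.Prime]
    (h : Fintype.card F = p) : Nonempty (F ≃+* ZMod p) := by
  haveI : CharP F p := charP_of_card_eq_prime h
  exact ⟨(ZMod.ringEquiv F (by rw [← h])).symm⟩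

theorem pgl_congr {K L : Type} [Field K] [Field L] (f : K ≃+* L) :
    Nonempty (Matrix.ProjGenLinGroup (Fin 2) K ≃* Matrix.ProjGenLinGroup (Fin 2) L) := by
  let e : GL (Fin 2) K ≃* GL (Fin 2) L := Units.mapEquiv f.mapMatrix.toMulEquiv
  exact ⟨QuotientGroup.congr _ _ e
    (CfsgLib.GWApps.QNormal.centerCongr_map e)⟩

/-- A simple group of order 60 is `A₅`, so an insoluble group of order 60 with no soluble normal
subgroup is `A₅`. -/
theorem Prim.alt_five {G : Type u} [Group G] [Finite G] {H : Subgroup G} (P : Prim H)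
    (hG : Nat.card G = 60) (e : ∃ (K : Type) (_ : Group K), IsSimpleGroup K ∧ Nonempty (G ≃* K)) :
    Nonempty (G ≃* alternatingGroup (Fin 5)) := by
  obtain ⟨K, _, hK, ⟨e⟩⟩ := e
  haveI : Nontrivial G := e.toEquiv.nontrivial
  haveI : IsSimpleGroup G :=
    IsSimpleGroup.isSimpleGroup_of_surjective e.symm.toMonoidHom e.symm.surjective
  exact Cfsg.Agent.S0494.result hG

local instance factTwoTwelve : Fact (Nat.Prime 2) := ⟨Nat.prime_two⟩

theorem dihedral_six_facts :
    (∀ x : DihedralGroup 6, (∀ i, x ≠ DihedralGroup.r i) → x ^ 2 = 1) ∧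
    ((∀ y : DihedralGroup 6, y * DihedralGroup.r 3 = DihedralGroup.r 3 * y) ∧
      (DihedralGroup.r 3 : DihedralGroup 6) ^ 2 = 1 ∧ (DihedralGroup.r 3 : DihedralGroup 6) ≠ 1) := by
  refine ⟨?_, ?_⟩
  · rintro (i | i) h
    · exact absurd rfl (h i)
    · simp [sq, DihedralGroup.sr_mul_sr]
  · decide

/-- Stabilisers `D₁₂`. -/
theorem twelve_case {G : Type u} [Group G] [Finite G] {H : Subgroup G} (P : Prim H)
    (e : H ≃* DihedralGroup 6) :
    Nonempty (G ≃* alternatingGroup (Fin 5)) ∨ Nonempty (G ≃* Equiv.Perm (Fin 5)) ∨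
      Nonempty (G ≃* Matrix.ProjGenLinGroup (Fin 2) (ZMod 7)) ∨
      Nonempty (G ≃* Matrix.ProjectiveSpecialLinearGroup (Fin 2) (ZMod 11)) ∨
      Nonempty (G ≃* Matrix.ProjectiveSpecialLinearGroup (Fin 2) (ZMod 13)) := by
  classical
  obtain ⟨hout, hzc, hz2, hz1⟩ := dihedral_six_facts
  have hH : Nat.card H = 12 := by rw [Nat.card_congr e.toEquiv, DihedralGroup.nat_card]
  set A : Subgroup G := ((zpowers (DihedralGroup.r 1 : DihedralGroup 6)).comap e.toMonoidHom).map H.subtype
  have hAmem : ∀ (x : G) (hx : x ∈ H), x ∈ A → ∃ i, e ⟨x, hx⟩ = DihedralGroup.r i := by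
    rintro x hx ⟨y, hy, rfl⟩
    obtain ⟨i, hi⟩ := mem_zpowers_iff.1 hy
    refine ⟨(i : ZMod 6), ?_⟩
    rw [DihedralGroup.r_one_zpow] at hi
    exact hi.symm
  have hAH : A < H := by
    refine lt_of_le_of_ne (map_subtype_le _) fun hA => ?_
    obtain ⟨i, hi⟩ := hAmem _ (e.symm (DihedralGroup.sr 0)).2 (hA.ge (e.symm (DihedralGroup.sr 0)).2)
    rw [Subtype.coe_eta, e.apply_symm_apply] at hi
    simp at hi
  have hD : ∀ x ∈ H, x ∉ A → x ^ 2 = 1 := by
    intro x hx hxA
    have h2 : (⟨x, hx⟩ : H) ^ 2 = 1 := e.injective (by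
      rw [map_pow, map_one]
      refine hout _ fun i hi => hxA ⟨⟨x, hx⟩, ?_, rfl⟩
      show e ⟨x, hx⟩ ∈ zpowers _
      rw [hi, mem_zpowers_iff]
      refine ⟨(ZMod.val i : ℤ), ?_⟩
      rw [DihedralGroup.r_one_zpow]
      simp)
    exact congrArg Subtype.val h2
  set z : G := ((e.symm (DihedralGroup.r 3) : H) : G) with hzdef
  have hzH : z ∈ H := SetLike.coe_mem _
  have hzne : z ≠ 1 := fun h => hz1 (e.symm.injective (by rw [map_one]; exact Subtype.ext h))
  have hzz : ∀ h ∈ H, h * z = z * h := fun h hh => by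
    have := congrArg (fun x : H => (x : G)) (congrArg e.symm (hzc (e ⟨h, hh⟩)))
    simpa using this
  have hCz := P.centralizer_singleton hzH hzne hzz
  have hzo : orderOf z = 2 := orderOf_eq_prime (by
    have h : (e.symm (DihedralGroup.r 3) : H) ^ 2 = 1 := by rw [← map_pow, hz2, map_one]
    rw [hzdef, ← SubgroupClass.coe_pow, h, OneMemClass.coe_one]) hzne
  obtain ⟨N, hN, hNcard, F, instF, instFF, hF, hiso⟩ := Cfsg.Agent.S3322.result H A hAH hD
    (by rw [hH]; norm_num) (fun j hj hjo hjc => P.centralizer_singleton hj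
      (fun h => by rw [h, orderOf_one] at hjo; norm_num at hjo) hjc) P.hsol
  haveI := hN
  have hNb : N = ⊥ := by
    refine P.eq_bot_of_solvable ?_
    obtain ⟨S⟩ : Nonempty (Sylow 2 N) := inferInstance
    refine CfsgLib.GWApps.isSolvable_of_cyclic_sylow S ?_
    have hle : Nat.card (S : Subgroup N) ∣ 2 := by
      obtain ⟨k, hk⟩ := IsPGroup.iff_card.1 S.isPGroup'
      have hd := (S : Subgroup N).card_subgroup_dvd_card
      rw [hk] at hd ⊢
      rcases k with _ | _ | k
      · simp
      · simp
      · exfalso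
        have h4 : 4 ∣ Nat.card N := dvd_trans ⟨2 ^ k, by rw [pow_add]; ring⟩ hd
        rcases hNcard with h | ⟨m, hm, h⟩
        · rw [Nat.odd_iff] at h; omega
        · rw [Nat.odd_iff] at hm; omega
    rcases (Nat.dvd_prime Nat.prime_two).1 hle with h | h
    · haveI : Subsingleton (S : Subgroup N) := (Nat.card_eq_one_iff_unique.1 h).1
      infer_instance
    · exact isCyclic_of_prime_card h
  subst hNb
  let e0 : G ≃* G ⧸ (⊥ : Subgroup G) := QuotientGroup.quotientBot.symm
  have hzK : ∀ {K : Type} [Group K] (f : G ≃* K), f z * f z = 1 ∧ f z ≠ 1 ∧ orderOf (f z) = 2 ∧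
      Nat.card (centralizer ({f z} : Set K)) = 12 := fun f => by
    refine ⟨?_, fun h => hzne (f.injective (h.trans (map_one f).symm)), by rw [f.orderOf_eq, hzo], ?_⟩
    · rw [← map_mul, ← sq, ← hzo, pow_orderOf_eq_one, map_one]
    · rw [centralizer_card_equiv, hCz, hH]
  obtain ⟨p, hp⟩ := CharP.exists F
  haveI := hp
  obtain ⟨⟨f, hf⟩, hprime, hqF⟩ := FiniteField.card F p
  haveI := Fact.mk hprime
  have hqc : Nat.card F = p ^ f := by rw [Nat.card_eq_fintype_card, hqF]; rfl
  -- even characteristic
  have heven : ∀ (g : G ≃* Matrix.ProjGenLinGroup (Fin 2) F), p = 2 →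
      Nonempty (G ≃* alternatingGroup (Fin 5)) := by
    intro g hp2
    have hd := pgl_two_element (F := F) p f hf hqc hp2 (hzK g).1
    rw [(hzK g).2.2.2] at hd
    have hq4 : Fintype.card F = 4 := by
      rw [hqF] at hF ⊢
      simp only [hp2, PNat.mk_coe] at hF hd ⊢
      have hf2 : f ≤ 3 := by
        by_contra h
        have : 16 ∣ 12 := (pow_dvd_pow 2 (show 4 ≤ f by omega)).trans hd
        norm_num at this
      interval_cases f
      · norm_num at hF
      · rfl
      · norm_num at hd
    have hev : Even (Nat.card F) := by rw [Nat.card_eq_fintype_card, hq4]; decide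
    obtain ⟨g'⟩ := psl_equiv_pgl (F := F) hev
    refine P.alt_five ?_ ⟨_, inferInstance, CfsgLib.Linear.isSimpleGroup_PSL
      (Or.inr (CfsgLib.Linear.Small.exists_sq_ne_one (F := F) (by omega))), ⟨g.trans g'.symm⟩⟩
    rw [Nat.card_congr g.toEquiv, CfsgLib.Linear.PSLTwo.card_pgl, Nat.card_eq_fintype_card, hq4]
    norm_num
  rcases hiso with hiso | hiso
  · obtain ⟨i⟩ := hiso
    set g := e0.trans i
    by_cases hp2 : p = 2
    · obtain ⟨g'⟩ := psl_equiv_pgl (F := F) (by
        rw [hqc, hp2]; exact (Nat.even_pow).2 ⟨even_two, hf.ne'⟩)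
      exact Or.inl (heven (g.trans g') hp2)
    have hodd : Odd (Fintype.card F) := by
      rw [hqF]; exact (hprime.odd_of_ne_two hp2).pow
    have h12 := odd_psl_involution hodd (hzK g).1 (hzK g).2.1
    rw [(hzK g).2.2.2] at h12
    rcases (show Fintype.card F = 11 ∨ Fintype.card F = 13 by
      split_ifs at h12 with h
      · omega
      · omega) with h | h
    · haveI : Fact (Nat.Prime 11) := ⟨by norm_num⟩
      obtain ⟨r⟩ := ringEquiv_zmod h
      obtain ⟨r'⟩ := CfsgLib.InvChar.psl_congr r
      exact Or.inr (Or.inr (Or.inr (Or.inl ⟨g.trans r'⟩)))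
    · haveI : Fact (Nat.Prime 13) := ⟨by norm_num⟩
      obtain ⟨r⟩ := ringEquiv_zmod h
      obtain ⟨r'⟩ := CfsgLib.InvChar.psl_congr r
      exact Or.inr (Or.inr (Or.inr (Or.inr ⟨g.trans r'⟩)))
  · obtain ⟨i⟩ := hiso
    set g := e0.trans i
    by_cases hp2 : p = 2
    · exact Or.inl (heven g hp2)
    have hodd : Odd (Fintype.card F) := by
      rw [hqF]; exact (hprime.odd_of_ne_two hp2).pow
    have h7 := pgl_involution_twelve hodd (hzK g).2.2.1 (hzK g).2.2.2
    rcases (show Fintype.card F = 5 ∨ Fintype.card F = 7 by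
      rw [Nat.odd_iff] at hodd; omega) with h | h
    · refine Or.inr (Or.inl ?_)
      haveI := CfsgLib.NsePGL2.finite_pgl (F := F)
      set ι : Matrix.ProjectiveSpecialLinearGroup (Fin 2) F →* G :=
        g.symm.toMonoidHom.comp Matrix.ProjectiveSpecialLinearGroup.toPGL
      have hι : Function.Injective ι :=
        g.symm.injective.comp Matrix.ProjectiveSpecialLinearGroup.toPGL_injective
      have hG : Nat.card G = 120 := by
        rw [Nat.card_congr g.toEquiv, CfsgLib.Linear.PSLTwo.card_pgl, Nat.card_eq_fintype_card, h]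
        norm_num
      have hL : Nat.card ι.range = 60 := by
        rw [← Nat.card_congr (MonoidHom.ofInjective hι).toEquiv]
        have h1 := CfsgLib.Linear.PSLTwo.mul_card (F := F)
        rw [Nat.card_eq_fintype_card (α := F), h] at h1
        norm_num at h1
        show Nat.card (CfsgLib.Dickson.PSL2 F) = 60
        rw [Nat.card_eq_fintype_card]
        omega
      haveI hn : ι.range.Normal := Subgroup.normal_of_index_eq_two (by
        have h1 := ι.range.card_mul_index
        rw [hL, hG] at h1
        omega)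
      haveI : IsSimpleGroup (Matrix.ProjectiveSpecialLinearGroup (Fin 2) F) :=
        CfsgLib.Linear.isSimpleGroup_PSL
          (Or.inr (CfsgLib.Linear.Small.exists_sq_ne_one (F := F) (by omega)))
      haveI : Nontrivial ι.range := (MonoidHom.ofInjective hι).symm.toEquiv.nontrivial
      haveI : IsSimpleGroup ι.range :=
        IsSimpleGroup.isSimpleGroup_of_surjective (MonoidHom.ofInjective hι).toMonoidHom
          (MonoidHom.ofInjective hι).surjective
      refine sym_five ι.range hG hL (P.eq_bot_of_solvable ?_)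
      set C := centralizer (ι.range : Set G)
      have hint : C ⊓ ι.range = ⊥ := by
        haveI : (C.subgroupOf ι.range).Normal := inferInstance
        rcases (‹(C.subgroupOf ι.range).Normal›).eq_bot_or_eq_top with hb | hb
        · exact disjoint_iff.1 (subgroupOf_eq_bot.1 hb)
        · exfalso
          have hle := subgroupOf_eq_top.1 hb
          have h60 := hL
          haveI : Group.IsSolvable ι.range := Group.isSolvable_of_comm fun a b =>
            Subtype.ext (mem_centralizer_iff.1 (hle b.2) a a.2)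
          rw [P.eq_bot_of_solvable (N := ι.range) inferInstance, card_bot] at h60
          omega
      have hcard : Nat.card C ≤ 2 := by
        have hf : Function.Injective ((QuotientGroup.mk' ι.range).comp C.subtype) := by
          refine (injective_iff_map_eq_one _).2 fun c hc => Subtype.ext ?_
          have : (c : G) ∈ C ⊓ ι.range := ⟨c.2, (QuotientGroup.eq_one_iff _).1 hc⟩
          rwa [hint, mem_bot] at this
        refine (Nat.card_le_card_of_injective _ hf).trans ?_
        rw [← Subgroup.index_eq_card]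
        have h1 := ι.range.card_mul_index
        rw [hL, hG] at h1
        omega
      obtain ⟨S⟩ : Nonempty (Sylow 2 C) := inferInstance
      refine CfsgLib.GWApps.isSolvable_of_cyclic_sylow S ?_
      have hS2 : Nat.card (S : Subgroup C) ≤ 2 :=
        ((S : Subgroup C).card_le_card_group).trans hcard
      have hSpos : 0 < Nat.card (S : Subgroup C) := Nat.card_pos
      rcases (show Nat.card (S : Subgroup C) = 1 ∨ Nat.card (S : Subgroup C) = 2 by omega) with h' | h'
      · haveI : Subsingleton (S : Subgroup C) := (Nat.card_eq_one_iff_unique.1 h').1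
        infer_instance
      · exact isCyclic_of_prime_card h'
    · haveI : Fact (Nat.Prime 7) := ⟨by norm_num⟩
      obtain ⟨r⟩ := ringEquiv_zmod h
      obtain ⟨r'⟩ := pgl_congr r
      exact Or.inr (Or.inr (Or.inl ⟨g.trans r'⟩))

end CfsgLib.WongThree
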