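import Cfsg.Agent.WongThree.Small
import Cfsg.Agent.WongThree.Twelve
import Cfsg.Agent.WongThree.FourCase
import Cfsg.Agent.WongThree.EightCase

/-!
# Insoluble primitive groups with a suborbit of length three
-/

set_option autoImplicit false
set_option linter.unusedSectionVars false
set_option linter.style.haveILetI false

namespace CfsgLib.WongThree

open Subgroup CfsgLib.ThompsonWielandt MulAction

universe u v

theorem wong (hcov : CoverSupply.{u}) (hpsl : PSLSupply) (hm : ElevenSupply.{u}) {G : Type u}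
    {Ω : Type v} [Group G] [Finite G] [MulAction G Ω] [FaithfulSMul G Ω] [Finite Ω]
    (hsol : ¬ Group.IsSolvable G) (hprim : IsPreprimitive G Ω) (a b : Ω)
    (h3 : Nat.card (orbit (stabilizer G a) b) = 3) :
    Nonempty (G ≃* alternatingGroup (Fin 5)) ∨ Nonempty (G ≃* Equiv.Perm (Fin 5)) ∨
      Nonempty (G ≃* GL (Fin 2) (ZMod 7) ⧸ Subgroup.center (GL (Fin 2) (ZMod 7))) ∨
      Nonempty (G ≃* Matrix.ProjectiveSpecialLinearGroup (Fin 2) (ZMod 11)) ∨
      Nonempty (G ≃* Matrix.ProjectiveSpecialLinearGroup (Fin 2) (ZMod 13)) ∨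
      (∃ p : ℕ, p.Prime ∧ (p % 16 = 1 ∨ p % 16 = 15) ∧
        Nonempty (G ≃* Matrix.ProjectiveSpecialLinearGroup (Fin 2) (ZMod p))) ∨
      Nonempty (G ≃* Matrix.ProjectiveSpecialLinearGroup (Fin 3) (ZMod 3)) ∨
      (∃ N : Subgroup G, N.Normal ∧ N.index = 2 ∧ Subgroup.centralizer (N : Set G) = ⊥ ∧
        Nonempty (N ≃* Matrix.ProjectiveSpecialLinearGroup (Fin 3) (ZMod 3))) := by
  have hadj : Adj (G := G) a b 3 := adj_of_primitive hprim a b 3 h3 (by norm_num)
  have P := prim_of_adj hadj hsol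
  obtain ⟨C, hCH, -, hC, g, hg, hgH⟩ := exists_flip hadj
  obtain ⟨n, hn, hcard, h0, h1, h2, h3', h4⟩ := SimsThree.exists_length hadj
  interval_cases n
  · exact Or.inl (small_case P (Or.inl (by simpa using hcard)))
  · exact Or.inl (small_case P (Or.inr (h1 rfl)))
  · obtain ⟨e⟩ := h2 rfl
    rcases twelve_case P e with h | h | h | h | h
    · exact Or.inl h
    · exact Or.inr (Or.inl h)
    · exact Or.inr (Or.inr (Or.inl h))
    · exact Or.inr (Or.inr (Or.inr (Or.inl h)))
    · exact Or.inr (Or.inr (Or.inr (Or.inr (Or.inl h))))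
  · obtain ⟨e⟩ := h3' rfl
    rcases four_case hcov hpsl hm P e hCH hC hg hgH with h | h
    · exact Or.inr (Or.inr (Or.inr (Or.inr (Or.inr (Or.inl h)))))
    · exact Or.inr (Or.inr (Or.inr (Or.inr (Or.inr (Or.inr (Or.inl h))))))
  · obtain ⟨e⟩ := h4 rfl
    exact Or.inr (Or.inr (Or.inr (Or.inr (Or.inr (Or.inr (Or.inr
      (eight_case hcov hpsl P e hCH hC hg hgH)))))))

end CfsgLib.WongThree
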