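import Cfsg.Agent.WongThree.Cover
import Cfsg.Agent.GWApps.QDCentralizer
import Cfsg.Agent.GWApps.AutInvol
import Cfsg.Agent.AlmostZ.CentMap
import Cfsg.Agent.Invol.QuasiDihedral
import Cfsg.Agent.GW.Top.Statement
import Mathlib.GroupTheory.FixedPointFree
import Mathlib.GroupTheory.SchurZassenhaus

/-!
# A self-centralising four-group in a simple group with semidihedral Sylow 2-subgroups

The centraliser of a central involution is `GL₂(3)` modulo an inverted core of odd order.
-/

set_option autoImplicit false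
set_option linter.unusedSectionVars false
set_option linter.style.haveILetI false

namespace CfsgLib.WongThree

open Subgroup CfsgLib.GLTwoThree
open scoped commutatorElement

universe u

/-- The matrices of determinant one. -/
def slMat : Subgroup Mat :=
  subgroupOfPred (fun x => decide (det x = 1)) (by decide +kernel) (by decide +kernel) (by decide +kernel)

theorem mem_slMat {x : Mat} : x ∈ slMat ↔ det x = 1 := by simp [slMat, subgroupOfPred]

/-- The upper transvection. -/
def ua : Mat := ⟨(1, 1, 0, 1), by decide⟩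

/-- The lower transvection. -/
def lb : Mat := ⟨(1, 0, 1, 1), by decide⟩

set_option synthInstance.maxSize 2048 in
theorem trans_conj : ∀ x y : Mat, det x = 1 → det y = 1 → x * x * x = 1 → y * y * y = 1 →
    x * y * (x * y) = z → ∃ m : Mat, m * ua * m⁻¹ = x ∧ m * lb * m⁻¹ = y := by decide +kernel

theorem trans_gen : ∀ x : Mat, det x = 1 →
    ∃ i j k l : Fin 3, x = ua ^ (i : ℕ) * lb ^ (j : ℕ) * ua ^ (k : ℕ) * lb ^ (l : ℕ) := by decide +kernel

set_option synthInstance.maxSize 2048 in
theorem sl_invol : ∀ x : Mat, det x = 1 → x * x = 1 → x = 1 ∨ x = z := by decide +kernel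

theorem outer_sq : ∀ x : Mat, det x ≠ 1 → (x * x = 1 ∨ x * x = z) → cls x = 7 ∧ x * x = 1 := by
  decide +kernel

theorem det_cases : ∀ x y : Mat, (det (x * y) = 1 ↔ (det x = 1 ↔ det y = 1)) := by decide +kernel

set_option synthInstance.maxSize 2048 in
theorem exists_quaternion : ∃ f g : Mat, det f = 1 ∧ det g = 1 ∧ f * f = z ∧ g * g = z ∧ f * g * (f * g) = z ∧
    f * g ≠ g * f := by
  refine ⟨⟨(0, 2, 1, 0), by decide⟩, ⟨(1, 1, 1, 2), by decide⟩, ?_⟩
  decide +kernel

set_option synthInstance.maxSize 2048 in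
theorem fix_gens : ∀ w : Mat, w * ua * w⁻¹ = ua → w * lb * w⁻¹ = lb → w = 1 ∨ w = z := by decide +kernel

set_option synthInstance.maxSize 2048 in
theorem four_mul : ∀ a b : Mat, det a = 1 → det b = 1 → a ^ 4 = 1 → b ^ 4 = 1 → (a * b) ^ 4 = 1 := by
  decide +kernel

/-- Every automorphism of the matrices of determinant one is a conjugation. -/
theorem aut_slMat (φ : MulAut slMat) : ∃ m : Mat, ∀ l : slMat, ((φ l : slMat) : Mat) = m * l * m⁻¹ := by
  let A : slMat := ⟨ua, mem_slMat.2 (by decide +kernel)⟩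
  let B : slMat := ⟨lb, mem_slMat.2 (by decide +kernel)⟩
  let Z : slMat := ⟨z, mem_slMat.2 (by decide +kernel)⟩
  have hZ : φ Z = Z := by
    have h1 : φ Z * φ Z = 1 := by
      rw [← map_mul, show Z * Z = 1 from Subtype.ext (show z * z = (1 : Mat) by decide +kernel), map_one]
    rcases sl_invol _ (mem_slMat.1 (φ Z).2) (congrArg Subtype.val h1) with h | h
    · exfalso
      have h2 : φ Z = 1 := Subtype.ext h
      rw [← map_one φ] at h2
      exact absurd (congrArg Subtype.val (φ.injective h2)) (show z ≠ (1 : Mat) by decide +kernel)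
    · exact Subtype.ext h
  obtain ⟨m, hA, hB⟩ := trans_conj (φ A : slMat) (φ B : slMat) (mem_slMat.1 (φ A).2) (mem_slMat.1 (φ B).2)
    (by rw [← Subgroup.coe_mul, ← Subgroup.coe_mul, ← map_mul, ← map_mul,
      show A * A * A = 1 from Subtype.ext (show ua * ua * ua = (1 : Mat) by decide +kernel), map_one]; rfl)
    (by rw [← Subgroup.coe_mul, ← Subgroup.coe_mul, ← map_mul, ← map_mul,
      show B * B * B = 1 from Subtype.ext (show lb * lb * lb = (1 : Mat) by decide +kernel), map_one]; rfl)
    (by rw [← Subgroup.coe_mul, ← Subgroup.coe_mul, ← map_mul, ← map_mul,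
      show A * B * (A * B) = Z from Subtype.ext (show ua * lb * (ua * lb) = z by decide +kernel), hZ])
  refine ⟨m, fun l => ?_⟩
  have h : (slMat.subtype.comp φ.toMonoidHom) l = ((MulAut.conj m).toMonoidHom.comp slMat.subtype) l := by
    obtain ⟨i, j, k, e, hl⟩ := trans_gen _ (mem_slMat.1 l.2)
    have hl' : l = A ^ (i : ℕ) * B ^ (j : ℕ) * A ^ (k : ℕ) * B ^ (e : ℕ) := Subtype.ext hl
    have ha : (slMat.subtype.comp φ.toMonoidHom) A = ((MulAut.conj m).toMonoidHom.comp slMat.subtype) A :=
      hA.symm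
    have hb : (slMat.subtype.comp φ.toMonoidHom) B = ((MulAut.conj m).toMonoidHom.comp slMat.subtype) B :=
      hB.symm
    rw [hl', map_mul, map_mul, map_mul, map_pow, map_pow, map_pow, map_pow, ha, hb]
    simp only [map_mul, map_pow]
  exact h

/-- `SL₂` of a field with three elements is the group of matrices of determinant one. -/
theorem nonempty_slMat {F : Type} [Field F] [Fintype F] (h : Fintype.card F = 3) :
    Nonempty (Matrix.SpecialLinearGroup (Fin 2) F ≃* slMat) := by
  have e : ZMod 3 ≃+* F := ZMod.ringEquivOfPrime F Nat.prime_three h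
  let f : Matrix.SpecialLinearGroup (Fin 2) F →* slMat :=
    { toFun := fun A => ⟨⟨(e.symm (A.1 0 0), e.symm (A.1 0 1), e.symm (A.1 1 0), e.symm (A.1 1 1)), by
          rw [← map_mul, ← map_mul, ← map_sub, ← Matrix.det_fin_two, A.2, map_one]; exact one_ne_zero⟩, by
          rw [mem_slMat]
          show e.symm (A.1 0 0) * e.symm (A.1 1 1) - e.symm (A.1 0 1) * e.symm (A.1 1 0) = 1
          rw [← map_mul, ← map_mul, ← map_sub, ← Matrix.det_fin_two, A.2, map_one]⟩
      map_one' := by
        refine Subtype.ext (Subtype.ext ?_)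
        simp
        rfl
      map_mul' := fun A B => by
        refine Subtype.ext (Subtype.ext ?_)
        simp [mul_def, Matrix.mul_apply, Fin.sum_univ_two] }
  refine ⟨MulEquiv.ofBijective f ⟨fun A B hAB => ?_, fun x => ?_⟩⟩
  · have h1 := congrArg (fun w : slMat => (w : Mat).1) hAB
    simp only [f, MonoidHom.coe_mk, OneHom.coe_mk, Prod.mk.injEq, EmbeddingLike.apply_eq_iff_eq] at h1
    refine Subtype.ext ?_
    ext i j
    fin_cases i <;> fin_cases j
    exacts [h1.1, h1.2.1, h1.2.2.1, h1.2.2.2]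
  · obtain ⟨⟨⟨p, q, r, s⟩, hx⟩, hd⟩ := x
    have hd' : p * s - q * r = 1 := mem_slMat.1 hd
    refine ⟨⟨!![e p, e q; e r, e s], by rw [Matrix.det_fin_two_of, ← map_mul, ← map_mul, ← map_sub, hd', map_one]⟩, ?_⟩
    refine Subtype.ext (Subtype.ext ?_)
    simp [f]

section assemble

variable {Q : Type u} [Group Q]

/-- A group which is `SL₂(3)` extended by an involution, with no other centraliser, is `GL₂(3)`. -/
theorem exists_equiv {L : Subgroup Q} [L.Normal] (φ : L ≃* slMat) (v t : Q) (hv : v * v = 1) (hvL : v ∉ L)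
    (htL : t ∈ L) (hK : ∀ x : Q, (∀ l ∈ L, x * l = l * x) → x = 1 ∨ x = t) :
    ∃ j : Mat ≃* Q, cls (j.symm v) = 7 := by
  classical
  let α : Q → MulAut slMat := fun x => (φ.symm.trans (MulAut.conjNormal x)).trans φ
  have hα : ∀ (x : Q) (m : Mat), (∀ l : slMat, ((α x l : slMat) : Mat) = m * l * m⁻¹) →
      ∀ (d : Mat) (hd : det d = 1) (he : det (m * d * m⁻¹) = 1),
        x * (φ.symm ⟨d, mem_slMat.2 hd⟩ : Q) * x⁻¹ = (φ.symm ⟨m * d * m⁻¹, mem_slMat.2 he⟩ : L) := by
    intro x m hm d hd he
    have h1 : α x ⟨d, mem_slMat.2 hd⟩ = ⟨m * d * m⁻¹, mem_slMat.2 he⟩ := Subtype.ext (hm _)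
    rw [← h1]
    simp [α]
  obtain ⟨m₀, hm₀⟩ := aut_slMat (α v)
  have hsame : ∀ x y : Q, α x = α y → y⁻¹ * x = 1 ∨ y⁻¹ * x = t := by
    intro x y h
    refine hK _ fun l hl => ?_
    have h1 := congrArg (fun a : MulAut slMat => a (φ ⟨l, hl⟩)) h
    simp [α, Subtype.ext_iff] at h1
    rw [mul_assoc, inv_mul_eq_iff_eq_mul, ← mul_assoc, ← mul_assoc]
    calc x * l = x * l * x⁻¹ * x := by group
      _ = y * l * y⁻¹ * x := by rw [h1]
  have hinner : ∀ (d : Mat) (hd : det d = 1), ∀ l : slMat,
      ((α (φ.symm ⟨d, mem_slMat.2 hd⟩ : L) l : slMat) : Mat) = d * l * d⁻¹ := by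
    intro d hd l
    have h1 : MulAut.conjNormal ((φ.symm ⟨d, mem_slMat.2 hd⟩ : L) : Q) (φ.symm l) =
        φ.symm ⟨d, mem_slMat.2 hd⟩ * φ.symm l * (φ.symm ⟨d, mem_slMat.2 hd⟩)⁻¹ := Subtype.ext (by simp)
    show ((φ (MulAut.conjNormal _ (φ.symm l)) : slMat) : Mat) = _
    rw [h1, map_mul, map_mul, map_inv, MulEquiv.apply_symm_apply, MulEquiv.apply_symm_apply]
    rfl
  have hdet0 : det m₀ ≠ 1 := by
    intro hd
    have h1 : α v = α (φ.symm ⟨m₀, mem_slMat.2 hd⟩ : L) := MulEquiv.ext fun l =>
      Subtype.ext (by rw [hm₀, hinner m₀ hd])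
    rcases hsame _ _ h1 with h | h
    · exact hvL (by rw [← inv_mul_eq_one.1 h]; exact (φ.symm _).2)
    · exact hvL (by rw [inv_mul_eq_iff_eq_mul.1 h]; exact mul_mem (φ.symm _).2 htL)
  have hsq : m₀ * m₀ = 1 ∨ m₀ * m₀ = z := by
    have hc : ∀ l : slMat, m₀ * m₀ * (l : Mat) * (m₀ * m₀)⁻¹ = l := by
      intro l
      have h1 : α v (α v l) = l := by
        have : MulAut.conjNormal (H := L) v (MulAut.conjNormal v (φ.symm l)) = φ.symm l := by
          rw [← MulAut.mul_apply, ← map_mul, hv, map_one, MulAut.one_apply]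
        simp [α, this]
      have h2 := congrArg (Subtype.val) h1
      rw [hm₀, hm₀] at h2
      calc m₀ * m₀ * (l : Mat) * (m₀ * m₀)⁻¹ = m₀ * (m₀ * l * m₀⁻¹) * m₀⁻¹ := by group
        _ = l := h2
    have hA := hc ⟨ua, mem_slMat.2 (by decide +kernel)⟩
    have hB := hc ⟨lb, mem_slMat.2 (by decide +kernel)⟩
    exact fix_gens _ hA hB
  obtain ⟨hcls, hm00⟩ := outer_sq m₀ hdet0 hsq
  -- the map from the matrices
  have hdm : ∀ y : Mat, det y ≠ 1 → det (y * m₀) = 1 := fun y hy =>
    (det_cases y m₀).2 (iff_of_false hy hdet0)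
  let j : Mat → Q := fun y => if h : det y = 1 then (φ.symm ⟨y, mem_slMat.2 h⟩ : L)
    else (φ.symm ⟨y * m₀, mem_slMat.2 (hdm y h)⟩ : L) * v
  have hj1 : ∀ (y : Mat) (h : det y = 1), j y = (φ.symm ⟨y, mem_slMat.2 h⟩ : L) := fun y h => dif_pos h
  have hj2 : ∀ (y : Mat) (h : det y ≠ 1), j y = (φ.symm ⟨y * m₀, mem_slMat.2 (hdm y h)⟩ : L) * v :=
    fun y h => dif_neg h
  have hjL : ∀ (a b : Mat) (ha : det a = 1) (hb : det b = 1), j (a * b) = j a * j b := by
    intro a b ha hb
    rw [hj1 a ha, hj1 b hb, hj1 (a * b) ((det_cases a b).2 (iff_of_true ha hb)), ← Subgroup.coe_mul,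
      ← map_mul]
    rfl
  have hswap : ∀ (d : Mat), det d = 1 → v * j d = j (m₀ * d * m₀) * v := by
    intro d hd
    have hinv : m₀⁻¹ = m₀ := inv_eq_of_mul_eq_one_right hm00
    have he : det (m₀ * d * m₀⁻¹) = 1 := by
      have : ((α v ⟨d, mem_slMat.2 hd⟩ : slMat) : Mat) = m₀ * d * m₀⁻¹ := hm₀ _
      rw [← this]; exact mem_slMat.1 (Subtype.prop _)
    have h1 := hα v m₀ hm₀ d hd he
    rw [← hj1 _ hd, ← hj1 _ he, hinv] at h1
    rw [← h1, inv_mul_cancel_right]
  have hmul : ∀ a b, j (a * b) = j a * j b := by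
    intro a b
    by_cases ha : det a = 1
    · by_cases hb : det b = 1
      · exact hjL a b ha hb
      · have hab : det (a * b) ≠ 1 := fun h => hb (((det_cases a b).1 h).1 ha)
        rw [hj2 _ hab, hj2 _ hb, ← mul_assoc, ← hj1 _ (hdm b hb), ← hjL a _ ha (hdm b hb), ← hj1 _ (hdm _ hab),
          mul_assoc]
    · have ha' := hdm a ha
      by_cases hb : det b = 1
      · have hab : det (a * b) ≠ 1 := fun h => ha (((det_cases a b).1 h).2 hb)
        have hd : det (m₀ * b * m₀) = 1 := by simp only [det_cases]; tauto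
        rw [hj2 _ hab, hj2 _ ha, ← hj1 _ (hdm _ hab), ← hj1 _ ha', mul_assoc (j (a * m₀)), hswap b hb,
          ← mul_assoc, ← hjL _ _ ha' hd]
        congr 2
        simp [mul_assoc, ← mul_assoc m₀ m₀, hm00]
      · have hb' := hdm b hb
        have hd : det (m₀ * (b * m₀) * m₀) = 1 := by simp only [det_cases]; tauto
        rw [hj2 _ ha, hj2 _ hb, ← hj1 _ hb', ← hj1 _ ha', mul_assoc (j (a * m₀)), ← mul_assoc v, hswap _ hb',
          mul_assoc _ v v, hv, mul_one, ← hjL _ _ ha' hd]
        congr 1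
        simp [mul_assoc, ← mul_assoc m₀ m₀, hm00]
  let J : Mat →* Q := MonoidHom.mk' j hmul
  have hinj : Function.Injective J := by
    rw [injective_iff_map_eq_one]
    intro y hy
    change j y = 1 at hy
    by_cases h : det y = 1
    · rw [hj1 y h, OneMemClass.coe_eq_one] at hy
      have := congrArg φ hy
      rw [MulEquiv.apply_symm_apply, map_one] at this
      exact congrArg Subtype.val this
    · rw [hj2 y h] at hy
      exact absurd (by rw [eq_inv_of_mul_eq_one_right hy]; exact L.inv_mem (φ.symm _).2) hvL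
  have hjv : j m₀ = v := by
    rw [hj2 _ hdet0, show (⟨m₀ * m₀, mem_slMat.2 (hdm m₀ hdet0)⟩ : slMat) = 1 from Subtype.ext hm00, map_one,
      OneMemClass.coe_one, one_mul]
  have hαj : ∀ (y : Mat) (l : slMat), ((α (j y) l : slMat) : Mat) = y * l * y⁻¹ := by
    intro y l
    by_cases h : det y = 1
    · rw [hj1 y h]; exact hinner y h l
    · rw [hj2 y h]
      have h1 : α ((φ.symm ⟨y * m₀, mem_slMat.2 (hdm y h)⟩ : L) * v) l =
          α (φ.symm ⟨y * m₀, mem_slMat.2 (hdm y h)⟩ : L) (α v l) := by simp [α]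
      rw [h1, hinner _ (hdm y h), hm₀]
      simp [mul_assoc, inv_eq_of_mul_eq_one_right hm00, ← mul_assoc m₀ m₀, hm00]
  have hsurj : Function.Surjective J := by
    intro x
    obtain ⟨m, hm⟩ := aut_slMat (α x)
    have ht : ∃ y, j y = t := ⟨(φ ⟨t, htL⟩ : slMat), by
      rw [hj1 _ (mem_slMat.1 (φ ⟨t, htL⟩).2)]; simp⟩
    obtain ⟨y, hy⟩ := ht
    rcases hsame x (j m) (MulEquiv.ext fun l => Subtype.ext (by rw [hm, hαj])) with h | h
    · exact ⟨m, inv_mul_eq_one.1 h⟩
    · exact ⟨m * y, by show j (m * y) = x; rw [hmul, hy, ← inv_mul_eq_iff_eq_mul.1 h]⟩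
  let E : Mat ≃* Q := MulEquiv.ofBijective J ⟨hinj, hsurj⟩
  refine ⟨E, ?_⟩
  rw [show E.symm v = m₀ from E.injective (by rw [E.apply_symm_apply]; exact hjv.symm)]
  exact hcls

end assemble

variable {N : Type u} [Group N] [Finite N]

/-- Such a centraliser. -/
theorem exists_cover [IsSimpleGroup N] (S₀ : Sylow 2 N) (hS₀ : Cfsg.IsQuasiDihedral (S₀ : Subgroup N))
    (V : Subgroup N) [IsKleinFour V] (hV : centralizer (V : Set N) = V) :
    ∃ t : N, orderOf t = 2 ∧ Nonempty (Cover t) := by
  classical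
  haveI : Fact (Nat.Prime 2) := ⟨Nat.prime_two⟩
  have hno : ∀ H : Subgroup N, H.index ≠ 2 := by
    intro H hH
    haveI := normal_of_index_eq_two hH
    rcases (inferInstance : H.Normal).eq_bot_or_eq_top with e | e
    · obtain ⟨n, hn, hc, -⟩ := hS₀
      have h1 := (S₀ : Subgroup N).card_subgroup_dvd_card
      rw [e, index_bot] at hH
      rw [hH, hc] at h1
      have := Nat.le_of_dvd (by norm_num) h1
      have : 2 ^ 2 ≤ 2 ^ (n + 1) := Nat.pow_le_pow_right (by norm_num) (by omega)
      omega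
    · rw [e, index_top] at hH; omega
  obtain ⟨S, hVS⟩ := (IsPGroup.of_card (n := 2) (by rw [IsKleinFour.card_four]; rfl) : IsPGroup 2 V).exists_le_sylow
  have hS : Cfsg.IsQuasiDihedral (S : Subgroup N) := InvolPattern.isQuasiDihedral_congr (S₀.equiv S) hS₀
  obtain ⟨D⟩ := QD.exists_data hS
  set t : N := ((D.z : (S : Subgroup N)) : N) with ht
  have hto : orderOf t = 2 := (Subgroup.orderOf_coe D.z).trans D.orderOf_z
  have htV : t ∈ V := hV.le (mem_centralizer_iff.2 fun g hg =>
    congrArg Subtype.val (D.z_comm ⟨g, hVS hg⟩))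
  obtain ⟨v, hvV, hv1, hvt⟩ : ∃ v ∈ V, v ≠ 1 ∧ v ≠ t := by
    by_contra hno
    push Not at hno
    have hsub : (V : Set N) ⊆ {1, t} := fun g hg => by
      by_cases h : g = 1
      · exact Or.inl h
      · exact Or.inr (hno g hg h)
    have h1 := Set.ncard_le_ncard hsub (Set.toFinite _)
    rw [← Nat.card_coe_set_eq, show Nat.card ↥(V : Set N) = 4 from IsKleinFour.card_four (G := V)] at h1
    have := h1.trans (Set.ncard_insert_le _ _)
    rw [Set.ncard_singleton] at this
    omega
  have hsqV : ∀ g ∈ V, g * g = 1 := fun g hg => congrArg Subtype.val (IsKleinFour.mul_self (⟨g, hg⟩ : V))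
  have hcommV : ∀ g ∈ V, ∀ h ∈ V, g * h = h * g := fun g hg h hh =>
    (mem_centralizer_iff.1 (hV.ge hh) g hg)
  have hVfour : ∀ g ∈ V, g = 1 ∨ g = t ∨ g = v ∨ g = t * v := by
    intro g hg
    have htne : t ≠ 1 := fun h => by rw [h, orderOf_one] at hto; omega
    have h4 : ({1, t, v, t * v} : Set N).ncard = 4 := by
      rw [Set.ncard_insert_of_notMem, Set.ncard_insert_of_notMem, Set.ncard_pair]
      · intro h; exact htne (mul_eq_right.1 h.symm)
      · rintro (h | h)
        · exact hvt h.symm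
        · exact hv1 (left_eq_mul.1 h)
      · rintro (h | h | h)
        · exact htne h.symm
        · exact hv1 h.symm
        · exact hvt (((mul_eq_one_iff_eq_inv.1 h.symm).trans
            (inv_eq_of_mul_eq_one_right (hsqV v hvV))).symm)
    have hsub : ({1, t, v, t * v} : Set N) ⊆ (V : Set N) := by
      rintro x (rfl | rfl | rfl | rfl)
      exacts [V.one_mem, htV, hvV, V.mul_mem htV hvV]
    have := Set.eq_of_subset_of_ncard_le hsub (by
      rw [h4, ← Nat.card_coe_set_eq]; exact le_of_eq (IsKleinFour.card_four (G := V))) (Set.toFinite _)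
    exact (Set.ext_iff.1 this g).2 hg
  set C := centralizer ({t} : Set N) with hC
  have hVC : V ≤ C := fun g hg => mem_centralizer_singleton_iff.2 (hcommV g hg t htV)
  have hSC : (S : Subgroup N) ≤ C := fun g hg => mem_centralizer_singleton_iff.2
    (congrArg Subtype.val (D.z_comm ⟨g, hg⟩))
  let vC : C := ⟨v, hVC hvV⟩
  set O := Cfsg.oddCore C with hO
  -- `v` inverts the core
  have hOodd : Odd (Nat.card O) := DGroup.odd_oddCore C
  have hinv : ∀ o ∈ O, vC * o * vC⁻¹ = o⁻¹ := by
    have hff : MonoidHom.FixedPointFree ((MulAut.conjNormal (H := O) vC).toMonoidHom : O →* O) := by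
      intro o ho
      have h1 : vC * (o : C) * vC⁻¹ = o := (MulAut.conjNormal_apply vC o).symm.trans (congrArg Subtype.val ho)
      have h2 : ((o : C) : N) ∈ V := hV.le (mem_centralizer_iff.2 fun g hg => by
        have e1 : v * ((o : C) : N) = ((o : C) : N) * v := congrArg Subtype.val (mul_inv_eq_iff_eq_mul.1 h1)
        have e2 := (mem_centralizer_singleton_iff.1 (o : C).2).symm
        rcases hVfour g hg with rfl | rfl | rfl | rfl
        · simp
        · exact e2
        · exact e1
        · rw [mul_assoc, e1, ← mul_assoc, e2, mul_assoc])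
      exact Subtype.ext (eq_one_of_odd hOodd o.2 (Subtype.ext (hsqV _ h2)))
    have hinvol : Function.Involutive ((MulAut.conjNormal (H := O) vC).toMonoidHom : O →* O) := fun o => by
      show MulAut.conjNormal vC (MulAut.conjNormal vC o) = o
      rw [← MulAut.mul_apply, ← map_mul, show vC * vC = 1 from Subtype.ext (hsqV v hvV), map_one,
        MulAut.one_apply]
    intro o ho
    have h := congrFun (hff.coe_eq_inv_of_involutive hinvol) ⟨o, ho⟩
    exact (MulAut.conjNormal_apply vC ⟨o, ho⟩).symm.trans (congrArg Subtype.val h)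
  -- the quotient
  set π := QuotientGroup.mk' O with hπdef
  have hπ : Function.Surjective π := QuotientGroup.mk'_surjective O
  set tb := π (tC t) with htb
  set vb := π vC with hvb
  have htbc : ∀ x, x * tb = tb * x := fun x => by
    obtain ⟨c, rfl⟩ := hπ x
    rw [htb, ← map_mul, ← map_mul, tC_comm]
  have hvb2 : vb * vb = 1 := by rw [hvb, ← map_mul, show vC * vC = 1 from Subtype.ext (hsqV v hvV), map_one]
  have htb2 : tb * tb = 1 := by rw [htb, ← map_mul, tC_sq hto, map_one]
  have hker : ∀ c : C, π c = 1 ↔ c ∈ O := fun c => QuotientGroup.eq_one_iff c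
  have hcent : ∀ x, vb * x = x * vb → x = 1 ∨ x = tb ∨ x = vb ∨ x = tb * vb := by
    intro x hx
    obtain ⟨c, rfl⟩ := hπ x
    have ho : c⁻¹ * (vC * c * vC⁻¹) ∈ O := by
      rw [← hker, map_mul, map_mul, map_mul, map_inv, map_inv, ← hvb, hx, mul_inv_cancel_right, inv_mul_cancel]
    obtain ⟨o, ho'⟩ : ∃ o, c⁻¹ * (vC * c * vC⁻¹) = o := ⟨_, rfl⟩
    rw [ho'] at ho
    have hvc : vC * c * vC⁻¹ = c * o := by rw [← ho', mul_inv_cancel_left]
    obtain ⟨j, hj⟩ : Odd (orderOf o) := DGroup.odd_orderOf hOodd ho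
    have hp : o ^ (j + 1) * o ^ (j + 1) = o := by
      rw [← pow_add, show j + 1 + (j + 1) = orderOf o + 1 by omega, pow_succ, pow_orderOf_eq_one, one_mul]
    have hfix : vC * (c * o ^ (j + 1)) * vC⁻¹ = c * o ^ (j + 1) := by
      calc vC * (c * o ^ (j + 1)) * vC⁻¹ = (vC * c * vC⁻¹) * (vC * o ^ (j + 1) * vC⁻¹) := by group
        _ = c * o * (o ^ (j + 1))⁻¹ := by rw [hvc, hinv _ (pow_mem ho _)]
        _ = c * o ^ (j + 1) := by
          rw [mul_assoc]
          congr 1
          rw [mul_inv_eq_iff_eq_mul, hp]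
    set c' := c * o ^ (j + 1) with hc'
    have hcV : ((c' : C) : N) ∈ V := hV.le (mem_centralizer_iff.2 fun g hg => by
      have e1 : v * ((c' : C) : N) = ((c' : C) : N) * v := congrArg Subtype.val (mul_inv_eq_iff_eq_mul.1 hfix)
      have e2 := (mem_centralizer_singleton_iff.1 (c' : C).2).symm
      rcases hVfour g hg with rfl | rfl | rfl | rfl
      · simp
      · exact e2
      · exact e1
      · rw [mul_assoc, e1, ← mul_assoc, e2, mul_assoc])
    have hπc : π c = π c' := by rw [hc', map_mul, map_pow, (hker o).2 ho, one_pow, mul_one]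
    rw [hπc]
    rcases hVfour _ hcV with h | h | h | h
    · left; rw [show c' = 1 from Subtype.ext h, map_one]
    · right; left; rw [htb, show c' = tC t from Subtype.ext h]
    · right; right; left; rw [hvb, show c' = vC from Subtype.ext h]
    · right; right; right; rw [htb, hvb, ← map_mul, show c' = tC t * vC from Subtype.ext h]
  -- the derived subgroup
  obtain ⟨F, iF, iFF, hFodd, ⟨e⟩⟩ := GWApps.qd_centralizer_mod_core
    (fun X _ _ _ P n hn hP => GW.Top.statement X P n hn hP) S (Or.inl hS) hno t hto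
  set L := commutator (C ⧸ O) with hL
  have h2 : (2 : F) ≠ 0 := fun e2 => by
    have h1 : addOrderOf (1 : F) = 2 := addOrderOf_eq_prime (by rw [two_nsmul, ← e2]; norm_num) one_ne_zero
    have h3 := addOrderOf_dvd_card (x := (1 : F))
    rw [h1] at h3
    exact Nat.not_even_iff_odd.2 hFodd (even_iff_two_dvd.2 h3)
  have hLc : Nat.card L = Fintype.card F * (Fintype.card F ^ 2 - 1) := by
    rw [Nat.card_congr e.toEquiv]; exact CfsgLib.SL2C.card_SL2_mul
  have hq : 3 ≤ Fintype.card F := by
    have h1 := Fintype.one_lt_card (α := F)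
    obtain ⟨k, hk⟩ := hFodd
    omega
  have hL24 : 24 ≤ Nat.card L := by
    rw [hLc]
    have h9 : 3 ^ 2 ≤ Fintype.card F ^ 2 := Nat.pow_le_pow_left hq 2
    have : 8 ≤ Fintype.card F ^ 2 - 1 := by omega
    exact (show 24 = 3 * 8 by norm_num) ▸ Nat.mul_le_mul hq this
  have hLz : Nat.card (center L) = 2 := by
    rw [Nat.card_congr (Subgroup.centerCongr e).toEquiv, AlmostZ.sl_two_card_center h2]
  obtain ⟨zL, hzL, hzL1⟩ : ∃ w : L, w ∈ center L ∧ w ≠ 1 := by
    by_contra h
    push Not at h
    have : center L = ⊥ := eq_bot_iff.2 fun w hw => h w hw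
    rw [this, card_bot] at hLz
    omega
  have hcenL : ∀ w : L, w ∈ center L → w = 1 ∨ w = zL := fun w hw => by
    obtain ⟨a, b, hab, huniv⟩ := Nat.card_eq_two_iff.1 hLz
    have hmem : ∀ u : center L, u = a ∨ u = b := fun u => (Set.ext_iff.1 huniv u).2 trivial
    have e1 := hmem 1
    have e2 := hmem ⟨zL, hzL⟩
    have e3 := hmem ⟨w, hw⟩
    have hne : (1 : center L) ≠ ⟨zL, hzL⟩ := fun h => hzL1 (congrArg Subtype.val h).symm
    rcases e3 with e3 | e3 <;> rcases e1 with e1 | e1 <;> rcases e2 with e2 | e2 <;>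
      first
        | exact absurd (e1.trans e2.symm) hne
        | exact Or.inl (congrArg Subtype.val (e3.trans e1.symm))
        | exact Or.inr (congrArg Subtype.val (e3.trans e2.symm))
  have hzc : ∀ x : C ⧸ O, x * (zL : C ⧸ O) = (zL : C ⧸ O) * x := by
    intro x
    have h1 : MulAut.conjNormal x zL ∈ center L := mem_center_iff.2 fun g => by
      obtain ⟨g, rfl⟩ := (MulAut.conjNormal x : MulAut L).surjective g
      rw [← map_mul, ← map_mul, mem_center_iff.1 hzL g]
    rcases hcenL _ h1 with h | h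
    · exact absurd ((MulAut.conjNormal x : MulAut L).injective (h.trans (map_one _).symm)) hzL1
    · exact mul_inv_eq_iff_eq_mul.1 ((MulAut.conjNormal_apply x zL).symm.trans (congrArg Subtype.val h))
  have hLbig : ¬ ∀ x : L, (x : C ⧸ O) = 1 ∨ (x : C ⧸ O) = tb ∨ (x : C ⧸ O) = vb ∨ (x : C ⧸ O) = tb * vb := by
    intro h
    have hsub : ((L : Subgroup (C ⧸ O)) : Set (C ⧸ O)) ⊆ {1, tb, vb, tb * vb} := fun x hx => h ⟨x, hx⟩
    have h1 := Set.ncard_le_ncard hsub (Set.toFinite _)
    rw [← Nat.card_coe_set_eq] at h1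
    have h2 : ({1, tb, vb, tb * vb} : Set (C ⧸ O)).ncard ≤ 4 := by
      refine (Set.ncard_insert_le _ _).trans (Nat.succ_le_succ ((Set.ncard_insert_le _ _).trans
        (Nat.succ_le_succ ((Set.ncard_insert_le _ _).trans (Nat.succ_le_succ ?_)))))
      rw [Set.ncard_singleton]
    have h3 : 24 ≤ Nat.card ↥((L : Subgroup (C ⧸ O)) : Set (C ⧸ O)) := hL24
    omega
  have hzt : (zL : C ⧸ O) = tb := by
    rcases hcent _ (hzc vb) with h | h | h | h
    · exact absurd (Subtype.ext h) hzL1
    · exact h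
    · exact absurd (fun x : L => hcent x (by rw [← h]; exact (hzc x).symm)) hLbig
    · refine absurd (fun x : L => hcent x ?_) hLbig
      have hv' : vb = tb * (zL : C ⧸ O) := by rw [h, ← mul_assoc, htb2, one_mul]
      rw [hv', ← mul_assoc, htbc, mul_assoc, mul_assoc, hzc]
  have htL : tb ∈ L := hzt ▸ zL.2
  have hinvolL : ∀ x ∈ L, x * x = 1 → x = 1 ∨ x = tb := by
    intro x hx hxx
    have hs : ∀ y : L, y * y = 1 → e y = 1 ∨ e y = -1 := fun y hy =>
      AlmostZ.sl_two_invol h2 (by rw [← map_mul, hy, map_one])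
    rcases hs ⟨x, hx⟩ (Subtype.ext hxx) with h | h
    · left; exact congrArg Subtype.val (e.injective (h.trans (map_one e).symm))
    · right
      rcases hs zL (Subtype.ext (by rw [Subgroup.coe_mul, hzt, htb2]; rfl)) with h' | h'
      · exact absurd (e.injective (h'.trans (map_one e).symm)) hzL1
      · rw [← hzt]; exact congrArg Subtype.val (e.injective (h.trans h'.symm))
  have hvne : vb ≠ 1 ∧ vb ≠ tb := by
    refine ⟨fun h => ?_, fun h => ?_⟩
    · exact hv1 (congrArg Subtype.val (eq_one_of_odd hOodd ((hker vC).1 h) (Subtype.ext (hsqV v hvV))))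
    · have h1 : tC t * vC ∈ O := by rw [← hker, map_mul, ← htb, ← hvb, h, htb2]
      have h2 := congrArg Subtype.val (eq_one_of_odd hOodd h1 (Subtype.ext (hsqV _ (V.mul_mem htV hvV))))
      exact hvt ((inv_eq_of_mul_eq_one_right h2).symm.trans (inv_eq_of_mul_eq_one_right (hsqV t htV)))
  have hvL : vb ∉ L := fun h => (hinvolL vb h hvb2).elim hvne.1 hvne.2
  have hCL : ∀ x ∈ L, vb * x = x * vb → x = 1 ∨ x = tb := by
    intro x hx hxc
    rcases hcent x hxc with h | h | h | h
    · exact Or.inl h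
    · exact Or.inr h
    · exact absurd (h ▸ hx) hvL
    · exact absurd (show vb ∈ L from by
        have := mul_mem (inv_mem htL) (h ▸ hx)
        rwa [inv_mul_cancel_left] at this) hvL
  -- the field has three elements
  have hq3 : Fintype.card F = 3 := by
    by_contra hne
    obtain ⟨k₀, hk₀⟩ := id hFodd
    have h5 : 5 ≤ Nat.card F := by rw [Nat.card_eq_fintype_card]; omega
    obtain ⟨p, hchar⟩ := CharP.exists F
    obtain ⟨n, hp, hpn⟩ := FiniteField.card F p
    haveI := Fact.mk hp
    let ψ : L ⧸ center L ≃* Matrix.ProjectiveSpecialLinearGroup (Fin 2) F :=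
      QuotientGroup.congr _ _ e (by
        ext y
        rw [mem_map, mem_center_iff]
        constructor
        · rintro ⟨l, hl, rfl⟩ g
          obtain ⟨g', rfl⟩ := e.surjective g
          show e g' * e l = e l * e g'
          rw [← map_mul, ← map_mul, mem_center_iff.1 hl g']
        · intro hy
          refine ⟨e.symm y, mem_center_iff.2 fun g => e.injective ?_, e.apply_symm_apply y⟩
          rw [map_mul, map_mul, e.apply_symm_apply, hy])
    let β : MulAut (Matrix.ProjectiveSpecialLinearGroup (Fin 2) F) :=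
      AlmostZ.autCongr ψ (GWApps.quotCenterAut L (MulAut.conjNormal vb))
    have hβ : ∀ x : L, β (ψ (QuotientGroup.mk x)) = ψ (QuotientGroup.mk (MulAut.conjNormal vb x)) := by
      intro x
      simp [β, AlmostZ.autCongr, GWApps.quotCenterAut]
      rfl
    have hββ : β * β = 1 := by
      rw [← map_mul (AlmostZ.autCongr ψ), ← map_mul, ← map_mul, hvb2, map_one, map_one, map_one]
    -- at most one fixed nontrivial element
    have hone : ∀ a b, β a = a → β b = b → a ≠ 1 → b ≠ 1 → a = b := by
      have key : ∀ x : L, β (ψ (QuotientGroup.mk x)) = ψ (QuotientGroup.mk x) → ψ (QuotientGroup.mk x) ≠ 1 →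
          (x : C ⧸ O)⁻¹ * (vb * x * vb⁻¹) = tb := by
        intro x hx hx1
        rw [hβ] at hx
        have h1 := QuotientGroup.eq.1 (ψ.injective hx).symm
        rcases hcenL _ h1 with h | h
        · exfalso
          apply hx1
          have h' : (vb : C ⧸ O) * x * vb⁻¹ = x :=
            (MulAut.conjNormal_apply vb x).symm.trans (congrArg Subtype.val (inv_mul_eq_one.1 h).symm)
          have hxz : x ∈ center L := by
            rcases hCL x x.2 (mul_inv_eq_iff_eq_mul.1 h') with h'' | h''
            · rw [show x = 1 from Subtype.ext h'']; exact one_mem _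
            · rw [show x = zL from Subtype.ext (h''.trans hzt.symm)]; exact hzL
          rw [(QuotientGroup.eq_one_iff x).2 hxz, map_one]
        · rw [← hzt, ← h, Subgroup.coe_mul, Subgroup.coe_inv, MulAut.conjNormal_apply]
      intro a b ha hb ha1 hb1
      obtain ⟨a', rfl⟩ := ψ.surjective a
      obtain ⟨b', rfl⟩ := ψ.surjective b
      induction a' using QuotientGroup.induction_on with
      | H x =>
        induction b' using QuotientGroup.induction_on with
        | H y =>
          have hx := key x ha ha1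
          have hy := key y hb hb1
          have hfix : vb * ((y : C ⧸ O) * (x : C ⧸ O)⁻¹) = (y : C ⧸ O) * (x : C ⧸ O)⁻¹ * vb := by
            rw [inv_mul_eq_iff_eq_mul] at hx hy
            have h3 : vb * ((y : C ⧸ O) * (x : C ⧸ O)⁻¹) * vb⁻¹ =
                vb * y * vb⁻¹ * (vb * x * vb⁻¹)⁻¹ := by group
            rw [hx, hy] at h3
            refine mul_inv_eq_iff_eq_mul.1 ?_
            rw [h3]
            group
          have hmem : x⁻¹ * y ∈ center L := by
            rcases hCL _ (L.mul_mem y.2 (L.inv_mem x.2)) hfix with h | h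
            · rw [show y = x from Subtype.ext (mul_inv_eq_one.1 h), inv_mul_cancel]; exact one_mem _
            · rw [show y = x * zL from Subtype.ext (by
                rw [Subgroup.coe_mul, hzt, htbc]; exact mul_inv_eq_iff_eq_mul.1 h), inv_mul_cancel_left]
              exact hzL
          exact congrArg ψ (QuotientGroup.eq.2 hmem)
    have hβ1 : β ≠ 1 := by
      intro h1
      have hall : ∀ a : Matrix.ProjectiveSpecialLinearGroup (Fin 2) F, ∀ b, a ≠ 1 → b ≠ 1 → a = b :=
        fun a b => hone a b (by rw [h1]; rfl) (by rw [h1]; rfl)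
      have h60 : 3 ≤ Nat.card (L ⧸ center L) := by
        have := (center L).card_eq_card_quotient_mul_card_subgroup
        rw [hLz] at this
        omega
      rw [Nat.card_congr ψ.toEquiv] at h60
      haveI := Fintype.ofFinite (Matrix.ProjectiveSpecialLinearGroup (Fin 2) F)
      rw [Nat.card_eq_fintype_card] at h60
      obtain ⟨a, b, c, hab, hac, hbc⟩ := Fintype.two_lt_card_iff.1 h60
      by_cases ha : a = 1
      · exact hbc (hall b c (fun h => hab (ha.trans h.symm)) (fun h => hac (ha.trans h.symm)))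
      by_cases hb : b = 1
      · exact hac (hall a c ha fun h => hbc (hb.trans h.symm))
      exact hab (hall a b ha hb)
    have hfq : Odd (Nat.card F) := by rw [Nat.card_eq_fintype_card]; exact hFodd
    have hg : Nat.gcd 2 (Nat.card F - 1) = 2 := Nat.gcd_eq_left (by obtain ⟨j, hj⟩ := hfq; omega)
    obtain ⟨k, hk, hko, hk2⟩ : ∃ k, (k = (Nat.card F - 1) / Nat.gcd 2 (Nat.card F - 1) ∨
        k = (Nat.card F + 1) / Nat.gcd 2 (Nat.card F - 1)) ∧ Odd k ∧ 2 ≤ k := by
      rw [hg]
      obtain ⟨j, hj⟩ := hfq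
      rcases Nat.even_or_odd j with hj' | hj'
      · exact ⟨j + 1, Or.inr (by omega), hj'.add_one, by omega⟩
      · exact ⟨j, Or.inl (by omega), hj', by omega⟩
    rcases GWApps.AutInvol.invol_cases (p := p) hk hko hfq h5 β hββ hβ1 with
      ⟨a, b, ha, hb, hab, -, hfa, hfb⟩ | ⟨g, -, -, u, w, hu, -, hfu, -⟩
    · exact hab (hone a b hfa hfb (Invol.ne_one ha) (Invol.ne_one hb))
    · have hu1 : u ≠ 1 := fun h => by rw [h, orderOf_one] at hu; omega
      have hu2 : u * u ≠ 1 := fun h => by
        have := Nat.le_of_dvd (by norm_num) (orderOf_dvd_of_pow_eq_one (x := u) (n := 2) (by rw [sq, h]))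
        obtain ⟨i, hi⟩ := hko
        omega
      exact hu1 (left_eq_mul.1 (hone u (u * u) hfu (by rw [map_mul, hfu]) hu1 hu2))
  obtain ⟨e3⟩ := nonempty_slMat hq3
  let φ : L ≃* slMat := e.trans e3
  -- the centraliser of the derived subgroup
  have hK : ∀ x : C ⧸ O, (∀ l ∈ L, x * l = l * x) → x = 1 ∨ x = tb := by
    set K := centralizer (L : Set (C ⧸ O)) with hKdef
    haveI : K.Normal := Subgroup.normal_centralizer (H := L)
    set T : Sylow 2 (C ⧸ O) := (S.subtype hSC).mapSurjective hπ with hT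
    have hπS : ∀ a : C, (a : N) ∈ (S : Subgroup N) → π a = 1 → a = 1 := fun a ha h1 => by
      obtain ⟨i, hi⟩ := IsPGroup.iff_orderOf.1 S.2 ⟨a, ha⟩
      rw [Subgroup.orderOf_mk] at hi
      have h3 := DGroup.odd_orderOf hOodd ((hker a).1 h1)
      rw [← Subgroup.orderOf_coe, hi] at h3
      rcases i.eq_zero_or_pos with rfl | hi0
      · exact Subtype.ext (orderOf_eq_one_iff.1 (hi.trans (pow_zero 2)))
      · exact absurd (Nat.even_pow.2 ⟨even_two, by omega⟩) (Nat.not_even_iff_odd.2 h3)
    -- the normal quaternion subgroup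
    obtain ⟨f, g, hfd, hgd, hff, hgg, hfg, hne⟩ := exists_quaternion
    let P8 : Subgroup (C ⧸ O) :=
      { carrier := {x | x ∈ L ∧ x ^ 4 = 1}
        one_mem' := ⟨one_mem L, one_pow 4⟩
        mul_mem' := fun {a b} ha hb => ⟨L.mul_mem ha.1 hb.1, by
          have h1 : ∀ (c : C ⧸ O) (hc : c ∈ L), c ^ 4 = 1 → ((φ ⟨c, hc⟩ : slMat) : Mat) ^ 4 = 1 := by
            intro c hc h4
            rw [← SubgroupClass.coe_pow, ← map_pow, show (⟨c, hc⟩ : L) ^ 4 = 1 from Subtype.ext h4, map_one]
            rfl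
          have h2 := four_mul _ _ (mem_slMat.1 (φ ⟨a, ha.1⟩).2) (mem_slMat.1 (φ ⟨b, hb.1⟩).2) (h1 a ha.1 ha.2)
            (h1 b hb.1 hb.2)
          rw [← Subgroup.coe_mul, ← map_mul, ← SubgroupClass.coe_pow, ← map_pow, OneMemClass.coe_eq_one,
            MulEquiv.map_eq_one_iff] at h2
          exact congrArg Subtype.val h2⟩
        inv_mem' := fun {a} ha => ⟨L.inv_mem ha.1, by rw [inv_pow, ha.2, inv_one]⟩ }
    haveI : P8.Normal := ⟨fun a ha b => ⟨(inferInstance : L.Normal).conj_mem a ha.1 b, by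
      rw [conj_pow, ha.2, mul_one, mul_inv_cancel]⟩⟩
    have hP8 : IsPGroup 2 P8 := fun a => ⟨2, Subtype.ext a.2.2⟩
    have hP8T : P8 ≤ (T : Subgroup (C ⧸ O)) := by
      have h1 := hP8.to_sup_of_normal_left T.2
      rw [← T.is_maximal' h1 le_sup_right]
      exact le_sup_left
    let fL : L := φ.symm ⟨f, mem_slMat.2 hfd⟩
    let gL : L := φ.symm ⟨g, mem_slMat.2 hgd⟩
    have hsq : ∀ w : slMat, (w : Mat) * w = z → ((φ.symm w : L) : C ⧸ O) * (φ.symm w : L) ≠ 1 ∧
        ((φ.symm w : L) : C ⧸ O) ^ 4 = 1 := by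
      intro w hw
      constructor
      · intro h
        have h1 : φ.symm (w * w) = 1 := Subtype.ext (by rw [map_mul]; exact h)
        rw [MulEquiv.map_eq_one_iff] at h1
        exact absurd (hw ▸ congrArg Subtype.val h1) (show z ≠ (1 : Mat) by decide +kernel)
      · rw [← SubgroupClass.coe_pow, ← map_pow, show w ^ 4 = 1 from Subtype.ext (by
          rw [SubgroupClass.coe_pow, show 4 = 2 * 2 from rfl, pow_mul, sq, sq, hw]
          exact show z * z = (1 : Mat) by decide +kernel), map_one]
        rfl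
    have hfT : (fL : C ⧸ O) ∈ (T : Subgroup (C ⧸ O)) := hP8T ⟨fL.2, (hsq _ hff).2⟩
    have hgT : (gL : C ⧸ O) ∈ (T : Subgroup (C ⧸ O)) := hP8T ⟨gL.2, (hsq _ hgg).2⟩
    have hTK : ∀ y ∈ (T : Subgroup (C ⧸ O)), y ∈ K → y = 1 ∨ y = tb := by
      rintro _ ⟨a, ha, rfl⟩ hyK
      obtain ⟨fc, hfc, hfe⟩ := hfT
      obtain ⟨gc, hgc, hge⟩ := hgT
      have haS : (a : N) ∈ (S : Subgroup N) := ha
      have hlift : ∀ (b : C) (hb : (b : N) ∈ (S : Subgroup N)), π b ∈ L →
          Commute (⟨(a : N), haS⟩ : (S : Subgroup N)) ⟨(b : N), hb⟩ := by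
        intro b hb hbL
        have h1 : π (a * b * a⁻¹ * b⁻¹) = 1 := by
          rw [map_mul, map_mul, map_mul, map_inv, map_inv, ← mem_centralizer_iff.1 hyK _ hbL,
            mul_inv_cancel_right, mul_inv_cancel]
        have h3 := hπS (a * b * a⁻¹ * b⁻¹) (mul_mem (mul_mem (mul_mem haS hb) (inv_mem haS)) (inv_mem hb)) h1
        have h4 : a * b = b * a := mul_inv_eq_iff_eq_mul.1 (mul_inv_eq_one.1 h3)
        exact Subtype.ext (show (a : N) * b = b * a from congrArg Subtype.val h4)
      let A : (S : Subgroup N) := ⟨(a : N), ha⟩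
      let X : (S : Subgroup N) := ⟨(fc : N), hfc⟩
      let Y : (S : Subgroup N) := ⟨(gc : N), hgc⟩
      have hAX : Commute A X := hlift fc hfc (hfe ▸ fL.2)
      have hAY : Commute A Y := hlift gc hgc (hge ▸ gL.2)
      have hX2 : X * X ≠ 1 := fun h => (hsq _ hff).1 (by
        rw [← hfe]
        show π fc * π fc = 1
        rw [← map_mul, show fc * fc = 1 from Subtype.ext (congrArg (fun s : (S : Subgroup N) => (s : N)) h), map_one])
      have hY2 : Y * Y ≠ 1 := fun h => (hsq _ hgg).1 (by
        rw [← hge]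
        show π gc * π gc = 1
        rw [← map_mul, show gc * gc = 1 from Subtype.ext (congrArg (fun s : (S : Subgroup N) => (s : N)) h), map_one])
      have hXY2 : X * Y * (X * Y) ≠ 1 := fun h => by
        refine (hsq (⟨f, mem_slMat.2 hfd⟩ * ⟨g, mem_slMat.2 hgd⟩) hfg).1 ?_
        rw [map_mul, Subgroup.coe_mul]
        show (fL : C ⧸ O) * gL * ((fL : C ⧸ O) * gL) = 1
        rw [← hfe, ← hge]
        show π fc * π gc * (π fc * π gc) = 1
        rw [← map_mul, ← map_mul, show fc * gc * (fc * gc) = 1 from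
          Subtype.ext (congrArg (fun s : (S : Subgroup N) => (s : N)) h), map_one]
      have hXYne : X * Y ≠ Y * X := fun h => hne (by
        have h1 : fL * gL = gL * fL := Subtype.ext (by
          rw [Subgroup.coe_mul, Subgroup.coe_mul, ← hfe, ← hge]
          show π fc * π gc = π gc * π fc
          rw [← map_mul, ← map_mul, show fc * gc = gc * fc from
            Subtype.ext (congrArg (fun s : (S : Subgroup N) => (s : N)) h)])
        have h2 := congrArg φ h1
        simp only [map_mul, fL, gL, MulEquiv.apply_symm_apply] at h2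
        exact congrArg Subtype.val h2)
      have hA : A = 1 ∨ A = D.z := by
        have hz1 : ∀ Z : (S : Subgroup N), Z * Z ≠ 1 → ¬ (Z = 1 ∨ Z = D.z) := fun Z hZ h =>
          hZ (h.elim (fun h => by rw [h, mul_one]) fun h => by rw [h, D.z_sq])
        rcases D.cases A with ⟨i, hi⟩ | ⟨i, hi⟩
        · rcases D.cases X with ⟨j, hj⟩ | ⟨j, hj⟩
          · rcases D.cases Y with ⟨l, hl⟩ | ⟨l, hl⟩
            · exact absurd (by rw [hj, hl, ← zpow_add, ← zpow_add, add_comm]) hXYne
            · rw [hi]; exact D.rot_commute_iff.1 (hi ▸ hl ▸ hAY)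
          · rw [hi]; exact D.rot_commute_iff.1 (hi ▸ hj ▸ hAX)
        · exfalso
          have hrot : ∀ (W : (S : Subgroup N)) (j : ℤ), W = D.x ^ j → Commute A W → W * W ≠ 1 → False :=
            fun W j hW hAW hW2 => hz1 W hW2 (by rw [hW]; exact D.rot_commute_iff.1 (hi ▸ hW ▸ hAW.symm))
          rcases D.cases X with ⟨j, hj⟩ | ⟨j, hj⟩
          · exact hrot X j hj hAX hX2
          rcases D.cases Y with ⟨l, hl⟩ | ⟨l, hl⟩
          · exact hrot Y l hl hAY hY2
          rcases D.cases (X * Y) with ⟨k, hk⟩ | ⟨k, hk⟩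
          · exact hrot _ k hk (hAX.mul_right hAY) hXY2
          · refine D.ne_rot k (j + (4 * (D.q : ℤ) - 1) * l + 4 * (D.q : ℤ) * 0) ?_ |>.elim
            rw [← hk, hj, hl, mul_assoc, ← mul_assoc D.y, D.y_mul, mul_assoc, D.yy, mul_one, ← zpow_add]
            simp
      rcases hA with h | h
      · left; rw [show a = 1 from Subtype.ext (congrArg (fun s : (S : Subgroup N) => (s : N)) h), map_one]
      · right; rw [htb, show a = tC t from Subtype.ext (congrArg (fun s : (S : Subgroup N) => (s : N)) h)]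
    -- the two-part of the centraliser
    have htK : tb ∈ K := mem_centralizer_iff.2 fun l _ => htbc l
    let Z : Subgroup K := zpowers ⟨tb, htK⟩
    haveI : Z.Normal := ⟨fun a ha b => by
      obtain ⟨i, rfl⟩ := mem_zpowers_iff.1 ha
      have hc : Commute b ⟨tb, htK⟩ := Subtype.ext (htbc b)
      rw [(hc.zpow_right i).eq, mul_inv_cancel_right]; exact zpow_mem (mem_zpowers _) i⟩
    have htbne : tb ≠ 1 := fun h => hzL1 (Subtype.ext (hzt.trans h))
    have hZc : Nat.card Z = 2 := by
      rw [Nat.card_zpowers, ← Subgroup.orderOf_coe]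
      exact orderOf_eq_prime (by rw [sq]; exact htb2) htbne
    have hKi : Odd Z.index := by
      rw [← Nat.not_even_iff_odd, even_iff_two_dvd]
      intro hd
      have hTi : (T : Subgroup (C ⧸ O)).subgroupOf K ≤ Z := fun y hy => by
        rcases hTK _ hy y.2 with h | h
        · rw [show y = 1 from Subtype.ext h]; exact one_mem _
        · rw [show y = ⟨tb, htK⟩ from Subtype.ext h]; exact mem_zpowers _
      have e1 : Nat.card (K.subgroupOf (T : Subgroup (C ⧸ O))) = Nat.card ((T : Subgroup (C ⧸ O)).subgroupOf K) :=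
        Nat.card_congr
          { toFun := fun y => ⟨⟨y.1.1, y.2⟩, y.1.2⟩
            invFun := fun y => ⟨⟨y.1.1, y.2⟩, y.1.2⟩
            left_inv := fun y => rfl
            right_inv := fun y => rfl }
      have h1 : Nat.card (T : Subgroup (C ⧸ O)) ∣ 2 * K.index := by
        rw [← (K.subgroupOf (T : Subgroup (C ⧸ O))).card_mul_index, e1]
        exact Nat.mul_dvd_mul ((card_dvd_of_le hTi).trans (dvd_of_eq hZc)) (Subgroup.relIndex_dvd_index_of_normal K _)
      have h2 : 4 * K.index ∣ (T : Subgroup (C ⧸ O)).index * Nat.card (T : Subgroup (C ⧸ O)) := by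
        rw [(T : Subgroup (C ⧸ O)).index_mul_card, ← K.card_mul_index, ← Z.card_mul_index, hZc]
        exact Nat.mul_dvd_mul_right (Nat.mul_dvd_mul (dvd_refl 2) hd) _
      have h3 := h2.trans (Nat.mul_dvd_mul_left (T : Subgroup (C ⧸ O)).index h1)
      rw [show (T : Subgroup (C ⧸ O)).index * (2 * K.index) = (T : Subgroup (C ⧸ O)).index * 2 * K.index by ring]
        at h3
      have h4 := Nat.dvd_of_mul_dvd_mul_right (Nat.pos_of_ne_zero Subgroup.index_ne_zero_of_finite) h3
      exact T.not_dvd_index (Nat.dvd_of_mul_dvd_mul_right (by norm_num : 0 < 2) h4)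
    intro x hx
    have hxK : x ∈ K := mem_centralizer_iff.2 fun l hl => (hx l hl).symm
    obtain ⟨W, hW⟩ := exists_right_complement'_of_coprime (N := Z) (by
      rw [hZc]; exact Nat.coprime_two_left.2 hKi)
    set m := Nat.card W with hm
    have hmodd : Odd m := by
      have h1 := hW.card_mul
      rw [← Z.card_mul_index] at h1
      rw [hm, Nat.eq_of_mul_eq_mul_left Nat.card_pos h1]; exact hKi
    have hWmem : ∀ w : K, w ∈ W ↔ w ^ m = 1 := by
      intro w
      refine ⟨fun hw => ?_, fun hw => ?_⟩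
      · have h := congrArg Subtype.val (pow_card_eq_one' (x := (⟨w, hw⟩ : W)))
        rw [SubgroupClass.coe_pow] at h
        exact h
      · obtain ⟨⟨⟨a, ha⟩, ⟨b, hb⟩⟩, hab, -⟩ := hW.existsUnique w
        simp only at hab
        have hcab : Commute a b := by
          obtain ⟨i, rfl⟩ := mem_zpowers_iff.1 ha
          exact (show Commute (⟨tb, htK⟩ : K) b from Subtype.ext (htbc b).symm).zpow_left i
        have hb' : b ^ m = 1 := by
          have h := congrArg Subtype.val (pow_card_eq_one' (x := (⟨b, hb⟩ : W)))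
          rw [SubgroupClass.coe_pow] at h
          exact h
        rw [← hab, hcab.mul_pow, hb', mul_one] at hw
        have ha2 : a ^ 2 = 1 := by
          have := congrArg Subtype.val (pow_card_eq_one' (x := (⟨a, ha⟩ : Z)))
          simpa [hZc] using this
        obtain ⟨i, hi⟩ := hmodd
        rw [hi, pow_succ, pow_mul, ha2, one_pow, one_mul] at hw
        rw [← hab, hw, one_mul]; exact hb
    set U := W.map K.subtype with hU
    haveI hUn : U.Normal := ⟨fun a ha b => by
      obtain ⟨w, hw, rfl⟩ := ha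
      refine ⟨⟨b * w * b⁻¹, (inferInstance : K.Normal).conj_mem _ w.2 b⟩, (hWmem _).2 (Subtype.ext ?_), rfl⟩
      rw [SubgroupClass.coe_pow, conj_pow, ← SubgroupClass.coe_pow, (hWmem w).1 hw]
      simp⟩
    have hUbot : U.comap π ≤ O := by
      refine DGroup.le_oddCore inferInstance ?_
      have hle : O ≤ U.comap π := fun c hc => by
        show π c ∈ U
        rw [(hker c).2 hc]
        exact one_mem U
      have h1 := relIndex_mul_relIndex ⊥ O (U.comap π) bot_le hle
      rw [relIndex_bot_left, relIndex_bot_left] at h1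
      have h2 : O.relIndex (U.comap π) = Nat.card U := by
        have := relIndex_comap (⊥ : Subgroup (C ⧸ O)) π (U.comap π)
        rwa [MonoidHom.comap_bot, hπdef, QuotientGroup.ker_mk', map_comap_eq_self_of_surjective hπ,
          relIndex_bot_left] at this
      rw [← h1, h2, hU, card_map_of_injective K.subtype_injective]
      exact hOodd.mul hmodd
    obtain ⟨⟨⟨a, ha⟩, ⟨b, hb⟩⟩, hab, -⟩ := hW.existsUnique (⟨x, hxK⟩ : K)
    simp only at hab
    have hb1 : b = 1 := by
      obtain ⟨c, hc⟩ := hπ (b : C ⧸ O)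
      have hcU : c ∈ U.comap π := ⟨b, hb, hc.symm⟩
      exact Subtype.ext (hc.symm.trans ((hker c).2 (hUbot hcU)))
    rw [hb1, mul_one] at hab
    obtain ⟨i, hi⟩ := mem_zpowers_iff.1 ha
    have hx' : x = tb ^ i := by
      have := congrArg Subtype.val (hab.symm.trans hi.symm)
      simpa using this
    rcases Int.even_or_odd' i with ⟨j, rfl | rfl⟩
    · left; rw [hx', zpow_mul, zpow_two, htb2, one_zpow]
    · right; rw [hx', zpow_add_one, zpow_mul, zpow_two, htb2, one_zpow, one_mul]
  obtain ⟨j, hj⟩ := exists_equiv φ vb tb hvb2 hvL htL hK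
  refine ⟨t, hto, ⟨{ π := j.symm.toMonoidHom.comp π
                     surj := j.symm.surjective.comp hπ
                     odd := ?_
                     v := vC
                     hv := Subtype.ext (hsqV v hvV)
                     hvc := hj
                     hinv := fun o ho => hinv o ?_ }⟩⟩
  · rw [show (j.symm.toMonoidHom.comp π).ker = O from Subgroup.ext fun c => by simp [← hker c]]
    exact hOodd
  · simpa [← hker] using ho

end CfsgLib.WongThree
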