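import Cfsg.Agent.S0387
import Cfsg.Agent.S0388
import Cfsg.Agent.SmallSimple.M11Uniq.Main
import Cfsg.Agent.Golay.SmallStab
import Mathlib.GroupTheory.SpecificGroups.KleinFour

/-!
# A four-group normaliser is not maximal in the Mathieu group on eleven points

The four-groups form one class (one class of involutions, each with centraliser `GL(2, 3)`), and one of
them has its normaliser inside the pair stabiliser `S₅`.
-/

set_option autoImplicit false
set_option linter.unusedSectionVars false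
set_option linter.style.haveILetI false

namespace CfsgLib.WongThree

open Subgroup CfsgLib.Golay CfsgLib.Golay.Cert MulAction Cfsg
open scoped Pointwise

universe u

theorem gl_three_facts : ∀ a b c d : ZMod 3, a * a + b * c = 1 → a * b + b * d = 0 → c * a + d * c = 0 →
    c * b + d * d = 1 →
    (a = 1 ∧ b = 0 ∧ c = 0 ∧ d = 1) ∨ (a = 2 ∧ b = 0 ∧ c = 0 ∧ d = 2) ∨
    ∃ x y z w : ZMod 3, x * w - y * z ≠ 0 ∧ a * x + b * z = x ∧ a * y + b * w = -y ∧
      c * x + d * z = z ∧ c * y + d * w = -w := by decide +kernel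

theorem one_ne_neg_one_three : (1 : ZMod 3) ≠ -1 := by decide

/-- In `GL(2, 3)` the involutions other than the central one form one class. -/
theorem gl_three_conj :
    ∃ Z D : GL (Fin 2) (ZMod 3), (∀ x, Commute Z x) ∧ ¬ (∀ x, Commute D x) ∧
      ∀ A : GL (Fin 2) (ZMod 3), A * A = 1 → A = 1 ∨ A = Z ∨ IsConj D A := by
  haveI : Fact (Nat.Prime 3) := ⟨Nat.prime_three⟩
  let Dm : Matrix (Fin 2) (Fin 2) (ZMod 3) := !![1, 0; 0, -1]
  have hD : Dm.det ≠ 0 := by simp [Dm, Matrix.det_fin_two]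
  let U : Matrix (Fin 2) (Fin 2) (ZMod 3) := !![1, 1; 0, 1]
  have hU : U.det ≠ 0 := by simp [U, Matrix.det_fin_two]
  refine ⟨-1, Matrix.GeneralLinearGroup.mkOfDetNeZero Dm hD, fun x => ?_, fun h => ?_, fun A hA => ?_⟩
  · exact Commute.neg_left (Commute.one_left x)
  · have h1 : Dm * U = U * Dm := congrArg Units.val (h (Matrix.GeneralLinearGroup.mkOfDetNeZero U hU)).eq
    have h2 := congrFun (congrFun h1 0) 1
    simp [Dm, U, Matrix.mul_apply, Fin.sum_univ_two] at h2
    exact one_ne_neg_one_three h2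
  · have hA' : A.1 * A.1 = 1 := congrArg Units.val hA
    have e : ∀ i j, (A.1 * A.1) i j = (1 : Matrix (Fin 2) (Fin 2) (ZMod 3)) i j := fun i j => by rw [hA']
    have e00 := e 0 0
    have e01 := e 0 1
    have e10 := e 1 0
    have e11 := e 1 1
    simp only [Matrix.mul_apply, Fin.sum_univ_two, Matrix.one_apply_eq,
      Matrix.one_apply_ne (show (0 : Fin 2) ≠ 1 by decide),
      Matrix.one_apply_ne (show (1 : Fin 2) ≠ 0 by decide)] at e00 e01 e10 e11
    rcases gl_three_facts _ _ _ _ e00 e01 e10 e11 with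
      ⟨h1, h2, h3, h4⟩ | ⟨h1, h2, h3, h4⟩ | ⟨x, y, z, w, hd, h1, h2, h3, h4⟩
    · exact Or.inl (Units.ext (by ext i j; fin_cases i <;> fin_cases j <;> simp [h1, h2, h3, h4]))
    · refine Or.inr (Or.inl (Units.ext ?_))
      rw [Units.val_neg, Units.val_one]
      ext i j
      fin_cases i <;> fin_cases j <;> simp [h1, h2, h3, h4] <;> decide
    · refine Or.inr (Or.inr (isConj_iff.2 ⟨Matrix.GeneralLinearGroup.mkOfDetNeZero !![x, y; z, w]
        (by rw [Matrix.det_fin_two_of]; exact hd), ?_⟩))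
      rw [mul_inv_eq_iff_eq_mul]
      refine Units.ext ?_
      show !![x, y; z, w] * Dm = A.1 * !![x, y; z, w]
      ext i j
      fin_cases i <;> fin_cases j <;>
        simp [Dm, Matrix.mul_apply, Fin.sum_univ_two, h1, h2, h3, h4]

/-- Two involutions of a dodecad-point stabiliser are conjugate there. -/
theorem dodecad_point_invol {d : Finset GolayPt} (hd : d ∈ dodecads) {p : GolayPt} (hp : p ∈ d)
    {a b : ↥(stabilizer M24 d ⊓ stabilizer M24 p)} (ha : orderOf a = 2) (hb : orderOf b = 2) :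
    IsConj a b := by
  classical
  have five : ∀ x : ↥(stabilizer M24 d ⊓ stabilizer M24 p), orderOf x = 2 →
      ∃ u : Fin 5 ↪ GolayPt, (∀ i, u i ∈ d) ∧ u 0 = p ∧ x.1.1 (u 0) = u 0 ∧ x.1.1 (u 1) = u 2 ∧
        x.1.1 (u 2) = u 1 ∧ x.1.1 (u 3) = u 4 ∧ x.1.1 (u 4) = u 3 := by
    intro x hx
    set σ : M24 := x.1
    have hσd : σ ∈ stabilizer M24 d := x.2.1
    have hσp : σ.1 p = p := x.2.2
    have hσ2 : ∀ y, σ.1 (σ.1 y) = y := fun y => by
      have h := congrArg (fun g : ↥(stabilizer M24 d ⊓ stabilizer M24 p) => g.1.1 y)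
        (hx ▸ pow_orderOf_eq_one x)
      simpa [_root_.sq, Equiv.Perm.mul_apply] using h
    have hne : σ ≠ 1 := fun e => by
      rw [show x = 1 from Subtype.ext e, orderOf_one] at hx
      omega
    have hpick : ∀ t : Finset GolayPt, t ⊆ d → t.card + 5 ≤ 12 → ∃ c ∈ d, c ∉ t ∧ σ.1 c ≠ c :=
      fun t ht hc => by
      by_contra hno
      push Not at hno
      refine hne (eq_one_of_five hd hσd Finset.sdiff_subset ?_ fun y hy =>
        hno y (Finset.mem_sdiff.mp hy).1 (Finset.mem_sdiff.mp hy).2)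
      rw [Finset.card_sdiff_of_subset ht, dodecad_card hd]
      omega
    obtain ⟨s, hsd, -, hms⟩ := hpick ∅ (by simp) (by simp)
    have hσsd := (apply_mem_iff hσd s).mpr hsd
    obtain ⟨r, hrd, hrt, hmr⟩ := hpick {s, σ.1 s} (by simp [Finset.insert_subset_iff, hsd, hσsd])
      (by have := Finset.card_le_two (a := s) (b := σ.1 s); omega)
    simp only [Finset.mem_insert, Finset.mem_singleton, not_or] at hrt
    have hσrd := (apply_mem_iff hσd r).mpr hrd
    have n1 : p ≠ s := fun e => hms (e ▸ hσp)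
    have n2 : p ≠ σ.1 s := fun e => hms (by rw [← e]; exact (σ.1.injective (hσp.trans e)))
    have n3 : p ≠ r := fun e => hmr (e ▸ hσp)
    have n4 : p ≠ σ.1 r := fun e => hmr (by rw [← e]; exact (σ.1.injective (hσp.trans e)))
    have n5 : s ≠ σ.1 r := fun e => hrt.2 (by rw [e, hσ2])
    have n6 : σ.1 s ≠ σ.1 r := fun e => hrt.1 (σ.1.injective e).symm
    refine ⟨⟨![p, s, σ.1 s, r, σ.1 r], ?_⟩, ?_, rfl, hσp, rfl, hσ2 s, rfl, hσ2 r⟩
    · intro i j
      fin_cases i <;> fin_cases j <;>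
        simp [n1, n2, n3, n4, n5, n6, n1.symm, n2.symm, n3.symm, n4.symm, n5.symm, n6.symm, hms, hmr,
          Ne.symm hms, Ne.symm hmr, hrt.1, hrt.2, Ne.symm hrt.1, Ne.symm hrt.2]
    · intro i
      fin_cases i
      exacts [hp, hsd, hσsd, hrd, hσrd]
  obtain ⟨u, hu, hup, a0, a1, a2, a3, a4⟩ := five a ha
  obtain ⟨w, hw, hwp, b0, b1, b2, b3, b4⟩ := five b hb
  obtain ⟨g, hg, -⟩ := sharply_five hd u w hu hw
  have hg' : ∀ i, (g : M24).1 (u i) = w i := hg
  have hgp : (g : M24).1 p = p := by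
    have h0 := hg' 0
    rwa [hup, hwp] at h0
  refine isConj_iff.2 ⟨⟨(g : M24), g.2, hgp⟩, Subtype.ext ?_⟩
  set k : M24 := (g : M24)
  show k * a.1 * k⁻¹ = b.1
  have h1 : b.1⁻¹ * (k * a.1 * k⁻¹) = 1 := by
    refine eq_one_of_five hd (mul_mem (inv_mem b.2.1) (mul_mem (mul_mem g.2 a.2.1) (inv_mem g.2)))
      (t := Finset.univ.map w) (fun x hx => ?_) (by simp) fun x hx => ?_
    · obtain ⟨i, -, rfl⟩ := Finset.mem_map.1 hx
      exact hw i
    · obtain ⟨i, -, rfl⟩ := Finset.mem_map.1 hx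
      have hk : (k⁻¹ : M24).1 (w i) = u i := by
        rw [← hg' i, Subgroup.coe_inv]; simp [k]
      have hb' : ∀ j j', b.1.1 (w j) = w j' → (b.1⁻¹ : M24).1 (w j') = w j := fun j j' e => by
        rw [← e, Subgroup.coe_inv]; simp
      simp only [Subgroup.coe_mul, Equiv.Perm.mul_apply]
      rw [hk]
      fin_cases i
      · exact (congrArg _ ((congrArg k.1 a0).trans (hg' 0))).trans (hb' 0 0 b0)
      · exact (congrArg _ ((congrArg k.1 a1).trans (hg' 2))).trans (hb' 1 2 b1)
      · exact (congrArg _ ((congrArg k.1 a2).trans (hg' 1))).trans (hb' 2 1 b2)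
      · exact (congrArg _ ((congrArg k.1 a3).trans (hg' 4))).trans (hb' 3 4 b3)
      · exact (congrArg _ ((congrArg k.1 a4).trans (hg' 3))).trans (hb' 4 3 b4)
  exact (inv_mul_eq_one.1 h1).symm

/-- Two double transpositions of five letters. -/
abbrev dblA : Equiv.Perm (Fin 5) := Equiv.swap 0 1 * Equiv.swap 2 3

/-- The second one. -/
abbrev dblB : Equiv.Perm (Fin 5) := Equiv.swap 0 2 * Equiv.swap 1 3

theorem dbl_facts : dblA * dblA = 1 ∧ dblB * dblB = 1 ∧ dblA * dblB = dblB * dblA ∧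
    dblA ≠ 1 ∧ dblB ≠ 1 ∧ dblA ≠ dblB := by decide

theorem dbl_normal : ∀ π : Equiv.Perm (Fin 5), π 4 = 4 →
    (π * dblA * π⁻¹ = dblA ∨ π * dblA * π⁻¹ = dblB ∨ π * dblA * π⁻¹ = dblA * dblB) ∧
    (π * dblB * π⁻¹ = dblA ∨ π * dblB * π⁻¹ = dblB ∨ π * dblB * π⁻¹ = dblA * dblB) := by
  decide +kernel

theorem card_fix_four : Fintype.card {π : Equiv.Perm (Fin 5) // π 4 = 4} = 24 := by decide +kernel

theorem exists_dodecad : ∃ d : Finset GolayPt, d ∈ dodecads := by
  obtain ⟨d, hd⟩ := Set.nonempty_of_ncard_ne_zero (s := dodecads) (by rw [dodecad_count]; norm_num)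
  exact ⟨d, hd⟩

/-- **A four-group normaliser of order 24 is not maximal in a simple group of order 7920.** -/
theorem m11_not_coatom {N : Type u} [Group N] [Finite N] [IsSimpleGroup N] (hcard : Nat.card N = 7920)
    (V : Subgroup N) [IsKleinFour V] (hC : Subgroup.centralizer (V : Set N) = V)
    (hN : Nat.card (Subgroup.normalizer (V : Set N)) = 24) :
    ¬ IsCoatom (Subgroup.normalizer (V : Set N)) := by
  classical
  intro hco
  obtain ⟨d, hd⟩ := exists_dodecad
  have hd12 := dodecad_card hd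
  obtain ⟨p, hp⟩ := Finset.card_pos.1 (show 0 < d.card by omega)
  obtain ⟨q, hq, q', hq', hqq'⟩ : ∃ q ∉ d, ∃ q' ∉ d, q ≠ q' := by
    have h : 1 < (Finset.univ \ d).card := by
      rw [Finset.card_sdiff_of_subset (Finset.subset_univ d), hd12, Finset.card_univ,
        show Fintype.card GolayPt = 24 by decide]
      norm_num
    obtain ⟨q, hq, q', hq', hne⟩ := Finset.one_lt_card.1 h
    exact ⟨q, (Finset.mem_sdiff.1 hq).2, q', (Finset.mem_sdiff.1 hq').2, hne⟩
  set G₀ := stabilizer M24 d ⊓ stabilizer M24 p with hG₀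
  haveI : IsSimpleGroup ↥G₀ := Cfsg.Agent.S0388.result d hd p hp
  have hG₀c : Nat.card ↥G₀ = 7920 := Cfsg.Agent.S0387.result d hd p hp
  obtain ⟨e⟩ := CfsgLib.M11Uniq.nonempty_equiv hcard hG₀c (G := ↥G₀) (H := N)
  obtain ⟨f⟩ := stab_pair_sym hd hp hq hq' hqq'
  set K₀ := G₀ ⊓ stabilizer M24 ({q, q'} : Finset GolayPt)
  let j : Equiv.Perm (Fin 5) →* N :=
    (e.toMonoidHom.comp (Subgroup.inclusion (inf_le_left : K₀ ≤ G₀))).comp f.symm.toMonoidHom
  have hj : Function.Injective j :=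
    (e.injective.comp (Subgroup.inclusion_injective _)).comp f.symm.injective
  obtain ⟨hAA, hBB, hAB, hA1, hB1, hne⟩ := dbl_facts
  -- elements of the given four-group
  haveI : Nontrivial V := Finite.one_lt_card_iff_nontrivial.1 (by rw [IsKleinFour.card_four]; norm_num)
  obtain ⟨a, ha1⟩ := exists_ne (1 : V)
  obtain ⟨b, hb1, hba⟩ : ∃ b : V, b ≠ 1 ∧ b ≠ a := by
    by_contra h
    push Not at h
    haveI := Fintype.ofFinite V
    have hle : (Finset.univ : Finset V) ⊆ {1, a} := fun x _ => by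
      by_cases hx : x = 1
      · simp [hx]
      · simp [h x hx]
    have := Finset.card_le_card hle
    rw [Finset.card_univ, ← Nat.card_eq_fintype_card, IsKleinFour.card_four] at this
    have := Finset.card_le_two (a := (1 : V)) (b := a)
    omega
  have hVsq : ∀ x : V, (x : N) * x = 1 := fun x => by
    have := congrArg Subtype.val (IsKleinFour.mul_self x)
    simpa using this
  have hord : ∀ {M : Type u} [Group M] {x : M}, x * x = 1 → x ≠ 1 → orderOf x = 2 := fun {M} _ {x} h h1 =>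
    orderOf_eq_prime (by rw [_root_.sq, h]) h1
  have hconj : ∀ {x y : N}, orderOf x = 2 → orderOf y = 2 → IsConj x y := fun {x y} hx hy => by
    have := dodecad_point_invol hd hp (a := e.symm x) (b := e.symm y)
      (by rw [e.symm.orderOf_eq]; exact hx) (by rw [e.symm.orderOf_eq]; exact hy)
    simpa using e.toMonoidHom.map_isConj this
  set a₀ := j dblA
  set b₀ := j dblB
  have ha₀ : a₀ * a₀ = 1 := by rw [← map_mul, hAA, map_one]
  have hb₀ : b₀ * b₀ = 1 := by rw [← map_mul, hBB, map_one]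
  have ha₀1 : a₀ ≠ 1 := fun h => hA1 (hj (h.trans (map_one j).symm))
  obtain ⟨g, hg⟩ := isConj_iff.1 (hconj (hord (hVsq a) fun h => ha1 (Subtype.ext h)) (hord ha₀ ha₀1))
  -- in the centraliser of `a₀`
  set Z := centralizer ({a₀} : Set N)
  have hgb : g * b * g⁻¹ ∈ Z := by
    rw [mem_centralizer_singleton_iff, ← hg]
    have h1 : Commute (b : N) (a : N) := by
      haveI := IsKleinFour.isMulCommutative (G := V)
      exact congrArg Subtype.val (IsMulCommutative.is_comm.comm b a)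
    exact ((Commute.conj_iff g).2 h1).eq
  have hb₀Z : b₀ ∈ Z := mem_centralizer_singleton_iff.2 (by rw [← map_mul, ← map_mul, hAB])
  have ho : orderOf (e.symm a₀) = 2 := by rw [e.symm.orderOf_eq]; exact hord ha₀ ha₀1
  obtain ⟨φ⟩ : Nonempty (↥Z ≃* GL (Fin 2) (ZMod 3)) := by
    obtain ⟨ψ⟩ := involution_centralizer_gl hd hp (e.symm a₀) ho
    have hZ : Z.map e.symm.toMonoidHom = centralizer ({e.symm a₀} : Set ↥G₀) := by
      ext x
      rw [mem_map_equiv, MulEquiv.symm_symm, mem_centralizer_singleton_iff, mem_centralizer_singleton_iff,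
        ← e.symm.injective.eq_iff, map_mul, map_mul, e.symm_apply_apply]
    exact ⟨((Z.equivMapOfInjective _ e.symm.injective).trans (MulEquiv.subgroupCongr hZ)).trans ψ⟩
  obtain ⟨Zc, Dd, hZc, hDd, hcls⟩ := gl_three_conj
  have ha₀Z : a₀ ∈ Z := mem_centralizer_singleton_iff.2 rfl
  have hZa : φ ⟨a₀, ha₀Z⟩ = Zc := by
    rcases hcls (φ ⟨a₀, ha₀Z⟩) (by
      rw [← map_mul, show (⟨a₀, ha₀Z⟩ : Z) * ⟨a₀, ha₀Z⟩ = 1 from Subtype.ext ha₀, map_one]) with h | h | h
    · exact absurd (congrArg Subtype.val (φ.injective (h.trans (map_one φ).symm))) ha₀1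
    · exact h
    · obtain ⟨c, hc⟩ := isConj_iff.1 h
      refine absurd (fun x => ?_) hDd
      have hcom : Commute (φ ⟨a₀, ha₀Z⟩) (c * x * c⁻¹) := by
        obtain ⟨⟨y, hy⟩, hy'⟩ := φ.surjective (c * x * c⁻¹)
        rw [← hy']
        exact Commute.map (show Commute (⟨a₀, ha₀Z⟩ : Z) ⟨y, hy⟩ from
          Subtype.ext (mem_centralizer_singleton_iff.1 hy).symm) φ
      rw [← hc] at hcom
      exact (Commute.conj_iff c).1 hcom
  have hclass : ∀ y : Z, (y : N) * y = 1 → (y : N) ≠ 1 → (y : N) ≠ a₀ → IsConj Dd (φ y) := fun y h2 h1 ha => by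
    rcases hcls (φ y) (by rw [← map_mul, show y * y = 1 from Subtype.ext h2, map_one]) with h | h | h
    · exact absurd (congrArg Subtype.val (φ.injective (h.trans (map_one φ).symm))) h1
    · exact absurd (congrArg Subtype.val (φ.injective (h.trans hZa.symm))) ha
    · exact h
  have hbc : IsConj (φ ⟨g * b * g⁻¹, hgb⟩) (φ ⟨b₀, hb₀Z⟩) := by
    refine (hclass _ ?_ ?_ ?_).symm.trans (hclass _ hb₀ ?_ ?_)
    · show g * b * g⁻¹ * (g * b * g⁻¹) = 1
      rw [show g * (b : N) * g⁻¹ * (g * b * g⁻¹) = g * (b * b) * g⁻¹ by group, hVsq]; group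
    · exact fun h => hb1 (Subtype.ext (conj_eq_one_iff.1 h))
    · exact fun h => hba (Subtype.ext (mul_left_cancel (mul_right_cancel (h.trans hg.symm))))
    · exact fun h => hB1 (hj (h.trans (map_one j).symm))
    · exact fun h => hne (hj h).symm
  obtain ⟨c, hc⟩ := isConj_iff.1 hbc
  set m : N := ((φ.symm c : Z) : N) * g with hm
  have hma : m * a * m⁻¹ = a₀ := by
    rw [hm, show (φ.symm c : N) * g * a * ((φ.symm c : N) * g)⁻¹ =
      (φ.symm c : N) * (g * a * g⁻¹) * (φ.symm c : N)⁻¹ by group, hg,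
      mem_centralizer_singleton_iff.1 (φ.symm c).2, mul_inv_cancel_right]
  have hmb : m * b * m⁻¹ = b₀ := by
    have h2 := congrArg Subtype.val (congrArg φ.symm hc)
    simp only [map_mul, map_inv, φ.symm_apply_apply, Subgroup.coe_mul, Subgroup.coe_inv] at h2
    rw [hm, show (φ.symm c : N) * g * b * ((φ.symm c : N) * g)⁻¹ =
      (φ.symm c : N) * (g * b * g⁻¹) * (φ.symm c : N)⁻¹ by group]
    exact h2
  -- the conjugate four-group inside the pair stabiliser
  set V' := V.map (MulAut.conj m).toMonoidHom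
  have haV : a₀ ∈ V' := ⟨a, a.2, hma⟩
  have hbV : b₀ ∈ V' := ⟨b, b.2, hmb⟩
  have hmem : ∀ x ∈ V', x = 1 ∨ x = a₀ ∨ x = b₀ ∨ x = a₀ * b₀ := by
    rintro _ ⟨x, hx, rfl⟩
    have : (⟨x, hx⟩ : V) = 1 ∨ (⟨x, hx⟩ : V) = a ∨ (⟨x, hx⟩ : V) = b ∨ (⟨x, hx⟩ : V) = a * b := by
      by_contra hn
      push Not at hn
      haveI := Fintype.ofFinite V
      have h5 : ({(⟨x, hx⟩ : V), 1, a, b, a * b} : Finset V).card ≤ 4 := by
        refine (Finset.card_le_univ _).trans (le_of_eq ?_)
        rw [← Nat.card_eq_fintype_card, IsKleinFour.card_four]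
      have h1 : a * b ≠ 1 := fun h => hba (by
        rw [← mul_one b, ← h, ← mul_assoc]
        haveI := IsKleinFour.isMulCommutative (G := V)
        rw [IsMulCommutative.is_comm.comm b a, mul_assoc, IsKleinFour.mul_self, mul_one])
      have h2 : a * b ≠ a := fun h => hb1 (mul_eq_left.1 h)
      have h3 : a * b ≠ b := fun h => ha1 (mul_eq_right.1 h)
      rw [Finset.card_insert_of_notMem (by simp [hn.1, hn.2.1, hn.2.2.1, hn.2.2.2]),
        Finset.card_insert_of_notMem (by simp [Ne.symm ha1, Ne.symm hb1, Ne.symm h1]),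
        Finset.card_insert_of_notMem (by simp [Ne.symm hba, Ne.symm h2]),
        Finset.card_insert_of_notMem (by simp [Ne.symm h3]), Finset.card_singleton] at h5
      omega
    rcases this with h | h | h | h <;> have h' := congrArg Subtype.val h <;> simp only at h'
    · exact Or.inl (by show m * x * m⁻¹ = 1; rw [h', Subgroup.coe_one, mul_one, mul_inv_cancel])
    · exact Or.inr (Or.inl (by show m * x * m⁻¹ = a₀; rw [h']; exact hma))
    · exact Or.inr (Or.inr (Or.inl (by show m * x * m⁻¹ = b₀; rw [h']; exact hmb)))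
    · refine Or.inr (Or.inr (Or.inr ?_))
      show m * x * m⁻¹ = a₀ * b₀
      rw [h', Subgroup.coe_mul, ← hma, ← hmb]; group
  let M : Subgroup (Equiv.Perm (Fin 5)) := stabilizer (Equiv.Perm (Fin 5)) (4 : Fin 5)
  have hMn : M.map j ≤ normalizer (V' : Set N) := by
    rintro _ ⟨π, hπ, rfl⟩
    obtain ⟨hπa, hπb⟩ := dbl_normal π hπ
    have himg : ∀ {σ : Equiv.Perm (Fin 5)}, σ = dblA ∨ σ = dblB ∨ σ = dblA * dblB → j σ ∈ V' := by
      rintro σ (rfl | rfl | rfl)
      exacts [haV, hbV, by rw [map_mul]; exact mul_mem haV hbV]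
    have hA' : j π * a₀ * (j π)⁻¹ ∈ V' := by
      have := himg hπa
      rwa [map_mul, map_mul, map_inv] at this
    have hB' : j π * b₀ * (j π)⁻¹ ∈ V' := by
      have := himg hπb
      rwa [map_mul, map_mul, map_inv] at this
    refine Subgroup.mem_normalizer_fintype fun x hx => ?_
    rcases hmem x hx with rfl | rfl | rfl | rfl
    · simpa using one_mem V'
    · exact hA'
    · exact hB'
    · have := mul_mem hA' hB'
      rwa [show j π * a₀ * (j π)⁻¹ * (j π * b₀ * (j π)⁻¹) = j π * (a₀ * b₀) * (j π)⁻¹ by group] at this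
  have hMc : Nat.card M = 24 := by
    rw [Nat.card_congr (Equiv.subtypeEquivRight (fun π => by rw [mem_stabilizer_iff]; rfl) :
      ↥M ≃ {π : Equiv.Perm (Fin 5) // π 4 = 4}), Nat.card_eq_fintype_card, card_fix_four]
  have hNV' : normalizer (V' : Set N) = (normalizer (V : Set N)).map (MulAut.conj m).toMonoidHom :=
    (map_equiv_normalizer_eq V (MulAut.conj m)).symm
  have hle : normalizer (V' : Set N) ≤ j.range := by
    have heq : M.map j = normalizer (V' : Set N) := eq_of_le_of_card_ge hMn (le_of_eq (by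
      rw [hNV', card_map_of_injective (MulAut.conj m).injective, hN, card_map_of_injective hj, hMc]))
    rw [← heq]; exact Subgroup.map_le_range _ _
  have hK : Nat.card j.range = 120 := by
    rw [← Nat.card_congr (MonoidHom.ofInjective hj).toEquiv, Nat.card_perm, Nat.card_fin]; rfl
  set K := j.range.map (MulAut.conj m⁻¹).toMonoidHom
  have hKc : Nat.card K = 120 := by rw [card_map_of_injective (MulAut.conj m⁻¹).injective, hK]
  have hNK : normalizer (V : Set N) ≤ K := fun x hx => by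
    refine ⟨m * x * m⁻¹, hle (hNV' ▸ ⟨x, hx, rfl⟩), ?_⟩
    show m⁻¹ * (m * x * m⁻¹) * m⁻¹⁻¹ = x
    group
  rcases hco.le_iff.1 hNK with h | h
  · rw [h, card_top, hcard] at hKc; norm_num at hKc
  · rw [h, hN] at hKc; norm_num at hKc

end CfsgLib.WongThree
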