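import Cfsg.Agent.Dickson.MaxPSL
import Cfsg.Agent.Dickson.Overgroup
import Cfsg.Agent.GWApps.AutInvol
import Cfsg.Agent.Bender.LemmaA.OddTwo
import Mathlib.GroupTheory.SpecificGroups.KleinFour

/-!
# Four-group normalisers of order twenty-four in `PSL₂(q)`

If a self-centralising four-group has normaliser of order `24`, this normaliser has no abelian subgroup
containing all products of outside elements.  So it is neither dihedral nor the fixed group of an inner
diagonal involution, and it is maximal only over a prime field.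
-/

set_option autoImplicit false
set_option linter.unusedSectionVars false
set_option linter.style.haveILetI false

namespace CfsgLib.WongThree

open Subgroup CfsgLib.Dickson CfsgLib.AutPSL Matrix

universe u

/-- The normaliser of a self-centralising four-group, of order `24`, has no abelian subgroup of index two. -/
theorem four_no_abelian_two {G : Type u} [Group G] [Finite G] (V : Subgroup G) [IsKleinFour V]
    (hC : centralizer (V : Set G) = V) (hN : Nat.card (normalizer (V : Set G)) = 24)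
    (A : Subgroup G) (hA : ∀ x ∈ A, ∀ y ∈ A, x * y = y * x)
    (h2 : ∀ x ∈ normalizer (V : Set G), ∀ y ∈ normalizer (V : Set G), x ∉ A → y ∉ A → x * y ∈ A) :
    False := by
  haveI : Fact (Nat.Prime 3) := ⟨Nat.prime_three⟩
  obtain ⟨n0, hn0⟩ := exists_prime_orderOf_dvd_card' (G := normalizer (V : Set G)) 3 (hN ▸ ⟨8, rfl⟩)
  set n : G := (n0 : G) with hn
  have ho : orderOf n = 3 := by rw [hn, Subgroup.orderOf_coe]; exact hn0
  have hn3 : n ^ 3 = 1 := ho ▸ pow_orderOf_eq_one n
  have hnA : n ∈ A := by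
    by_contra h
    have h1 := h2 n n0.2 n n0.2 h h
    refine h ?_
    have h3 : n * n * (n * n) = n := by
      calc n * n * (n * n) = n ^ 3 * n := by simp [pow_succ, mul_assoc]
        _ = n := by rw [hn3, one_mul]
    exact h3 ▸ mul_mem h1 h1
  haveI : Nontrivial V := Finite.one_lt_card_iff_nontrivial.1 (by rw [IsKleinFour.card_four]; omega)
  obtain ⟨a, ha⟩ := exists_ne (1 : V)
  obtain ⟨b, hb, hba⟩ : ∃ b : V, b ≠ 1 ∧ b ≠ a := by
    by_contra h
    push Not at h
    have hs : Function.Surjective (fun i : Bool => if i then a else 1) := fun x => by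
      by_cases hx : x = 1
      · exact ⟨false, by simp [hx]⟩
      · exact ⟨true, by simp [h x hx]⟩
    have := Nat.card_le_card_of_surjective _ hs
    rw [IsKleinFour.card_four, Nat.card_eq_fintype_card, Fintype.card_bool] at this
    omega
  -- a nontrivial element of `V` inside `A`
  obtain ⟨v, hv1, hvA⟩ : ∃ v : V, v ≠ 1 ∧ (v : G) ∈ A := by
    by_cases h1 : (a : G) ∈ A
    · exact ⟨a, ha, h1⟩
    by_cases h3 : (b : G) ∈ A
    · exact ⟨b, hb, h3⟩
    refine ⟨a * b, fun e => hba ?_, h2 a (le_normalizer a.2) b (le_normalizer b.2) h1 h3⟩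
    rw [mul_eq_one_iff_eq_inv, IsKleinFour.inv_eq_self] at e
    exact e.symm
  have hnv : n * v * n⁻¹ = v := by rw [hA n hnA v hvA, mul_inv_cancel_right]
  obtain ⟨w, hw, hwv⟩ : ∃ w : V, w ≠ 1 ∧ w ≠ v := by
    by_cases hav : a = v
    · exact ⟨b, hb, fun e => hba (e.trans hav.symm)⟩
    · exact ⟨a, ha, hav⟩
  -- a power of `n` fixing `w` centralises `V`
  have key : ∀ m : G, m * v * m⁻¹ = v → m * w * m⁻¹ = w → m ∈ V := by
    intro m hmv hmw
    rw [← SetLike.ext_iff.1 hC m]
    refine mem_centralizer_iff.2 fun x hx => ?_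
    rw [mul_inv_eq_iff_eq_mul] at hmv hmw
    by_cases e1 : (⟨x, hx⟩ : V) = 1
    · rw [show x = 1 from congrArg Subtype.val e1, one_mul, mul_one]
    by_cases e2 : (⟨x, hx⟩ : V) = v
    · rw [show x = v from congrArg Subtype.val e2]
      exact hmv.symm
    by_cases e3 : (⟨x, hx⟩ : V) = w
    · rw [show x = w from congrArg Subtype.val e3]
      exact hmw.symm
    have e4 : x = (v : G) * w :=
      congrArg Subtype.val (IsKleinFour.eq_mul_of_ne_all hv1 hw (Ne.symm hwv) e1 e2 e3)
    rw [e4, ← mul_assoc m, hmv, mul_assoc, mul_assoc, hmw]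
  have hsq : ∀ m : G, m ∈ V → m * m = 1 := fun m hm =>
    congrArg Subtype.val (IsKleinFour.mul_self (⟨m, hm⟩ : V))
  have hw' : n * w * n⁻¹ ∈ V := (mem_normalizer_iff.1 n0.2 _).1 w.2
  by_cases hfix : n * w * n⁻¹ = w
  · have h1 := hsq n (key n hnv hfix)
    have : n = 1 := by
      calc n = n ^ 3 * (n * n)⁻¹ := by group
        _ = 1 := by rw [hn3, h1, inv_one, mul_one]
    rw [this, orderOf_one] at ho
    omega
  · have e : n * w * n⁻¹ = (v : G) * w := by
      have h1 : (⟨_, hw'⟩ : V) ≠ 1 := fun e => hw (Subtype.ext (by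
        have : n * w * n⁻¹ = 1 := congrArg Subtype.val e
        rwa [conj_eq_one_iff] at this))
      have h3 : (⟨_, hw'⟩ : V) ≠ v := fun e => hwv (Subtype.ext (by
        have : n * w * n⁻¹ = n * v * n⁻¹ := (congrArg Subtype.val e).trans hnv.symm
        exact mul_left_cancel (mul_right_cancel this)))
      have h4 : (⟨_, hw'⟩ : V) ≠ w := fun e => hfix (congrArg Subtype.val e)
      exact congrArg Subtype.val (IsKleinFour.eq_mul_of_ne_all hv1 hw (Ne.symm hwv) h1 h3 h4)
    have e2 : n * n * w * (n * n)⁻¹ = w := by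
      calc n * n * w * (n * n)⁻¹ = n * (n * w * n⁻¹) * n⁻¹ := by group
        _ = (n * v * n⁻¹) * (n * w * n⁻¹) := by
          conv_lhs => rw [e]
          group
        _ = (v : G) * v * w := by rw [hnv, e, mul_assoc]
        _ = w := by rw [hsq v v.2, one_mul]
    have ev : n * n * v * (n * n)⁻¹ = v := by
      calc n * n * v * (n * n)⁻¹ = n * (n * v * n⁻¹) * n⁻¹ := by group
        _ = v := by rw [hnv, hnv]
    have h1 := hsq (n * n) (key (n * n) ev e2)
    have : n = 1 := by
      calc n = (n * n * (n * n)) * (n ^ 3)⁻¹ := by group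
        _ = 1 := by rw [h1, hn3, inv_one, mul_one]
    rw [this, orderOf_one] at ho
    omega

section Field

variable {F : Type} [Field F] [Fintype F]

theorem five_le_of_sixteen (hodd : Odd (Nat.card F)) (h16 : 16 ∣ Nat.card (PSL2 F)) :
    5 ≤ Nat.card F ∧ Nat.card F ≠ 9 := by
  have h := CfsgLib.Linear.PSLTwo.two_mul_card_psl F hodd
  have h2 : 2 ≤ Nat.card F := Finite.one_lt_card
  obtain ⟨j, hj⟩ := hodd
  obtain ⟨i, hi⟩ := h16
  constructor
  · by_contra h5
    rw [show Nat.card F = 3 by omega, hi] at h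
    omega
  · intro h9
    rw [h9, hi] at h
    omega

/-- A maximal four-group normaliser of order `24` only occurs over a prime field. -/
theorem psl_four_prime (hodd : Odd (Fintype.card F))
    (h16 : 16 ∣ Nat.card (PSL2 F)) (V : Subgroup (PSL2 F)) [IsKleinFour V]
    (hC : centralizer (V : Set (PSL2 F)) = V) (hN : Nat.card (normalizer (V : Set (PSL2 F))) = 24)
    (hM : IsCoatom (normalizer (V : Set (PSL2 F)))) : (Fintype.card F).Prime := by
  classical
  rw [← Nat.card_eq_fintype_card] at hodd ⊢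
  obtain ⟨h5, h9⟩ := five_le_of_sixteen hodd h16
  obtain ⟨p, hpc⟩ := CharP.exists F
  haveI := Fact.mk (CharP.char_is_prime F p)
  rcases MaxSub.psl_max p (by omega) hM with ⟨P, hP⟩ | ⟨c, -, ⟨e⟩⟩ | ⟨-, -, ⟨e⟩⟩ | ⟨-, ⟨hq, -⟩, -⟩ |
      ⟨-, -, -, ⟨e⟩⟩ | ⟨f, m, hf, hq, hm, h⟩
  · have h1 := CfsgLib.Linear.PSLTwo.card_normalizer p P
    rw [← hP, hN, CfsgLib.Linear.PSLTwo.gcd_eq_two hodd] at h1
    obtain ⟨j, hj⟩ := hodd
    rw [hj, show (2 * j + 1 - 1) / 2 = j by omega] at h1
    rcases Nat.lt_or_ge j 4 with h4 | h4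
    · interval_cases j <;> omega
    · have := Nat.mul_le_mul (show 9 ≤ 2 * j + 1 by omega) h4
      omega
  · generalize c / Nat.gcd 2 (Nat.card F - 1) = d at e
    let π : DihedralGroup d →* PSL2 F :=
      (normalizer (V : Set (PSL2 F))).subtype.comp e.symm.toMonoidHom
    refine (four_no_abelian_two V hC hN ((zpowers (DihedralGroup.r 1)).map π) ?_ ?_).elim
    · rintro _ ⟨_, ⟨i, rfl⟩, rfl⟩ _ ⟨_, ⟨j, rfl⟩, rfl⟩
      rw [← map_mul, ← map_mul, ← _root_.zpow_add, ← _root_.zpow_add, add_comm]
    · intro x hx y hy hxA hyA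
      have hr : ∀ z (hz : z ∈ normalizer (V : Set (PSL2 F))) (i : ZMod d), e ⟨z, hz⟩ = .r i →
          z ∈ (zpowers (DihedralGroup.r 1)).map π := fun z hz i he =>
        ⟨.r i, mem_zpowers_iff.2 ⟨i.cast, by rw [DihedralGroup.r_one_zpow, ZMod.intCast_zmod_cast]⟩, by
          show ((e.symm (.r i) : normalizer (V : Set (PSL2 F))) : PSL2 F) = z
          rw [← he, e.symm_apply_apply]⟩
      rcases hxe : e ⟨x, hx⟩ with i | i
      · exact (hxA (hr x hx i hxe)).elim
      rcases hye : e ⟨y, hy⟩ with j | j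
      · exact (hyA (hr y hy j hye)).elim
      refine hr _ (mul_mem hx hy) (j - i) ?_
      rw [show (⟨x * y, mul_mem hx hy⟩ : normalizer (V : Set (PSL2 F))) = ⟨x, hx⟩ * ⟨y, hy⟩ from rfl,
        map_mul, hxe, hye, DihedralGroup.sr_mul_sr]
  · rw [Nat.card_congr e.toEquiv, nat_card_alternatingGroup, Nat.card_fin] at hN
    exact absurd hN (by decide)
  · exact hq ▸ Fact.out
  · rw [Nat.card_congr e.toEquiv, nat_card_alternatingGroup, Nat.card_fin] at hN
    exact absurd hN (by decide)
  · exfalso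
    have hp2 : p ≠ 2 := fun e => by
      rw [hq, e, ← pow_mul, Nat.odd_pow_iff (by have := hm.pos; exact (Nat.mul_pos hf this).ne')] at hodd
      exact absurd hodd (by decide)
    have hgf := CfsgLib.Linear.PSLTwo.card_gf p f hf
    set q0 := p ^ f
    have hq02 : 2 ≤ q0 := (Nat.prime_def.1 (Fact.out : p.Prime)).1.trans (Nat.le_self_pow (by omega) p)
    have hbig : 4 ≤ q0 → 60 ≤ q0 * (q0 ^ 2 - 1) := fun h4 => by
      have := Nat.mul_le_mul h4 (Nat.sub_le_sub_right (Nat.pow_le_pow_left h4 2) 1)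
      omega
    rcases h with ⟨hpm, hne2, ⟨e⟩⟩ | ⟨-, -, ⟨e⟩⟩ <;> rw [Nat.card_congr e.toEquiv] at hN
    · rw [CfsgLib.Linear.PSLTwo.card_pgl, hgf] at hN
      have : q0 = 3 := by
        rcases Nat.lt_or_ge q0 4 with h4 | h4
        · omega
        · have := hbig h4; omega
      exact h9 (by rw [hq, this, hpm.resolve_left hp2]; rfl)
    · have h1 := CfsgLib.Linear.PSLTwo.two_mul_card_psl (GaloisField p f) (by
        rw [hgf]
        exact ((Fact.out : p.Prime).odd_of_ne_two hp2).pow)
      rw [hN, hgf] at h1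
      rcases Nat.lt_or_ge q0 4 with h4 | h4
      · interval_cases q0 <;> omega
      · have := hbig h4; omega

/-- No involutory automorphism has a four-group normaliser of order `24` as its fixed group. -/
theorem psl_four_not_fixed (hodd : Odd (Fintype.card F))
    (h16 : 16 ∣ Nat.card (PSL2 F)) (V : Subgroup (PSL2 F)) [IsKleinFour V]
    (hC : centralizer (V : Set (PSL2 F)) = V) (hN : Nat.card (normalizer (V : Set (PSL2 F))) = 24)
    (α : MulAut (PSL2 F)) (hα : α * α = 1) (hα1 : α ≠ 1) :
    ¬ ∀ x, (α x = x ↔ x ∈ normalizer (V : Set (PSL2 F))) := by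
  classical
  intro hfix
  rw [← Nat.card_eq_fintype_card] at hodd
  obtain ⟨h5, h9⟩ := five_le_of_sixteen hodd h16
  obtain ⟨g, σ, rfl⟩ := exists_semi_two α
  have hσ2 : σ.trans σ = RingEquiv.refl F := by
    have h := hα
    rw [semiAut_mul] at h
    exact (semiAut_eq_one le_rfl h).1
  by_cases hσ : σ = RingEquiv.refl F
  · subst hσ
    have hg : ¬ ∃ c : F, (g : Matrix (Fin 2) (Fin 2) F) = c • (1 : Matrix (Fin 2) (Fin 2) F) :=
      fun ⟨c, hc⟩ => hα1 (semiAut_scalar hc)
    let C : Subgroup (Matrix.SpecialLinearGroup (Fin 2) F) :=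
      (centralizer ({g} : Set (GL (Fin 2) F))).comap Matrix.SpecialLinearGroup.toGL
    have hmemC : ∀ s : Matrix.SpecialLinearGroup (Fin 2) F, s ∈ C ↔
        (s : Matrix (Fin 2) (Fin 2) F) * g = (g : Matrix (Fin 2) (Fin 2) F) * s := fun s =>
      mem_comap.trans (mem_centralizer_singleton_iff.trans Units.ext_iff)
    refine four_no_abelian_two V hC hN (C.map (QuotientGroup.mk' _)) ?_ ?_
    · rintro _ ⟨s, hs, rfl⟩ _ ⟨t, ht, rfl⟩
      rw [← map_mul, ← map_mul]
      exact congrArg _ (Subtype.ext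
        (CfsgLib.Bender.OddTwo.commute_of_commute_nonscalar hg ((hmemC s).1 hs) ((hmemC t).1 ht)))
    · intro x hx y hy hxA hyA
      have hrep : ∀ z : PSL2 F, z ∈ normalizer (V : Set (PSL2 F)) → z ∉ C.map (QuotientGroup.mk' _) →
          ∃ s : Matrix.SpecialLinearGroup (Fin 2) F, QuotientGroup.mk s = z ∧
            (g : Matrix (Fin 2) (Fin 2) F) * s = -((s : Matrix (Fin 2) (Fin 2) F) * g) := by
        intro z hz hzA
        obtain ⟨s, rfl⟩ := QuotientGroup.mk_surjective z
        have h := (hfix _).2 hz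
        rw [semiAut_mk, ← inv_mul_eq_one, ← QuotientGroup.mk_inv, ← QuotientGroup.mk_mul,
          CfsgLib.PSL2Spec.mk_eq_one_iff] at h
        obtain ⟨c, hc⟩ := h
        set t := semiFun g (RingEquiv.refl F) s with htdef
        have e1 : (t : Matrix (Fin 2) (Fin 2) F) * g = (g : Matrix (Fin 2) (Fin 2) F) * s := by
          rw [htdef, coe_semiFun, map_refl_ringEquiv, mul_assoc, ← Units.val_mul, inv_mul_cancel,
            Units.val_one, mul_one]
        have e2 : (s : Matrix (Fin 2) (Fin 2) F) = c • (t : Matrix (Fin 2) (Fin 2) F) := by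
          have := congrArg (fun M => (t : Matrix (Fin 2) (Fin 2) F) * M) hc
          rwa [← Matrix.SpecialLinearGroup.coe_mul, mul_inv_cancel_left, Matrix.mul_smul, mul_one] at this
        have hc2 : c ^ 2 = 1 := by
          have := s.2
          rwa [e2, Matrix.det_smul, Fintype.card_fin, t.2, mul_one] at this
        have e3 : (s : Matrix (Fin 2) (Fin 2) F) * g = c • ((g : Matrix (Fin 2) (Fin 2) F) * s) := by
          rw [← e1, ← Matrix.smul_mul, ← e2]
        rcases sq_eq_one_iff.1 hc2 with rfl | rfl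
        · rw [one_smul] at e3
          exact absurd ⟨s, (hmemC s).2 e3, rfl⟩ hzA
        · exact ⟨s, rfl, by rw [e3, neg_one_smul, neg_neg]⟩
      obtain ⟨s, rfl, hs⟩ := hrep x hx hxA
      obtain ⟨t, rfl, ht⟩ := hrep y hy hyA
      refine ⟨s * t, (hmemC _).2 ?_, rfl⟩
      rw [Matrix.SpecialLinearGroup.coe_mul, ← mul_assoc (g : Matrix (Fin 2) (Fin 2) F), hs, neg_mul,
        mul_assoc (s : Matrix (Fin 2) (Fin 2) F) g, ht, mul_neg, neg_neg, mul_assoc]
  · have hσo : orderOf (σ : RingAut F) = 2 := orderOf_eq_prime (by rw [sq]; exact hσ2) hσ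
    obtain ⟨P, hP⟩ := exists_conj_of_orderOf le_rfl Nat.prime_two hσo
      (orderOf_eq_prime (by rw [sq]; exact hα) hα1)
    set φ := semiAut P (RingEquiv.refl F) with hφ
    have hcard := card_fixField_pow (σ : RingAut F) hσo
    set E := fixField (σ : RingAut F) with hE
    have hEodd : Odd (Nat.card E) := by
      rw [← hcard] at hodd
      exact (Nat.odd_pow_iff two_ne_zero).1 hodd
    have hE5 : 5 ≤ Nat.card E := by
      obtain ⟨j, hj⟩ := hEodd
      by_contra h
      have : Nat.card E = 1 ∨ Nat.card E = 3 := by omega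
      rcases this with e | e <;> rw [e] at hcard <;> omega
    have h60 := Over.sixty_le (F := E) hEodd hE5
    set H : Subgroup (PSL2 F) :=
      (pslImage E.subtype).comap (Matrix.ProjectiveSpecialLinearGroup.toPGL (n := Fin 2) (R := F)) with hH
    have hHc : Nat.card H = Nat.card (PSL2 E) := by
      rw [hH, MaxSub.card_comap (MaxSub.pslImage_le _), MaxSub.card_pslImage]
    have hfixH : ∀ x ∈ H, semiAut (1 : GL (Fin 2) F) σ x = x := by
      intro x hx
      obtain ⟨z, hz⟩ := hx
      obtain ⟨A, rfl⟩ := QuotientGroup.mk_surjective z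
      have hx' : x = QuotientGroup.mk (Matrix.SpecialLinearGroup.map E.subtype A) :=
        Matrix.ProjectiveSpecialLinearGroup.toPGL_injective (hz.symm.trans (pslHom_mk E.subtype A))
      rw [hx', semiAut_mk]
      refine congrArg _ (Subtype.ext ?_)
      ext i j
      rw [coe_semiFun, Units.val_one, inv_one, Units.val_one, one_mul, mul_one, Matrix.map_apply]
      exact (mem_fixField (σ : RingAut F)).1 (A i j).2
    have hle : Nat.card H ≤ Nat.card (normalizer (V : Set (PSL2 F))) :=
      Nat.card_le_card_of_injective (fun x : H => (⟨φ x, (hfix _).1 (by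
        rw [hP, MulAut.mul_apply, MulAut.mul_apply, MulAut.inv_apply, MulEquiv.symm_apply_apply,
          hfixH _ x.2])⟩ : normalizer (V : Set (PSL2 F))))
        fun x y h => Subtype.ext (φ.injective (congrArg Subtype.val h))
    omega

/-- A self-centralising four-group with normaliser of order `24` in `PSL₂(q)`. -/
theorem psl_four_normalizer (hodd : Odd (Fintype.card F))
    (h16 : 16 ∣ Nat.card (Matrix.ProjectiveSpecialLinearGroup (Fin 2) F))
    (V : Subgroup (Matrix.ProjectiveSpecialLinearGroup (Fin 2) F)) [IsKleinFour V]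
    (hC : centralizer (V : Set (Matrix.ProjectiveSpecialLinearGroup (Fin 2) F)) = V)
    (hN : Nat.card (normalizer (V : Set (Matrix.ProjectiveSpecialLinearGroup (Fin 2) F))) = 24) :
    (IsCoatom (normalizer (V : Set (Matrix.ProjectiveSpecialLinearGroup (Fin 2) F))) →
      (Fintype.card F).Prime) ∧
    ∀ α : MulAut (Matrix.ProjectiveSpecialLinearGroup (Fin 2) F), α * α = 1 → α ≠ 1 →
      ¬ ∀ x, (α x = x ↔ x ∈ normalizer (V : Set (Matrix.ProjectiveSpecialLinearGroup (Fin 2) F))) :=
  ⟨psl_four_prime hodd h16 V hC hN, psl_four_not_fixed hodd h16 V hC hN⟩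

end Field

end CfsgLib.WongThree
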