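import Cfsg.Agent.SimsThree.Apply
import Cfsg.Agent.MaxNorm.Basic
import Cfsg.Agent.InvChar.SylowTools

/-!
# Insoluble primitive groups with a soluble point stabiliser
-/

set_option autoImplicit false
set_option linter.unusedSectionVars false
set_option linter.style.haveILetI false

namespace CfsgLib.WongThree

open Subgroup CfsgLib.ThompsonWielandt MulAction

universe u

/-- A core-free soluble maximal subgroup of an insoluble group. -/
structure Prim {G : Type u} [Group G] (H : Subgroup G) : Prop where
  coatom : IsCoatom H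
  core : H.normalCore = ⊥
  hsol : ¬ Group.IsSolvable G
  sol : Group.IsSolvable H

variable {G : Type u} [Group G] {H : Subgroup G}

theorem isSolvable_map {A B : Type*} [Group A] [Group B] (f : A →* B) (hf : Function.Surjective f)
    (h : Group.IsSolvable A) : Group.IsSolvable B :=
  haveI := h
  solvable_of_surjective hf

theorem Prim.sup_eq_top (P : Prim H) {N : Subgroup G} [N.Normal] (hN : N ≠ ⊥) : N ⊔ H = ⊤ := by
  rcases P.coatom.le_iff.1 (le_sup_right : H ≤ N ⊔ H) with h | h
  · exact h
  · exact absurd (eq_bot_iff.2 (P.core ▸ (Subgroup.normal_le_normalCore.2 (sup_eq_right.1 h)))) hN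

theorem Prim.quot_surjective (P : Prim H) {N : Subgroup G} [N.Normal] (hN : N ≠ ⊥) :
    Function.Surjective ((QuotientGroup.mk' N).comp H.subtype) := by
  intro x
  obtain ⟨g, rfl⟩ := QuotientGroup.mk'_surjective N x
  have hg : g ∈ N ⊔ H := by rw [P.sup_eq_top hN]; exact mem_top g
  obtain ⟨n, hn, k, hk, rfl⟩ := mem_sup_of_normal_left.1 hg
  refine ⟨⟨k, hk⟩, ?_⟩
  show (k : G ⧸ N) = ((n * k : G) : G ⧸ N)
  rw [QuotientGroup.mk_mul, (QuotientGroup.eq_one_iff n).2 hn, one_mul]

theorem Prim.eq_bot_of_solvable (P : Prim H) {N : Subgroup G} [N.Normal]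
    (h : Group.IsSolvable N) : N = ⊥ := by
  by_contra hN
  exact P.hsol ((Group.isSolvable_iff_subgroup_quotient N).2
    ⟨h, isSolvable_map _ (P.quot_surjective hN) P.sol⟩)

theorem Prim.not_normal (P : Prim H) (X : Subgroup G) (hX : X ≤ H) (hXn : X ≠ ⊥) : ¬ X.Normal :=
  fun h => hXn (eq_bot_iff.2 (P.core ▸ (haveI := h; Subgroup.normal_le_normalCore.2 hX)))

theorem Prim.normalizer_eq (P : Prim H) {X : Subgroup G} (hX : X ≤ H) (hXn : X ≠ ⊥)
    (hn : H ≤ normalizer (X : Set G)) : normalizer (X : Set G) = H := by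
  rcases P.coatom.le_iff.1 hn with h | h
  · exact absurd (normalizer_eq_top_iff.1 h) (P.not_normal X hX hXn)
  · exact h

theorem Prim.centralizer_le (P : Prim H) {X : Subgroup G} (hX : X ≤ H) (hXn : X ≠ ⊥)
    (hn : H ≤ normalizer (X : Set G)) : centralizer (X : Set G) ≤ H :=
  (centralizer_le_normalizer _).trans (P.normalizer_eq hX hXn hn).le

theorem Prim.center_eq_bot (P : Prim H) : center G = ⊥ :=
  P.eq_bot_of_solvable (Group.isSolvable_of_comm fun a b => Subtype.ext (mem_center_iff.1 b.2 a))

/-- An element central in `H` has centraliser `H`. -/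
theorem Prim.centralizer_singleton (P : Prim H) {z : G} (hz : z ∈ H) (hz1 : z ≠ 1)
    (hc : ∀ h ∈ H, h * z = z * h) : centralizer ({z} : Set G) = H := by
  have hle : H ≤ centralizer ({z} : Set G) := fun h hh => mem_centralizer_singleton_iff.2 (hc h hh)
  rcases P.coatom.le_iff.1 hle with e | e
  · refine absurd ?_ hz1
    have : z ∈ center G := mem_center_iff.2 fun g =>
      mem_centralizer_singleton_iff.1 (e.ge (mem_top g))
    rwa [P.center_eq_bot, mem_bot] at this
  · exact e

variable {Ω : Type*} [MulAction G Ω] [Finite G] [Finite Ω] {a b : Ω}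

/-- The point stabiliser of a suborbit of length three. -/
theorem prim_of_adj (h : Adj (G := G) a b 3) (hsol : ¬ Group.IsSolvable G) :
    Prim (stabilizer G a) := by
  refine ⟨h.pair.max, h.pair.core, hsol, ?_⟩
  obtain ⟨n, -, hcard, -⟩ := SimsThree.exists_length h
  refine CfsgLib.MaxNorm.isSolvable_of_twoPrimes ?_
  rw [hcard, ← pow_one 3]
  exact CfsgLib.MaxNorm.twoPrimes_mul Nat.prime_three Nat.prime_two 1 n

/-- An element moving a point stabiliser to the adjacent one and normalising their meet. -/
theorem exists_flip (h : Adj (G := G) a b 3) :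
    ∃ C : Subgroup G, C ≤ stabilizer G a ∧ IsPGroup 2 C ∧
      3 * Nat.card C = Nat.card (stabilizer G a) ∧
      ∃ g ∈ normalizer (C : Set G), g ∉ stabilizer G a := by
  haveI : Fact (Nat.Prime 2) := ⟨Nat.prime_two⟩
  set A := stabilizer G a with hA
  set B := stabilizer G b with hB
  set C := A ⊓ B with hC
  have hp : IsPGroup 2 C := SimsThree.isPGroup_inf h
  have hc : 3 * Nat.card C = Nat.card A := (SimsThree.card_inf_three h).symm
  refine ⟨C, inf_le_left, hp, hc, ?_⟩
  obtain ⟨g, hg⟩ := h.pair.conj
  set C' := C.map (MulAut.conj g).toMonoidHom with hC'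
  have hC'B : C' ≤ B := (map_mono inf_le_left).trans hg.le
  have hC'c : Nat.card C' = Nat.card C := card_map_of_injective (MulAut.conj g).injective
  have hBc : Nat.card B = 3 * Nat.card C := by rw [hB, h.card_eq, hc]
  obtain ⟨k, hk⟩ := IsPGroup.iff_card.1 hp
  have hfac : (Nat.card B).factorization 2 = k := by
    rw [hBc, hk, Nat.factorization_mul (by norm_num) (by positivity), Finsupp.add_apply,
      Nat.factorization_eq_zero_of_not_dvd (by norm_num), zero_add,
      Nat.Prime.factorization_pow Nat.prime_two, Finsupp.single_eq_same]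
  let P1 : Sylow 2 B := Sylow.ofCard (C.subgroupOf B) (by
    rw [Nat.card_congr (subgroupOfEquivOfLe (inf_le_right : C ≤ B)).toEquiv, hk, hfac])
  let P2 : Sylow 2 B := Sylow.ofCard (C'.subgroupOf B) (by
    rw [Nat.card_congr (subgroupOfEquivOfLe hC'B).toEquiv, hC'c, hk, hfac])
  obtain ⟨y, hy⟩ := MulAction.exists_smul_eq B P2 P1
  have hy' : (P2 : Subgroup B).map (MulAut.conj y).toMonoidHom = (P1 : Subgroup B) := by
    rw [← hy, Sylow.coe_subgroup_smul]; rfl
  refine ⟨(y : G) * g, ?_, ?_⟩
  · refine mem_normalizer_iff_map_conj_eq.2 ?_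
    have h1 := congrArg (Subgroup.map B.subtype) hy'
    rw [Subgroup.map_map,
      show B.subtype.comp (MulAut.conj y).toMonoidHom =
        (MulAut.conj (y : G)).toMonoidHom.comp B.subtype from rfl,
      ← Subgroup.map_map, Sylow.coe_ofCard, Sylow.coe_ofCard, subgroupOf_map_subtype,
      subgroupOf_map_subtype, inf_eq_left.2 hC'B, inf_eq_left.2 inf_le_right, hC',
      Subgroup.map_map] at h1
    rw [map_mul]
    exact h1
  · intro hyg
    apply h.pair.ne
    have e1 : A.map (MulAut.conj ((y : G) * g)).toMonoidHom = A :=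
      CfsgLib.ThompsonWielandt.map_conj_eq_of_mem (le_normalizer hyg)
    have e2 : A.map (MulAut.conj ((y : G) * g)).toMonoidHom = B := by
      rw [map_mul, show (MulAut.conj (y : G) * MulAut.conj g).toMonoidHom =
        (MulAut.conj (y : G)).toMonoidHom.comp (MulAut.conj g).toMonoidHom from rfl,
        ← Subgroup.map_map, hg, CfsgLib.ThompsonWielandt.map_conj_eq_of_mem (le_normalizer y.2)]
    exact e1.symm.trans e2

end CfsgLib.WongThree
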