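import Cfsg.Agent.BlocksB.PrincipalGapOne
import Cfsg.Agent.Blocks.TraceFormula
import Cfsg.Agent.GLTwoThree.Combinatorics

/-!
# Principal block tools
-/

set_option autoImplicit false
set_option linter.unusedSectionVars false
set_option linter.style.haveILetI false

namespace CfsgLib.WongThree

open Cfsg Finset CfsgLib.Block CfsgLib.Block.Chr CfsgLib.Char
open scoped ComplexConjugate

universe u

variable {G : Type u} [Group G] [Fintype G] {M : Ideal AlgInt} [M.IsPrime] {p : ℕ}

/-- Members of the principal block are constant on the `p'`-core part of a section. -/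
theorem principal_const (hM : IsPModular p M) {x : G} {k : ℕ} (hx : orderOf x = p ^ k)
    (N : Subgroup ↥(Subgroup.centralizer ({x} : Set G))) [N.Normal] (hN : ¬ p ∣ Nat.card N)
    {χ : IrrCharacter G} (hχ : χ ∈ principalBlock M G)
    {w : ↥(Subgroup.centralizer ({x} : Set G))} (hw : w ∈ N) :
    (χ : G → ℂ) (x * (w : G)) = (χ : G → ℂ) x := by
  classical
  haveI : Fintype ↥(Subgroup.centralizer ({x} : Set G)) := Fintype.ofFinite _
  have hwreg : ¬ p ∣ orderOf w := fun h => hN (h.trans (Subgroup.orderOf_dvd_natCard N hw))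
  rw [principal_section hM hx hχ w hwreg]
  conv_rhs => rw [← mul_one x, ← OneMemClass.coe_one (Subgroup.centralizer ({x} : Set G)),
    principal_section hM hx hχ 1 (by rw [orderOf_one]; exact hM.1.not_dvd_one)]
  letI := irrFintype (G := ↥(Subgroup.centralizer ({x} : Set G)))
  rw [blockPart_eq_sum_inner, blockPart_eq_sum_inner]
  refine sum_congr rfl fun ξ hξ => ?_
  congr 1
  exact blockOf_subset_normal hM N hN (χ := oneIrr _) (fun _ _ => rfl) (mem_filter.1 hξ).2 w hw

open scoped Classical in
/-- The degrees of the principal block are orthogonal to the values at a singular element. -/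
theorem degree_orth (hM : IsPModular p M) [Fintype (IrrCharacter G)]
    [DecidablePred (· ∈ principalBlock M G)] {h : G} (hh : p ∣ orderOf h) :
    ∑ χ ∈ univ.filter (· ∈ principalBlock M G), (χ : G → ℂ) 1 * conj ((χ : G → ℂ) h) = 0 :=
  weak_orth hM (isIntClass_blockCoeff (M := M) (B := principalBlock M G) isPBlock_principalBlock)
    (g := 1) (by rw [orderOf_one]; exact hM.1.not_dvd_one) hh

/-- An integral vector of norm at most three, meeting `P` and orthogonal to the positive vector `d`
on the whole and on `P`, lives on `P`. -/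
theorem support_subset {ι : Type*} [Fintype ι] [DecidableEq ι] {f d : ι → ℤ} {n : ℕ} (hn : n ≤ 3)
    (h : ∑ i, f i * f i = n) (P : ι → Prop) [DecidablePred P] (hd : ∀ i, 0 < d i)
    (h1 : ∑ i, f i * d i = 0) (h2 : ∑ i ∈ univ.filter P, f i * d i = 0) {i₀ : ι} (hP : P i₀)
    (hf : f i₀ ≠ 0) : ∀ i, f i ≠ 0 → P i := by
  obtain ⟨S, hS, hpm, h0⟩ := CfsgLib.GLTwoThree.exists_support hn h
  have e1 : ∑ i ∈ S, f i * d i = 0 := by
    rw [← h1]
    exact sum_subset (subset_univ S) fun i _ hi => by rw [h0 i hi, zero_mul]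
  have e2 : ∑ i ∈ S.filter P, f i * d i = 0 := by
    rw [← h2]
    refine sum_subset (filter_subset_filter P (subset_univ S)) fun i hi hi' => ?_
    rw [h0 i (fun hS' => hi' (mem_filter.2 ⟨hS', (mem_filter.1 hi).2⟩)), zero_mul]
  have e3 : ∑ i ∈ S.filter (fun i => ¬ P i), f i * d i = 0 := by
    have := sum_filter_add_sum_filter_not S P (fun i => f i * d i)
    rw [e1, e2, zero_add] at this
    exact this
  have hone : ∀ T : Finset ι, T ⊆ S → ∑ i ∈ T, f i * d i = 0 → T.card ≠ 1 := by
    intro T hT hsum hc
    obtain ⟨i, rfl⟩ := Finset.card_eq_one.1 hc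
    rw [sum_singleton] at hsum
    rcases hpm i (hT (mem_singleton_self i)) with e | e <;> rw [e] at hsum <;> have := hd i <;> linarith
  have hc1 := hone _ (filter_subset P S) e2
  have hc2 := hone _ (filter_subset (fun i => ¬ P i) S) e3
  have hpos : 0 < (S.filter P).card := card_pos.2 ⟨i₀, mem_filter.2
    ⟨by_contra fun hS' => hf (h0 i₀ hS'), hP⟩⟩
  have hc := card_filter_add_card_filter_not (s := S) P
  intro i hi
  by_contra hPi
  have : 0 < (S.filter (fun i => ¬ P i)).card := card_pos.2 ⟨i, mem_filter.2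
    ⟨by_contra fun hS' => hi (h0 i hS'), hPi⟩⟩
  omega

end CfsgLib.WongThree
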