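import Cfsg.Agent.WongThree.CoverChar
import Cfsg.Agent.Char.Kernel
import Cfsg.Agent.Char.BrauerPerm

/-!
# The inverted core is trivial
-/

set_option autoImplicit false
set_option linter.unusedSectionVars false
set_option linter.style.haveILetI false

namespace CfsgLib.WongThree

open Cfsg Finset CfsgLib.GLTwoThree CfsgLib.Block CfsgLib.Block.Chr CfsgLib.Char
open scoped ComplexConjugate

universe u

/-- The quaternion subgroup of `GL₂(3)`. -/
def quat : Subgroup Mat :=
  subgroupOfPred (fun x => decide (cls x = 0 ∨ cls x = 1 ∨ cls x = 2)) (by decide +kernel)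
    (by decide +kernel) (by decide +kernel)

instance : DecidablePred (· ∈ quat) := fun x =>
  inferInstanceAs (Decidable ((decide (cls x = 0 ∨ cls x = 1 ∨ cls x = 2)) = true))

theorem card_quat : Nat.card quat = 8 := by
  rw [Nat.card_eq_fintype_card, Fintype.card_subtype]
  decide +kernel

theorem quat_facts : ∀ x : Mat, cls x = 0 ∨ cls x = 1 ∨ cls x = 2 → det x = 1 ∧ x ^ 4 = 1 := by
  decide +kernel

/-- A sum over a group of odd order of a character `f` which is invariant under inversion and all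
of whose non-trivial constituents have multiplicity divisible by eight. -/
theorem constant_of_mult {A : Type u} [Group A] [Fintype A] (hA : Odd (Nat.card A)) {f : A → ℂ}
    (hf : Cfsg.IsCharacter A f) (hinv : ∀ a, f a⁻¹ = f a) {d : ℕ} (hd : f 1 = d) (hd16 : d < 16)
    (h8 : ∀ l : A → ℂ, Cfsg.IsIrrCharacter A l → l ≠ (fun _ => 1) →
      ∃ k : ℤ, Cfsg.classInner f l = 8 * k) : ∀ a, f a = f 1 := by
  classical
  have hcls := IsCharacter.isClassFunction hf
  have hnn : ∀ l : A → ℂ, Cfsg.IsIrrCharacter A l → ∃ j : ℕ, Cfsg.classInner f l = j := by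
    intro l hl
    obtain ⟨s, hs, rfl⟩ := IsCharacter.exists_multiset hf
    exact ⟨_, classInner_multiset_sum s hs hl⟩
  have hdeg : ∀ l : A → ℂ, Cfsg.IsIrrCharacter A l → ∃ e : ℕ, 0 < e ∧ l 1 = e :=
    fun l hl => IsIrrCharacter.exists_degree hl
  have hexp := eq_sum_irr hcls
  choose j hj using hnn
  choose e he0 he using hdeg
  have hsum : d = ∑ l ∈ (irrFinset A).attach,
      j l.1 (mem_irrFinset.1 l.2) * e l.1 (mem_irrFinset.1 l.2) := by
    have h := congrFun hexp 1
    rw [hd, Finset.sum_apply, ← Finset.sum_attach] at h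
    rw [Finset.sum_congr rfl (g := fun l : {x // x ∈ irrFinset A} =>
      ((j l.1 (mem_irrFinset.1 l.2) * e l.1 (mem_irrFinset.1 l.2) : ℕ) : ℂ)) fun l _ => by
        rw [Pi.smul_apply, smul_eq_mul, hj l.1 (mem_irrFinset.1 l.2), he l.1 (mem_irrFinset.1 l.2),
          Nat.cast_mul]] at h
    exact_mod_cast h
  have hconjsym : ∀ l : A → ℂ, Cfsg.IsIrrCharacter A l →
      Cfsg.classInner f (fun a => conj (l a)) = Cfsg.classInner f l := by
    intro l hl
    rw [classInner_def, classInner_def]
    congr 1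
    refine Fintype.sum_equiv (Equiv.inv A) _ _ fun a => ?_
    show f a * conj (conj (l a)) = f a⁻¹ * conj (l a⁻¹)
    rw [hinv, IsIrrCharacter.apply_inv hl]
  have hzero : ∀ l : A → ℂ, ∀ hl : Cfsg.IsIrrCharacter A l, l ≠ (fun _ => 1) →
      Cfsg.classInner f l = 0 := by
    intro l hl hl1
    by_contra hne
    set l' : A → ℂ := fun a => conj (l a)
    have hl' : Cfsg.IsIrrCharacter A l' := IsIrrCharacter.conj hl
    have hll' : l ≠ l' := fun h => hl1 (eq_one_of_real_of_odd hA hl fun a => by
      have := congrArg Complex.im (congrFun h a)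
      rw [Complex.conj_im] at this
      linarith)
    have hl'1 : l' ≠ (fun _ => 1) := fun h => hl1 (funext fun a => by
      have := congrArg conj (congrFun h a)
      simpa [l'] using this)
    obtain ⟨k, hk⟩ := h8 l hl hl1
    have hk' : ((j l hl : ℕ) : ℂ) = ((8 * k : ℤ) : ℂ) := by rw [← hj l hl, hk]; push_cast; rfl
    have hk'' : (j l hl : ℤ) = 8 * k := by exact_mod_cast hk'
    have hj0 : j l hl ≠ 0 := fun h => hne (by rw [hj l hl, h, Nat.cast_zero])
    have hjj : j l' hl' = j l hl := by
      have h : ((j l' hl' : ℕ) : ℂ) = ((j l hl : ℕ) : ℂ) := by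
        rw [← hj l' hl', ← hj l hl, hconjsym l hl]
      exact_mod_cast h
    have hle : j l hl * e l hl + j l' hl' * e l' hl' ≤ d := by
      rw [hsum]
      have hsub : ({⟨l, mem_irrFinset.2 hl⟩, ⟨l', mem_irrFinset.2 hl'⟩} :
          Finset {x // x ∈ irrFinset A}) ⊆ (irrFinset A).attach := fun _ _ => Finset.mem_attach _ _
      refine le_trans (le_of_eq ?_) (Finset.sum_le_sum_of_subset hsub)
      rw [Finset.sum_pair (fun h => hll' (congrArg Subtype.val h))]
    have h1 : j l hl ≤ j l hl * e l hl := Nat.le_mul_of_pos_right _ (he0 l hl)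
    have h2 : j l' hl' ≤ j l' hl' * e l' hl' := Nat.le_mul_of_pos_right _ (he0 l' hl')
    omega
  have hone : ∀ a, f a = Cfsg.classInner f (fun _ => 1) := by
    intro a
    conv_lhs => rw [hexp]
    rw [Finset.sum_apply, Finset.sum_eq_single (fun _ => (1 : ℂ))]
    · simp
    · intro l hl hne
      rw [Pi.smul_apply, hzero l (mem_irrFinset.1 hl) hne, zero_smul]
    · intro h
      exact absurd (mem_irrFinset.2 isIrrCharacter_one) h
  intro a
  rw [hone a, hone 1]

variable {G : Type u} [Group G] [Fintype G] {t : G}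

theorem Cover.ker_eq_bot (D : Cover t) [IsSimpleGroup G] (ht : orderOf t = 2) : D.π.ker = ⊥ := by
  classical
  haveI : Fact (Nat.Prime 2) := ⟨Nat.prime_two⟩
  obtain ⟨M, hM⟩ := CfsgLib.Block.exists_isPModular (p := 2) Nat.prime_two
  haveI : M.IsPrime := hM.2.1.isPrime
  obtain ⟨χ, hχ, hχ1, d, hd16, hd⟩ := D.exists_small ht hM
  set C := Subgroup.centralizer ({t} : Set G) with hC
  set O := D.π.ker with hO
  haveI : Fintype O := Fintype.ofFinite _
  haveI : Fintype C := Fintype.ofFinite C
  -- a quaternion subgroup centralising the core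
  obtain ⟨Q⟩ : Nonempty (Sylow 2 (quat.comap D.π)) := inferInstance
  set Q' : Subgroup C := (Q : Subgroup (quat.comap D.π)).map (quat.comap D.π).subtype with hQ'
  have hW : Nat.card (quat.comap D.π) = 8 * Nat.card O := by
    have h1 := (quat.comap D.π).card_mul_index
    rw [Subgroup.index_comap_of_surjective _ D.surj, D.card_centralizer, ← hO] at h1
    have h2 := quat.card_mul_index
    rw [card_quat, card_mat] at h2
    rw [show quat.index = 6 by omega] at h1
    omega
  have hQc : Nat.card Q' = 8 := by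
    rw [hQ', Subgroup.card_map_of_injective Subtype.val_injective, Q.card_eq_multiplicity, hW,
      Nat.factorization_mul (by norm_num) Nat.card_pos.ne', Finsupp.add_apply,
      show (8 : ℕ) = 2 ^ 3 by norm_num, Nat.Prime.factorization_pow Nat.prime_two,
      Nat.factorization_eq_zero_of_not_dvd (by rw [← even_iff_two_dvd, Nat.not_even_iff_odd]; exact D.odd),
      Finsupp.single_eq_same]
  have hQmem : ∀ q ∈ Q', det (D.π q) = 1 ∧ (D.π q) ^ 4 = 1 := by
    rintro _ ⟨⟨q, hq⟩, -, rfl⟩
    exact quat_facts _ (of_decide_eq_true hq)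
  have hQcomm : ∀ q ∈ Q', ∀ o ∈ O, q * o = o * q := fun q hq o ho => D.comm_of_det (hQmem q hq).1 ho
  have hQO : ∀ q ∈ Q', q ≠ 1 → Special (D.π q) := by
    rintro q hq hq1
    obtain ⟨⟨q', hq'⟩, hqQ, rfl⟩ := hq
    have hne : D.π q' ≠ 1 := by
      intro h
      apply hq1
      have hpow : IsPGroup 2 Q' := Q.isPGroup'.map _
      have h8 : orderOf q' ∣ 8 := hQc ▸ Q'.orderOf_dvd_natCard ⟨⟨q', hq'⟩, hqQ, rfl⟩
      have hn := congrArg Subtype.val (pow_card_eq_one' (x := (⟨q', h⟩ : O)))
      simp only [SubgroupClass.coe_pow, OneMemClass.coe_one] at hn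
      rw [← orderOf_dvd_iff_pow_eq_one] at hn
      show q' = 1
      refine orderOf_eq_one_iff.1 (Nat.eq_one_of_dvd_coprimes ?_ h8 hn)
      rw [show (8 : ℕ) = 2 ^ 3 by norm_num]
      exact Nat.Coprime.pow_left _ (Nat.coprime_two_left.2 D.odd)
    rcases of_decide_eq_true hq' with h | h | h
    · exfalso
      apply hne
      revert h
      generalize D.π q' = x
      revert x
      decide +kernel
    all_goals
      refine ⟨?_, ?_, ?_⟩ <;> show cls (D.π q') ≠ _ <;> rw [h] <;> decide
  -- constancy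
  have hconst : ∀ q ∈ Q', q ≠ 1 → ∀ o ∈ O, (χ : G → ℂ) ((q * o : C) : G) = (χ : G → ℂ) (q : G) := by
    intro q hq hq1 o ho
    obtain ⟨k, -, hk⟩ := (Nat.dvd_prime_pow Nat.prime_two).1
      (show orderOf ((q : C) : G) ∣ 2 ^ 3 by
        rw [Subgroup.orderOf_coe, show (2 : ℕ) ^ 3 = Nat.card Q' by rw [hQc]; rfl]
        exact Q'.orderOf_dvd_natCard hq)
    have hle : Subgroup.centralizer ({(q : G)} : Set G) ≤ C := fun x hx =>
      D.conj_mem ht (c := q) (d := q) (by
        rw [Subgroup.mem_centralizer_singleton_iff.1 hx, mul_inv_cancel_right]) (hQO q hq hq1) (hQO q hq hq1)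
    set Oq : Subgroup (Subgroup.centralizer ({(q : G)} : Set G)) :=
      (O.map C.subtype).subgroupOf _ with hOq
    haveI : Oq.Normal := ⟨fun n hn g => by
      rw [hOq, Subgroup.mem_subgroupOf] at hn ⊢
      obtain ⟨n', hn', e⟩ := hn
      refine ⟨⟨g, hle g.2⟩ * n' * ⟨g, hle g.2⟩⁻¹, D.π.normal_ker.conj_mem n' hn' _, ?_⟩
      simp only [map_mul, map_inv, e, Subgroup.coe_mul, Subgroup.coe_inv]
      rfl⟩
    have hodd : ¬ 2 ∣ Nat.card Oq := by
      intro h
      have h1 : Nat.card Oq ∣ Nat.card (O.map C.subtype) := by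
        refine Subgroup.card_dvd_of_injective ((Subgroup.centralizer ({(q : G)} : Set G)).subtype.subgroupMap Oq
          |> fun _ => ({ toFun := fun x => ⟨x.1.1, x.2⟩, map_one' := rfl, map_mul' := fun _ _ => rfl } :
            Oq →* O.map C.subtype)) ?_
        exact fun a b hab => Subtype.ext (Subtype.ext (congrArg Subtype.val hab :))
      rw [Subgroup.card_map_of_injective Subtype.val_injective] at h1
      exact absurd (h.trans h1) (by rw [← even_iff_two_dvd, Nat.not_even_iff_odd]; exact D.odd)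
    have hoq : (o : G) ∈ Subgroup.centralizer ({(q : G)} : Set G) :=
      Subgroup.mem_centralizer_singleton_iff.2 (congrArg Subtype.val (hQcomm q hq o ho).symm)
    rw [Subgroup.coe_mul]
    exact principal_const (x := (q : G)) (k := k) hM hk Oq hodd hχ (w := ⟨o, hoq⟩) ⟨o, ho, rfl⟩
  -- the multiplicities on the core are divisible by eight
  let μ : Q' × O →* C :=
    { toFun := fun p => (p.1 : C) * (p.2 : C)
      map_one' := one_mul 1
      map_mul' := fun p r => by
        show ((p.1 : C) * r.1) * ((p.2 : C) * r.2) = (p.1 : C) * p.2 * ((r.1 : C) * r.2)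
        rw [mul_assoc, ← mul_assoc (r.1 : C), hQcomm _ r.1.2 _ p.2.2]
        group }
  set f : O → ℂ := fun o => (χ : G → ℂ) ((o : C) : G) with hf
  have hfchar : Cfsg.IsCharacter O f :=
    IsCharacter.comp (isCharacter_irr χ) (C.subtype.comp O.subtype)
  have h8 : ∀ l : O → ℂ, Cfsg.IsIrrCharacter O l → l ≠ (fun _ => 1) →
      ∃ k : ℤ, Cfsg.classInner f l = 8 * k := by
    intro l hl hl1
    haveI : Fintype Q' := Fintype.ofFinite _
    have hlg : Cfsg.IsGeneralizedCharacter (Q' × O) (fun p => l p.2) :=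
      IsGeneralized.comp (IsIrrCharacter.isGeneralized hl) (MonoidHom.snd Q' O)
    have hcg : Cfsg.IsGeneralizedCharacter (Q' × O) (fun p => (χ : G → ℂ) ((μ p : C) : G)) :=
      IsGeneralized.comp (IsIrrCharacter.isGeneralized χ.2) (C.subtype.comp μ)
    obtain ⟨k, hk⟩ := IsGeneralized.exists_classInner_eq_int hcg hlg
    refine ⟨k, ?_⟩
    have hl0 : ∑ o : O, conj (l o) = 0 := by
      have h := IsIrrCharacter.classInner_eq (isIrrCharacter_one (G := O)) hl
      rw [if_neg (Ne.symm hl1), classInner_def] at h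
      simp only [one_mul] at h
      exact (mul_eq_zero.1 h).resolve_left (inv_ne_zero (Nat.cast_ne_zero.2 Nat.card_pos.ne'))
    rw [← hk, classInner_def, classInner_def, Nat.card_prod, hQc, Fintype.sum_prod_type,
      Finset.sum_eq_single (1 : Q')]
    · rw [Nat.cast_mul, mul_inv, ← mul_assoc, ← mul_assoc]
      rw [show ((8 : ℕ) : ℂ) = 8 by norm_num, mul_inv_cancel₀ (by norm_num : (8 : ℂ) ≠ 0), one_mul]
      congr 1
      refine Finset.sum_congr rfl fun o _ => ?_
      show f o * _ = (χ : G → ℂ) (((1 : C) * (o : C) : C) : G) * _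
      rw [one_mul]
    · intro q _ hq
      have hq' : (q : C) ≠ 1 := fun h => hq (Subtype.ext h)
      rw [Finset.sum_congr rfl (g := fun o : O => (χ : G → ℂ) ((q : C) : G) * conj (l o)) fun o _ => by
        show (χ : G → ℂ) (((q : C) * (o : C) : C) : G) * _ = _
        rw [hconst q q.2 hq' o o.2], ← Finset.mul_sum, hl0, mul_zero]
    · exact fun h => absurd (Finset.mem_univ _) h
  have hinv : ∀ o : O, f o⁻¹ = f o := by
    intro o
    show (χ : G → ℂ) (((o⁻¹ : O) : C) : G) = (χ : G → ℂ) ((o : C) : G)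
    rw [Subgroup.coe_inv, ← D.hinv o o.2, Subgroup.coe_mul, Subgroup.coe_mul, Subgroup.coe_inv]
    exact IsIrrCharacter.isClassFunction χ.2 _ _
  have hall := constant_of_mult D.odd hfchar hinv (d := d) hd hd16 h8
  haveI := kerSubgroup_normal (isCharacter_irr χ)
  rcases IsSimpleGroup.eq_bot_or_eq_top_of_normal (kerSubgroup (isCharacter_irr χ)) inferInstance
    with hK | hK
  · rw [eq_bot_iff]
    intro o ho
    have : ((o : C) : G) ∈ kerSubgroup (isCharacter_irr χ) := hall ⟨o, ho⟩
    rw [hK, Subgroup.mem_bot] at this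
    exact Subgroup.mem_bot.2 (Subtype.ext this)
  · exfalso
    apply hχ1
    -- a character constant equal to its degree is trivial
    have hc : ∀ g : G, (χ : G → ℂ) g = d := fun g => by
      rw [← hd]
      exact (hK.ge (Subgroup.mem_top g) : g ∈ kerSubgroup (isCharacter_irr χ))
    refine Subtype.ext ?_
    by_contra hne
    have h := IsIrrCharacter.classInner_eq χ.2 (oneIrr G).2
    rw [if_neg hne, classInner_def] at h
    simp [hc] at h
    obtain ⟨n, hn0, hn⟩ := IsIrrCharacter.exists_degree χ.2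
    rw [hd] at hn
    have : d = n := by exact_mod_cast hn
    omega

end CfsgLib.WongThree
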