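import Cfsg.Agent.GLTwoThree.Induced
import Cfsg.Agent.GLTwoThree.L33.Index
import Mathlib.GroupTheory.SpecificGroups.Cyclic

/-!
# Involution centralisers which are `GL₂(3)` modulo an inverted core of odd order
-/

set_option autoImplicit false
set_option linter.unusedSectionVars false
set_option linter.style.haveILetI false

namespace CfsgLib.WongThree

open Subgroup CfsgLib.GLTwoThree

universe u

variable {G : Type u} [Group G]

/-- The centraliser of `t` maps onto `GL₂(3)` with a kernel of odd order which is inverted by an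
element over a non-central involution. -/
structure Cover (t : G) where
  /-- the projection -/
  π : centralizer ({t} : Set G) →* Mat
  surj : Function.Surjective π
  odd : Odd (Nat.card π.ker)
  /-- the inverting involution -/
  v : centralizer ({t} : Set G)
  hv : v * v = 1
  hvc : cls (π v) = 7
  hinv : ∀ o ∈ π.ker, v * o * v⁻¹ = o⁻¹

theorem eq_one_of_odd {K : Type*} [Group K] {A : Subgroup K} (hA : Odd (Nat.card A)) {x : K}
    (hx : x ∈ A) (h2 : x * x = 1) : x = 1 := by
  have h1 : orderOf x ∣ 2 := orderOf_dvd_of_pow_eq_one (by rw [sq, h2])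
  have h3 := A.orderOf_dvd_natCard hx
  rcases (Nat.dvd_prime Nat.prime_two).1 h1 with e | e
  · exact orderOf_eq_one_iff.1 e
  · rw [e] at h3
    exact absurd h3 (by rw [← even_iff_two_dvd, Nat.not_even_iff_odd]; exact hA)

theorem seven_conj : ∀ x y : Mat, cls x = 7 → cls y = 7 → ∃ g : Mat, g * x * g⁻¹ = y := by decide +kernel

theorem seven_invol : ∀ x : Mat, cls x = 7 → x * x = 1 ∧ x ≠ 1 ∧ x ≠ z := by decide +kernel

set_option synthInstance.maxSize 1024 in
theorem invol_seven : ∀ x : Mat, x * x = 1 → x = 1 ∨ x = z ∨ cls x = 7 := by decide +kernel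

theorem seven_of_det : ∀ x : Mat, det x = 1 → ∃ y : Mat, cls y = 7 ∧ cls (y * x) = 7 := by
  decide +kernel

theorem det_special : ∀ x : Mat, cls x ≠ 0 → cls x ≠ 6 → cls x ≠ 7 →
    ∃ k : Fin 5, x ^ (k : ℕ) = z := by decide +kernel

set_option synthInstance.maxSize 1024 in
theorem pow_special : ∀ x : Mat, cls x ≠ 0 → cls x ≠ 6 → cls x ≠ 7 → ∀ i : Fin 24,
    x ^ (i : ℕ) * x ^ (i : ℕ) = 1 → x ^ (i : ℕ) = 1 ∨ x ^ (i : ℕ) = z := by decide +kernel

theorem pow24 : ∀ x : Mat, x ^ 24 = 1 := by decide +kernel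

/-- Special elements. -/
def Special (x : Mat) : Prop := cls x ≠ 0 ∧ cls x ≠ 6 ∧ cls x ≠ 7

variable {t : G} (D : Cover t)

/-- `t` in its centraliser. -/
def tC (t : G) : centralizer ({t} : Set G) := ⟨t, mem_centralizer_singleton_iff.2 rfl⟩

theorem tC_comm (c : centralizer ({t} : Set G)) : c * tC t = tC t * c :=
  Subtype.ext (mem_centralizer_singleton_iff.1 c.2)

theorem tC_sq (ht : orderOf t = 2) : tC t * tC t = 1 :=
  Subtype.ext (show t * t = 1 by rw [← sq, ← ht, pow_orderOf_eq_one])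

theorem tC_ne (ht : orderOf t = 2) : tC t ≠ 1 := fun h => by
  rw [show t = 1 from congrArg Subtype.val h, orderOf_one] at ht
  norm_num at ht

namespace Cover

theorem pi_t (ht : orderOf t = 2) : D.π (tC t) = z := by
  refine central_involution (fun y => ?_) ?_ fun e => tC_ne ht (eq_one_of_odd D.odd e (tC_sq ht))
  · obtain ⟨c, rfl⟩ := D.surj y
    rw [← map_mul, ← map_mul, tC_comm c]
  · rw [← map_mul, tC_sq ht, map_one]

theorem eq_tC (ht : orderOf t = 2) {y : centralizer ({t} : Set G)} (hy : y * y = 1) (hz : D.π y = z) :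
    y = tC t := by
  have h1 : D.π (y * tC t) = 1 := by
    rw [map_mul, D.pi_t ht, hz, show z * z = (1 : Mat) by decide +kernel]
  have h2 : y * tC t * (y * tC t) = 1 := by
    calc y * tC t * (y * tC t) = y * (tC t * y) * tC t := by group
      _ = y * y * (tC t * tC t) := by rw [← tC_comm y]; group
      _ = 1 := by rw [hy, tC_sq ht, one_mul]
  have h3 := eq_one_of_odd D.odd h1 h2
  exact (mul_eq_one_iff_eq_inv.1 h3).trans (inv_eq_of_mul_eq_one_right (tC_sq ht))

theorem ker_comm {o o' : centralizer ({t} : Set G)} (ho : o ∈ D.π.ker) (ho' : o' ∈ D.π.ker) :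
    o * o' = o' * o := by
  have h1 := D.hinv _ (mul_mem ho ho')
  have h : D.v * (o * o') * D.v⁻¹ = (D.v * o * D.v⁻¹) * (D.v * o' * D.v⁻¹) := by group
  rw [h, D.hinv o ho, D.hinv o' ho'] at h1
  have := congrArg (·⁻¹) h1
  simpa using this.symm

theorem inverts {y : centralizer ({t} : Set G)} (hy : cls (D.π y) = 7) {o : centralizer ({t} : Set G)}
    (ho : o ∈ D.π.ker) : y * o * y⁻¹ = o⁻¹ := by
  obtain ⟨g, hg⟩ := seven_conj _ _ D.hvc hy
  obtain ⟨g, rfl⟩ := D.surj g
  set y0 := g * D.v * g⁻¹ with hy0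
  have hk : y * y0⁻¹ ∈ D.π.ker := by
    rw [MonoidHom.mem_ker, map_mul, map_inv, hy0, map_mul, map_mul, map_inv, hg, mul_inv_cancel]
  have h0 : y0 * o * y0⁻¹ = o⁻¹ := by
    have hn : g⁻¹ * o * g ∈ D.π.ker := by
      simpa using (D.π.normal_ker).conj_mem o ho g⁻¹
    calc y0 * o * y0⁻¹ = g * (D.v * (g⁻¹ * o * g) * D.v⁻¹) * g⁻¹ := by rw [hy0]; group
      _ = o⁻¹ := by rw [D.hinv _ hn]; group
  calc y * o * y⁻¹ = (y * y0⁻¹) * (y0 * o * y0⁻¹) * (y * y0⁻¹)⁻¹ := by group
    _ = o⁻¹ := by rw [h0, D.ker_comm hk (inv_mem ho)]; group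

theorem sq_of_seven {y : centralizer ({t} : Set G)} (hy : cls (D.π y) = 7) : y * y = 1 := by
  obtain ⟨g, hg⟩ := seven_conj _ _ D.hvc hy
  obtain ⟨g, rfl⟩ := D.surj g
  set y0 := g * D.v * g⁻¹ with hy0
  have hk : y * y0⁻¹ ∈ D.π.ker := by
    rw [MonoidHom.mem_ker, map_mul, map_inv, hy0, map_mul, map_mul, map_inv, hg, mul_inv_cancel]
  have h0 : y0 * y0 = 1 := by
    rw [hy0, show g * D.v * g⁻¹ * (g * D.v * g⁻¹) = g * (D.v * D.v) * g⁻¹ by group, D.hv]
    group
  have hp : cls (D.π y0) = 7 := by rw [hy0, map_mul, map_mul, map_inv, hg]; exact hy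
  set o := y * y0⁻¹ with ho
  calc y * y = o * (y0 * o * y0⁻¹) * (y0 * y0) := by rw [ho]; group
    _ = 1 := by rw [h0, D.inverts hp hk, mul_inv_cancel, one_mul]

theorem comm_of_det {y : centralizer ({t} : Set G)} (hy : det (D.π y) = 1)
    {o : centralizer ({t} : Set G)} (ho : o ∈ D.π.ker) : y * o = o * y := by
  obtain ⟨a, ha, hab⟩ := seven_of_det _ hy
  obtain ⟨a, rfl⟩ := D.surj a
  rw [← map_mul] at hab
  have h1 := D.inverts hab ho
  have h2 : a⁻¹ * o * a = o⁻¹ := by
    have h := congrArg (fun w => a⁻¹ * w⁻¹ * a) (D.inverts ha ho)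
    simp only [inv_inv] at h
    rw [← h]
    group
  have h3 : y * o * y⁻¹ = o := by
    calc y * o * y⁻¹ = a⁻¹ * (a * y * o * (a * y)⁻¹) * a := by group
      _ = a⁻¹ * o⁻¹ * a := by rw [h1]
      _ = (a⁻¹ * o * a)⁻¹ := by group
      _ = o := by rw [h2, inv_inv]
  exact mul_inv_eq_iff_eq_mul.1 h3

/-- `t` is a power of every special element. -/
theorem t_mem_zpowers (ht : orderOf t = 2) (c : centralizer ({t} : Set G)) (hc : Special (D.π c)) :
    tC t ∈ zpowers c := by
  obtain ⟨k, hk⟩ := det_special _ hc.1 hc.2.1 hc.2.2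
  set n := Nat.card D.π.ker
  refine mem_zpowers_iff.2 ⟨((k : ℕ) * n : ℕ), ?_⟩
  rw [zpow_natCast]
  obtain ⟨j, hj⟩ := D.odd
  refine D.eq_tC ht ?_ ?_
  · have h1 : c ^ (2 * (k : ℕ)) ∈ D.π.ker := by
      rw [MonoidHom.mem_ker, map_pow, mul_comm, pow_mul, hk, show z ^ 2 = (1 : Mat) by decide +kernel]
    have h2 := congrArg Subtype.val (pow_card_eq_one' (x := (⟨_, h1⟩ : D.π.ker)))
    simp only [SubgroupClass.coe_pow, OneMemClass.coe_one] at h2
    rw [← pow_add, show (k : ℕ) * n + (k : ℕ) * n = 2 * (k : ℕ) * n by ring, pow_mul]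
    exact h2
  · rw [map_pow, pow_mul, hk, show n = 2 * j + 1 from hj, pow_succ, pow_mul,
      show z ^ 2 = (1 : Mat) by decide +kernel, one_pow, one_mul]

theorem root_unique (ht : orderOf t = 2) {d : centralizer ({t} : Set G)} (hd : Special (D.π d))
    {y : G} (hy : y ∈ zpowers (d : G)) (h2 : y * y = 1) (h1 : y ≠ 1) : y = t := by
  obtain ⟨i, rfl⟩ := mem_zpowers_iff.1 hy
  have e : (d : G) ^ i = ((d ^ i : centralizer ({t} : Set G)) : G) := by simp
  have h2' : d ^ i * d ^ i = 1 := Subtype.ext (by rw [coe_mul, ← e, h2]; rfl)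
  have h24 : (D.π d) ^ 24 = 1 := pow24 _
  obtain ⟨r, hr, hri⟩ : ∃ r : ℕ, r < 24 ∧ (D.π d) ^ i = (D.π d) ^ r := by
    refine ⟨(i % 24).toNat, by omega, ?_⟩
    conv_lhs => rw [← Int.emod_add_mul_ediv i 24, zpow_add, zpow_mul]
    rw [← zpow_natCast (D.π d) ((i % 24).toNat), Int.toNat_of_nonneg (by omega),
      show (D.π d) ^ (24 : ℤ) = (D.π d) ^ (24 : ℕ) from zpow_natCast _ 24, h24, one_zpow, mul_one]
  have h3 : (D.π d) ^ r * (D.π d) ^ r = 1 := by rw [← hri, ← map_zpow, ← map_mul, h2', map_one]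
  rcases pow_special _ hd.1 hd.2.1 hd.2.2 ⟨r, hr⟩ h3 with h | h
  · exfalso
    apply h1
    have hker : d ^ i ∈ D.π.ker := by rw [MonoidHom.mem_ker, map_zpow, hri]; exact h
    rw [e, eq_one_of_odd D.odd hker h2']
    rfl
  · rw [e, D.eq_tC ht h2' (by rw [map_zpow, hri]; exact h)]
    rfl

theorem conj_mem (ht : orderOf t = 2) {x : G} {c d : centralizer ({t} : Set G)}
    (hxd : x * (c : G) * x⁻¹ = d) (hc : Special (D.π c)) (hd : Special (D.π d)) :
    x ∈ centralizer ({t} : Set G) := by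
  obtain ⟨i, hi⟩ := mem_zpowers_iff.1 (D.t_mem_zpowers ht c hc)
  have hi' : (c : G) ^ i = t := by
    have := congrArg Subtype.val hi
    simpa [tC] using this
  have h := D.root_unique ht hd (y := x * t * x⁻¹)
    (mem_zpowers_iff.2 ⟨i, by rw [← hxd, conj_zpow, hi']⟩)
    (by rw [show x * t * x⁻¹ * (x * t * x⁻¹) = x * (t * t) * x⁻¹ by group,
          show t * t = 1 by rw [← sq, ← ht, pow_orderOf_eq_one]]; group)
    fun e => by rw [conj_eq_one_iff] at e; rw [e, orderOf_one] at ht; norm_num at ht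
  rw [mem_centralizer_singleton_iff]
  calc x * t = x * t * x⁻¹ * x := by group
    _ = t * x := by rw [h]

theorem two_dvd_orderOf (ht : orderOf t = 2) {c : centralizer ({t} : Set G)} (hc : Special (D.π c)) :
    2 ∣ orderOf (c : G) := by
  obtain ⟨i, hi⟩ := mem_zpowers_iff.1 (D.t_mem_zpowers ht c hc)
  have hi' : t ∈ zpowers (c : G) := mem_zpowers_iff.2 ⟨i, by
    have := congrArg Subtype.val hi
    simpa [tC] using this⟩
  have := (zpowers (c : G)).orderOf_dvd_natCard hi'
  rwa [ht, Nat.card_zpowers] at this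

theorem card_centralizer [Finite G] :
    Nat.card (centralizer ({t} : Set G)) = 48 * Nat.card D.π.ker := by
  rw [← D.π.ker.card_mul_index, Subgroup.index_ker, MonoidHom.range_eq_top.2 D.surj, card_top,
    card_mat, mul_comm]

theorem sum_comp [Finite G] [Fintype (centralizer ({t} : Set G))] {A : Type*} [Semiring A]
    (F : Mat → A) : ∑ c, F (D.π c) = (Nat.card D.π.ker : A) * ∑ x, F x := by
  classical
  rw [← Finset.sum_fiberwise_of_maps_to (g := D.π) (t := Finset.univ) (fun c _ => Finset.mem_univ _),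
    Finset.mul_sum]
  refine Finset.sum_congr rfl fun x _ => ?_
  rw [Finset.sum_congr rfl (g := fun _ => F x) (fun c hc => by rw [(Finset.mem_filter.1 hc).2]),
    Finset.sum_const, nsmul_eq_mul]
  congr 2
  obtain ⟨g, rfl⟩ := D.surj x
  rw [← Fintype.card_subtype, ← Nat.card_eq_fintype_card]
  exact Nat.card_congr
    { toFun := fun c => ⟨g⁻¹ * c.1, by rw [MonoidHom.mem_ker, map_mul, map_inv, c.2, inv_mul_cancel]⟩
      invFun := fun o => ⟨g * o.1, by rw [map_mul, MonoidHom.mem_ker.1 o.2, mul_one]⟩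
      left_inv := fun c => Subtype.ext (mul_inv_cancel_left g c.1)
      right_inv := fun o => Subtype.ext (inv_mul_cancel_left g o.1) }

end Cover

end CfsgLib.WongThree
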