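import Cfsg.Agent.WongThree.Cover
import Cfsg.Agent.Invol.ThompsonTransfer
import Mathlib.GroupTheory.Sylow

/-!
# Involutions of a simple group with a covered `GL₂(3)` centraliser
-/

set_option autoImplicit false
set_option linter.unusedSectionVars false
set_option linter.style.haveILetI false

namespace CfsgLib.WongThree

open Subgroup CfsgLib.GLTwoThree

universe u

variable {G : Type u} [Group G] [Finite G] {t : G} (D : Cover t)

theorem conj_pow' (g x : G) (n : ℕ) : (g * x * g⁻¹) ^ n = g * x ^ n * g⁻¹ := conj_pow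

theorem Cover.exists_sylow (D : Cover t) (ht : orderOf t = 2) :
    ∃ (S : Sylow 2 G) (A : G), A ∈ (S : Subgroup G) ∧ orderOf A = 8 ∧ A ^ 4 = t ∧
      Nat.card (S : Subgroup G) = 16 := by
  haveI : Fact (Nat.Prime 2) := ⟨Nat.prime_two⟩
  obtain ⟨c, hc⟩ := D.surj a
  set n := Nat.card D.π.ker with hn
  obtain ⟨j, hj⟩ := D.odd
  rw [← hn] at hj
  have hkpow : ∀ x ∈ D.π.ker, x ^ n = 1 := fun x hx => by
    have := congrArg Subtype.val (pow_card_eq_one' (x := (⟨x, hx⟩ : D.π.ker)))
    rw [SubgroupClass.coe_pow, OneMemClass.coe_one] at this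
    exact this
  have h8 : (c ^ n) ^ 8 = 1 := by
    rw [← pow_mul, mul_comm, pow_mul]
    exact hkpow _ (by rw [MonoidHom.mem_ker, map_pow, hc]; decide +kernel)
  have h4 : (c ^ n) ^ 4 = tC t := by
    refine D.eq_tC ht (by rw [← pow_add]; exact h8) ?_
    rw [map_pow, map_pow, hc, ← pow_mul, mul_comm, pow_mul, a_pow_four, hj, pow_succ, pow_mul,
      show z ^ 2 = (1 : Mat) by decide +kernel, one_pow, one_mul]
  set A : G := ((c ^ n : centralizer ({t} : Set G)) : G) with hAdef
  have hAC : A ∈ centralizer ({t} : Set G) := SetLike.coe_mem _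
  have hA4 : A ^ 4 = t := by
    rw [hAdef, ← SubgroupClass.coe_pow, h4]; rfl
  have hA8' : A ^ 8 = 1 := by rw [hAdef, ← SubgroupClass.coe_pow, h8]; rfl
  have ht1 : t ≠ 1 := fun e => by rw [e, orderOf_one] at ht; norm_num at ht
  have hA8 : orderOf A = 8 := orderOf_eq_prime_pow (p := 2) (n := 2) (by
    show ¬ A ^ 2 ^ 2 = 1
    rw [show (2 : ℕ) ^ 2 = 4 by norm_num, hA4]; exact ht1) (by
    show A ^ 2 ^ (2 + 1) = 1
    exact hA8')
  set H := centralizer ({t} : Set G) with hH
  have hA : IsPGroup 2 ((zpowers A).subgroupOf H) := by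
    refine (IsPGroup.of_card (n := 3) ?_).comap_subtype
    rw [Nat.card_zpowers, hA8]; norm_num
  obtain ⟨R, hR⟩ := hA.exists_le_sylow
  have hAR : (⟨A, hAC⟩ : H) ∈ (R : Subgroup H) :=
    hR (by rw [mem_subgroupOf]; exact mem_zpowers A)
  have hRcard : Nat.card (R : Subgroup H) = 16 := by
    rw [R.card_eq_multiplicity, D.card_centralizer, ← hn]
    rw [show Nat.factorization (48 * n) 2 = 4 from ?_]
    · norm_num
    · rw [show 48 * n = 2 ^ 4 * (3 * n) by ring, Nat.factorization_mul (by norm_num) (by omega),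
        Finsupp.add_apply, Nat.Prime.factorization_pow Nat.prime_two,
        Nat.factorization_eq_zero_of_not_dvd (show ¬ 2 ∣ 3 * n by omega), Finsupp.single_eq_same]
  set R' := (R : Subgroup H).map H.subtype with hR'
  have hR'card : Nat.card R' = 16 := by
    rw [hR', card_map_of_injective H.subtype_injective, hRcard]
  have hR'H : R' ≤ H := map_subtype_le _
  obtain ⟨S, hS⟩ := (IsPGroup.of_card (p := 2) (n := 4) (by rw [hR'card]; norm_num) :
    IsPGroup 2 R').exists_le_sylow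
  refine ⟨S, A, hS ⟨⟨A, hAC⟩, hAR, rfl⟩, hA8, hA4, ?_⟩
  suffices (S : Subgroup G) = R' by rw [this, hR'card]
  by_contra hne
  have hlt : R'.subgroupOf (S : Subgroup G) < ⊤ := by
    refine lt_top_iff_ne_top.2 fun e => hne (le_antisymm ?_ hS)
    exact subgroupOf_eq_top.1 e
  haveI : Group.IsNilpotent (S : Subgroup G) := S.isPGroup'.isNilpotent
  obtain ⟨g, hg, hgR⟩ := SetLike.exists_of_lt
    (Group.normalizerCondition_of_isNilpotent (R'.subgroupOf (S : Subgroup G)) hlt)
  have hgn : ∀ x ∈ R', (g : G) * x * (g : G)⁻¹ ∈ R' := fun x hx => by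
    have := (mem_normalizer_iff.1 hg ⟨x, hS hx⟩).1 (by rwa [mem_subgroupOf])
    rwa [mem_subgroupOf] at this
  have hgC : (g : G) ∈ H := by
    have hm : (g : G) * A * (g : G)⁻¹ ∈ H := hR'H (hgn A ⟨⟨A, hAC⟩, hAR, rfl⟩)
    set y : H := ⟨(g : G) * A * (g : G)⁻¹, hm⟩
    have hy8 : y ^ 8 = 1 := Subtype.ext (by
      show ((g : G) * A * (g : G)⁻¹) ^ 8 = 1
      rw [conj_pow', hA8', mul_one, mul_inv_cancel])
    have hy4 : ((y ^ 4 : H) : G) = (g : G) * t * (g : G)⁻¹ := by
      show ((g : G) * A * (g : G)⁻¹) ^ 4 = _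
      rw [conj_pow', hA4]
    have hy1 : y ^ 4 ≠ 1 := fun e => ht1 (by
      rw [e] at hy4
      exact conj_eq_one_iff.1 hy4.symm)
    have hsq : y ^ 4 * y ^ 4 = 1 := by rw [← pow_add]; exact hy8
    have hz : D.π (y ^ 4) = z := by
      rw [map_pow]
      refine eight_root _ (by rw [← map_pow, hy8, map_one]) fun e => hy1 ?_
      exact eq_one_of_odd D.odd (by rw [MonoidHom.mem_ker, map_pow]; exact e) hsq
    have h := congrArg Subtype.val (D.eq_tC ht hsq hz)
    rw [hy4] at h
    rw [hH, mem_centralizer_singleton_iff]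
    calc (g : G) * t = (g : G) * t * (g : G)⁻¹ * g := by group
      _ = t * g := by rw [h]; rfl
  have hsub : (S : Subgroup G).subgroupOf H = (R : Subgroup H) := R.3
    S.isPGroup'.comap_subtype
    (fun x hx => by rw [mem_subgroupOf]; exact hS ⟨x, hx, rfl⟩)
  refine hgR ?_
  rw [mem_subgroupOf]
  exact ⟨⟨g, hgC⟩, by rw [SetLike.mem_coe, ← hsub, mem_subgroupOf]; exact g.2, rfl⟩

theorem Cover.isConj_of_sq [IsSimpleGroup G] (D : Cover t) (ht : orderOf t = 2) {x : G}
    (hx : x * x = 1) (hx1 : x ≠ 1) : IsConj t x := by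
  obtain ⟨S, A, hAS, hA8, hA4, hS⟩ := D.exists_sylow ht
  haveI : Fact (Nat.Prime 2) := ⟨Nat.prime_two⟩
  have hodd : Odd (S : Subgroup G).index := by
    rw [← Nat.not_even_iff_odd, even_iff_two_dvd]
    exact S.not_dvd_index
  have hrel : (zpowers A).relIndex (S : Subgroup G) = 2 := by
    have h := card_mul_index ((zpowers A).subgroupOf (S : Subgroup G))
    rw [Nat.card_congr (subgroupOfEquivOfLe (zpowers_le.2 hAS)).toEquiv,
      Nat.card_zpowers, hA8, hS] at h
    show ((zpowers A).subgroupOf (S : Subgroup G)).index = 2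
    omega
  rcases CfsgLib.ThompsonTransfer.thompson_transfer (S : Subgroup G) _ hodd hrel hx with
    ⟨M, hM, hM2, hxM⟩ | ⟨g, hg⟩
  · exfalso
    rcases IsSimpleGroup.eq_bot_or_eq_top_of_normal M hM with rfl | rfl
    · rw [index_bot] at hM2
      have h16 := (S : Subgroup G).card_subgroup_dvd_card
      rw [hS, hM2] at h16
      norm_num at h16
    · exact hxM (mem_top x)
  · refine (isConj_iff.2 ⟨g, ?_⟩).symm
    have hy2 : (g * x * g⁻¹) ^ 2 = 1 := by rw [conj_pow', sq, hx, mul_one, mul_inv_cancel]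
    have hy1 : g * x * g⁻¹ ≠ 1 := fun e => hx1 (by rwa [conj_eq_one_iff] at e)
    obtain ⟨n, hn⟩ := (Submonoid.mem_powers_iff _ _).1 ((mem_powers_iff_mem_zpowers).2 hg)
    rw [← hn] at hy2 hy1 ⊢
    rw [← pow_mul, ← orderOf_dvd_iff_pow_eq_one, hA8] at hy2
    rw [ne_eq, ← orderOf_dvd_iff_pow_eq_one, hA8] at hy1
    rw [← hA4, ← pow_mod_orderOf A n, hA8]
    congr 1
    omega

end CfsgLib.WongThree
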