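import Cfsg.Agent.WongThree.CoverInduced
import Cfsg.Agent.WongThree.CoverSylow
import Cfsg.Agent.WongThree.BlockTools
import Cfsg.Agent.Blocks.Congr

/-!
# A small degree in the principal block
-/

set_option autoImplicit false
set_option linter.unusedSectionVars false
set_option linter.style.haveILetI false

namespace CfsgLib.WongThree

open Cfsg Finset CfsgLib.GLTwoThree CfsgLib.Block CfsgLib.Block.Chr CfsgLib.Char
open scoped ComplexConjugate

universe u

variable {G : Type u} [Group G] [Fintype G] {t : G}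

set_option synthInstance.maxSize 1024 in
theorem count_seven : ∀ v : Mat, cls v ≠ 0 → cls v ≠ 6 → cls v ≠ 7 → ∀ x : Mat,
    (x ≠ 1 ∧ x * x = 1 ∧ x * v ≠ 1 ∧ x * v * (x * v) = 1) → cls x = 7 ∧ cls (x * v) = 7 := by
  decide +kernel

/-- The number of pairs of involutions with a given special product. -/
theorem Cover.pairs (D : Cover t) [IsSimpleGroup G] (ht : orderOf t = 2)
    (c : Subgroup.centralizer ({t} : Set G)) (hc : Special (D.π c)) :
    Nat.card {p : G × G // IsConj t p.1 ∧ IsConj t p.2 ∧ p.1 * p.2 = (c : G)} =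
      Nat.card D.π.ker * (Finset.univ.filter fun x : Mat =>
        x ≠ 1 ∧ x * x = 1 ∧ x * D.π c ≠ 1 ∧ x * D.π c * (x * D.π c) = 1).card := by
  classical
  haveI : Fintype (Subgroup.centralizer ({t} : Set G)) := Fintype.ofFinite (Subgroup.centralizer ({t} : Set G))
  set P : Mat → Prop := fun x => x ≠ 1 ∧ x * x = 1 ∧ x * D.π c ≠ 1 ∧ x * D.π c * (x * D.π c) = 1
  have hinv : ∀ y, IsConj t y → y * y = 1 ∧ y ≠ 1 := by
    intro y hy
    obtain ⟨g, rfl⟩ := isConj_iff.1 hy
    refine ⟨?_, fun e => ?_⟩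
    · rw [← sq, conj_pow, ← ht, pow_orderOf_eq_one, mul_one, mul_inv_cancel]
    · rw [conj_eq_one_iff] at e
      rw [e, orderOf_one] at ht
      exact absurd ht (by norm_num)
  have hback : ∀ y : (Subgroup.centralizer ({t} : Set G)), P (D.π y) → IsConj t (y : G) ∧ IsConj t ((y * c : (Subgroup.centralizer ({t} : Set G))) : G) := by
    intro y hy
    obtain ⟨h7, h7'⟩ := count_seven _ hc.1 hc.2.1 hc.2.2 _ hy
    rw [← map_mul] at h7'
    refine ⟨D.isConj_of_sq ht ?_ ?_, D.isConj_of_sq ht ?_ ?_⟩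
    · rw [← Subgroup.coe_mul, D.sq_of_seven h7]; rfl
    · intro e
      exact (seven_invol _ h7).2.1 (by rw [show y = 1 from Subtype.ext e, map_one])
    · rw [← Subgroup.coe_mul, D.sq_of_seven h7']; rfl
    · intro e
      exact (seven_invol _ h7').2.1 (by rw [show y * c = 1 from Subtype.ext e, map_one])
  have hfwd : ∀ p : G × G, IsConj t p.1 → IsConj t p.2 → p.1 * p.2 = (c : G) →
      ∃ hm : p.1 ∈ (Subgroup.centralizer ({t} : Set G)), p.2 = p.1 * (c : G) ∧ P (D.π ⟨p.1, hm⟩) := by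
    intro p h1 h2 h12
    obtain ⟨a1, a1'⟩ := hinv _ h1
    obtain ⟨a2, a2'⟩ := hinv _ h2
    have e2 : p.2 = p.1 * (c : G) := by rw [← h12, ← mul_assoc, a1, one_mul]
    have hm : p.1 ∈ (Subgroup.centralizer ({t} : Set G)) := by
      refine D.conj_mem ht (c := c) (d := c⁻¹) ?_ hc ?_
      · rw [Subgroup.coe_inv, ← h12, mul_inv_rev]
        rw [inv_eq_of_mul_eq_one_right a1, inv_eq_of_mul_eq_one_right a2, ← mul_assoc, a1, one_mul]
      · rw [map_inv]
        exact cls_inv_supported _ hc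
    set y : (Subgroup.centralizer ({t} : Set G)) := ⟨p.1, hm⟩
    have y2 : y * y = 1 := Subtype.ext a1
    have y1 : y ≠ 1 := fun e => a1' (congrArg Subtype.val e)
    have yc2 : y * c * (y * c) = 1 := Subtype.ext (show p.1 * (c : G) * (p.1 * c) = 1 by rw [← e2, a2])
    have yc1 : y * c ≠ 1 := fun e => a2' (by rw [e2]; exact congrArg Subtype.val e)
    refine ⟨hm, e2, fun e => y1 (eq_one_of_odd D.odd e y2), by rw [← map_mul, y2, map_one], ?_,
      by rw [← map_mul, ← map_mul, yc2, map_one]⟩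
    rw [← map_mul]
    exact fun e => yc1 (eq_one_of_odd D.odd e yc2)
  let e : {p : G × G // IsConj t p.1 ∧ IsConj t p.2 ∧ p.1 * p.2 = (c : G)} ≃ {y : (Subgroup.centralizer ({t} : Set G)) // P (D.π y)} :=
    { toFun := fun p => ⟨⟨p.1.1, (hfwd _ p.2.1 p.2.2.1 p.2.2.2).1⟩,
        (hfwd _ p.2.1 p.2.2.1 p.2.2.2).2.2⟩
      invFun := fun y => ⟨((y.1 : G), ((y.1 * c : (Subgroup.centralizer ({t} : Set G))) : G)), (hback _ y.2).1, (hback _ y.2).2, by
        show (y.1 : G) * ((y.1 : G) * (c : G)) = c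
        obtain ⟨h7, -⟩ := count_seven _ hc.1 hc.2.1 hc.2.2 _ y.2
        rw [← mul_assoc, ← Subgroup.coe_mul, D.sq_of_seven h7, OneMemClass.coe_one, one_mul]⟩
      left_inv := fun p => Subtype.ext (Prod.ext rfl (hfwd _ p.2.1 p.2.2.1 p.2.2.2).2.1.symm)
      right_inv := fun y => rfl }
  rw [Nat.card_congr e, Nat.card_eq_fintype_card, Fintype.card_subtype]
  have h := D.sum_comp (fun x => if P x then (1 : ℕ) else 0)
  rw [Finset.sum_boole, Finset.sum_boole, Nat.cast_id] at h
  exact h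

/-- A character of degree below sixteen in the principal block. -/
theorem Cover.exists_small (D : Cover t) [IsSimpleGroup G] (ht : orderOf t = 2)
    {M : Ideal AlgInt} [M.IsPrime] (hM : IsPModular 2 M) :
    ∃ χ : IrrCharacter G, χ ∈ principalBlock M G ∧ χ ≠ oneIrr G ∧
      ∃ d : ℕ, d < 16 ∧ (χ : G → ℂ) 1 = d := by
  classical
  haveI : Fact (Nat.Prime 2) := ⟨Nat.prime_two⟩
  letI := irrFintype (G := G)
  haveI : Fintype (Subgroup.centralizer ({t} : Set G)) := Fintype.ofFinite _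
  have hnc : ¬ ∀ x y : G, x * y = y * x := fun h => by
    obtain ⟨x, y, hxy⟩ := not_commutative
    obtain ⟨x, rfl⟩ := D.surj x
    obtain ⟨y, rfl⟩ := D.surj y
    exact hxy (by rw [← map_mul, ← map_mul, show x * y = y * x from Subtype.ext (h _ _)])
  set θ : Fin 5 → G → ℂ := fun k => Cfsg.indFun (Subgroup.centralizer ({t} : Set G)) (tcD D (tab k)) with hθ
  have hgen : ∀ k, Cfsg.IsGeneralizedCharacter G (θ k) := fun k =>
    IsGeneralized.indFun (isGen_tcD D k)
  have hm : ∀ (k : Fin 5) (χ : IrrCharacter G), ∃ n : ℤ,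
      Cfsg.classInner (θ k) (χ : G → ℂ) = n := fun k χ =>
    IsGeneralized.exists_classInner_eq_int (hgen k) (IsIrrCharacter.isGeneralized χ.2)
  choose m hm using hm
  have hd : ∀ χ : IrrCharacter G, ∃ n : ℕ, 0 < n ∧ (χ : G → ℂ) 1 = n := fun χ =>
    IsIrrCharacter.exists_degree χ.2
  choose d hd0 hd using hd
  have hsumirr : ∀ f : (G → ℂ) → ℂ, ∑ χ ∈ irrFinset G, f χ = ∑ χ : IrrCharacter G, f χ := fun f => by
    rw [← finsum_irr f, finsum_eq_sum_of_fintype]
  have hcf : ∀ k, Cfsg.IsClassFunction (Subgroup.centralizer ({t} : Set G)) (tcD D (tab k)) := fun k =>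
    IsGeneralized.isClassFunction (isGen_tcD D k)
  have hgram : ∀ j k, ∑ χ, m j χ * m k χ = gram j k := by
    intro j k
    have h := classInner_eq_sum_irr (IsGeneralized.isClassFunction (hgen j)) (θ k)
    rw [show Cfsg.classInner (θ j) (θ k) = tinner (tab j) (tab k) from
      classInner_tcD D ht (tab_supported j) (tab_supported k) (hcf k), tinner_tab, hsumirr] at h
    simp only [hm, map_intCast, ← Int.cast_mul, ← Int.cast_sum, Int.cast_inj] at h
    exact h.symm
  have hrep : ∀ (k : Fin 5) (χ : IrrCharacter G), ((m k χ : ℤ) : ℂ) =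
      (Nat.card (Subgroup.centralizer ({t} : Set G)) : ℂ)⁻¹ * ∑ c : (Subgroup.centralizer ({t} : Set G)), tab k (cls (D.π c)) * conj ((χ : G → ℂ) c) := by
    intro k χ
    rw [← hm k χ, hθ]
    simp only
    rw [classInner_indFun _ (IsIrrCharacter.isClassFunction χ.2), classInner_def]
    rfl
  set o : IrrCharacter G := oneIrr G
  have hone : ∀ k, m k o = if k = 0 ∨ k = 2 then 1 else 0 := by
    intro k
    have h2 : ((m k o : ℤ) : ℂ) = tinner (tab k) (fun _ => 1) := by
      rw [hrep k o, tinner, ← avg_cls (fun i => tab k i * conj ((fun _ => 1 : Fin 8 → ℂ) i)),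
        ← avg_comp D (fun x => tab k (cls x) * conj (1 : ℂ))]
      rfl
    rw [tinner_tab_one] at h2
    split_ifs with hk
    · rw [if_pos hk] at h2; exact_mod_cast h2
    · rw [if_neg hk] at h2; exact_mod_cast h2
  have hdeg : ∀ k, ∑ χ, m k χ * (d χ : ℤ) = 0 := by
    intro k
    have h1 : θ k 1 = 0 := by
      rw [hθ]
      simp only
      rw [indFun_one]
      simp [tcD, cls_one, (tab_supported k).1]
    rw [eq_sum_irr (IsGeneralized.isClassFunction (hgen k)), Finset.sum_apply, hsumirr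
      (fun ψ => (Cfsg.classInner (θ k) ψ • ψ) 1)] at h1
    simp only [Pi.smul_apply, smul_eq_mul, hm, hd] at h1
    exact_mod_cast h1
  have hdegB : ∀ k, ∑ χ ∈ univ.filter (· ∈ principalBlock M G), m k χ * (d χ : ℤ) = 0 := by
    intro k
    have h : ((∑ χ ∈ univ.filter (· ∈ principalBlock M G), m k χ * (d χ : ℤ) : ℤ) : ℂ) = 0 := by
      push_cast
      rw [Finset.sum_congr rfl (g := fun χ : IrrCharacter G =>
        ∑ c : (Subgroup.centralizer ({t} : Set G)), (Nat.card (Subgroup.centralizer ({t} : Set G)) : ℂ)⁻¹ * tab k (cls (D.π c)) *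
          ((χ : G → ℂ) 1 * conj ((χ : G → ℂ) c))) fun χ _ => ?_, Finset.sum_comm]
      · refine Finset.sum_eq_zero fun c _ => ?_
        rw [← Finset.mul_sum]
        by_cases hc : Special (D.π c)
        · rw [degree_orth hM (D.two_dvd_orderOf ht hc), mul_zero]
        · rw [show tab k (cls (D.π c)) = 0 from tcD_eq_zero D (tab_supported k) c hc, mul_zero,
            zero_mul]
      · rw [hrep, hd, Finset.mul_sum, Finset.sum_mul]
        exact Finset.sum_congr rfl fun c _ => by ring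
    exact_mod_cast h
  have hdo : d o = 1 := by
    have h := hd o
    rw [oneIrr_apply] at h
    exact_mod_cast h.symm
  have hd2 : ∀ χ, χ ≠ o → (2 : ℤ) ≤ d χ := by
    intro χ hχ
    by_contra hlt
    have h1 : d χ = 1 := by have := hd0 χ; omega
    exact hχ (Subtype.ext ((CfsgLib.GLTwoThree.eq_one_of_degree_one hnc χ.2
      (by rw [hd, h1]; simp)).trans (funext fun g => (oneIrr_apply g).symm)))
  -- all constituents lie in the principal block
  have hPd : ∀ χ, 0 < (d χ : ℤ) := fun χ => by exact_mod_cast hd0 χ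
  have ho0 : m 0 o ≠ 0 := by rw [hone]; simp
  have hB0 : ∀ χ, m 0 χ ≠ 0 → χ ∈ principalBlock M G :=
    support_subset (n := 3) le_rfl (hgram 0 0) _ hPd (hdeg 0) (hdegB 0) oneIrr_mem_principalBlock ho0
  have hB2 : ∀ χ, m 2 χ ≠ 0 → χ ∈ principalBlock M G :=
    support_subset (n := 3) le_rfl (hgram 2 2) _ hPd (hdeg 2) (hdegB 2) oneIrr_mem_principalBlock
      (by rw [hone]; simp)
  have hB : ∀ k χ, m k χ ≠ 0 → χ ∈ principalBlock M G := by
    have key : ∀ j k : Fin 5, (∀ χ, m j χ ≠ 0 → χ ∈ principalBlock M G) → gram j k ≠ 0 →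
        gram k k ≤ 3 → 0 ≤ gram k k → ∀ χ, m k χ ≠ 0 → χ ∈ principalBlock M G := by
      intro j k hj hjk hk3 hk0
      obtain ⟨χ₀, -, hχ₀⟩ := Finset.exists_ne_zero_of_sum_ne_zero (hgram j k ▸ hjk :
        ∑ χ, m j χ * m k χ ≠ 0)
      exact support_subset (n := (gram k k).toNat) (by omega)
        (by rw [hgram, Int.toNat_of_nonneg hk0]) _ hPd (hdeg k) (hdegB k) (hj χ₀ (left_ne_zero_of_mul hχ₀))
        (right_ne_zero_of_mul hχ₀)
    intro k
    fin_cases k
    exacts [hB0, key 0 1 hB0 (by decide) (by decide) (by decide), hB2,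
      key 2 3 hB2 (by decide) (by decide) (by decide),
      key 2 4 hB2 (by decide) (by decide) (by decide)]
  -- the values at `t`
  set zc : IrrCharacter G → ℤ :=
    fun χ => 2 * m 3 χ + 2 * m 4 χ + 3 * m 0 χ + m 1 χ - 2 * m 2 χ with hzc
  have hval : ∀ χ ∈ principalBlock M G, (χ : G → ℂ) t = zc χ := by
    intro χ hχ
    have hn : (Nat.card D.π.ker : ℂ) ≠ 0 := Nat.cast_ne_zero.2 Nat.card_pos.ne'
    have h48 : ((zc χ : ℤ) : ℂ) = (Nat.card (Subgroup.centralizer ({t} : Set G)) : ℂ)⁻¹ * ∑ c : (Subgroup.centralizer ({t} : Set G)),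
        (if cls (D.π c) = 1 then (48 : ℂ) else 0) * conj ((χ : G → ℂ) c) := by
      rw [hzc]
      push_cast
      rw [hrep, hrep, hrep, hrep, hrep]
      simp only [← tab_indicator, add_mul, sub_mul, mul_assoc, Finset.sum_add_distrib,
        Finset.sum_sub_distrib, ← Finset.mul_sum]
      ring
    haveI : ((D.π.ker)).Normal := D.π.normal_ker
    have hconst : ∀ c : (Subgroup.centralizer ({t} : Set G)), cls (D.π c) = 1 → (χ : G → ℂ) c = (χ : G → ℂ) t := by
      intro c hc
      have hw : tC t * c ∈ D.π.ker := by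
        rw [MonoidHom.mem_ker, map_mul, D.pi_t ht, (cls_eq_one_iff _).1 hc]
        decide +kernel
      have h := principal_const (x := t) (k := 1) hM (by rw [ht]; norm_num) D.π.ker (by
        rw [← even_iff_two_dvd, Nat.not_even_iff_odd]; exact D.odd) hχ hw
      rw [← h]
      refine congrArg (χ : G → ℂ) ?_
      show (c : G) = t * (t * (c : G))
      rw [← mul_assoc, show t * t = 1 by rw [← sq, ← ht, pow_orderOf_eq_one], one_mul]
    rw [Finset.sum_congr rfl (g := fun c : (Subgroup.centralizer ({t} : Set G)) => conj ((χ : G → ℂ) t) *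
      ((if cls (D.π c) = 1 then (48 : ℂ) else 0))) fun c _ => ?_, ← Finset.mul_sum] at h48
    · rw [mul_left_comm, avg_comp D (fun x => if cls x = 1 then (48 : ℂ) else 0),
        avg_cls (fun i => if i = 1 then (48 : ℂ) else 0)] at h48
      rw [Finset.sum_eq_single (1 : Fin 8) (fun i _ hi => by rw [if_neg hi, mul_zero])
        (fun h => absurd (Finset.mem_univ _) h), if_pos rfl] at h48
      norm_num [csize] at h48
      rw [← Complex.conj_conj ((χ : G → ℂ) t), ← h48, map_intCast]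
    · by_cases hc : cls (D.π c) = 1
      · rw [if_pos hc, hconst c hc, mul_comm]
      · rw [if_neg hc, zero_mul, mul_zero]
  -- pairs of involutions
  set K := Nat.card {x : G // IsConj t x} with hK
  set n := Nat.card D.π.ker with hn
  have hKG : Nat.card G = 48 * n * K := by
    rw [hK, card_conj_class, hn, ← D.card_centralizer, Subgroup.card_mul_index]
  set F : G → ℕ := fun v =>
    Nat.card {p : G × G // IsConj t p.1 ∧ IsConj t p.2 ∧ p.1 * p.2 = v} with hF
  have hFf : ∀ v, (F v : ℂ) = (K : ℂ) * K / (Nat.card G : ℂ) *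
      ∑ χ ∈ irrFinset G, χ t * χ t * conj (χ v) / χ 1 := fun v => card_class_products t t v
  have hFcf : Cfsg.IsClassFunction G (fun v => (F v : ℂ)) := by
    intro g h
    simp only [hFf]
    congr 1
    refine Finset.sum_congr rfl fun χ hχ => ?_
    rw [IsIrrCharacter.isClassFunction (mem_irrFinset.1 hχ) g h]
  have hS : ∀ k : Fin 5, ∀ T : Fin 8 → ℤ, (∀ i, tab k i = (T i : ℂ)) →
      (∑ v : Mat, T (cls v) * ((Finset.univ.filter fun x : Mat =>
        x ≠ 1 ∧ x * x = 1 ∧ x * v ≠ 1 ∧ x * v * (x * v) = 1).card : ℤ) = 4 * 48) →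
      (Nat.card G : ℚ) * ∑ χ, (m k χ : ℚ) * ((zc χ : ℚ) ^ 2 / (d χ : ℤ)) = 9216 * (n ^ 3 : ℕ) := by
    intro k T hT hpairs
    have h1 : Cfsg.classInner (θ k) (fun v => (F v : ℂ)) = 4 * n := by
      rw [hθ]
      simp only
      rw [classInner_indFun _ hFcf, classInner_def]
      rw [Finset.sum_congr rfl (g := fun c : (Subgroup.centralizer ({t} : Set G)) => (fun x : Mat => (T (cls x) : ℂ) * (((n *
        (Finset.univ.filter fun y : Mat =>
          y ≠ 1 ∧ y * y = 1 ∧ y * x ≠ 1 ∧ y * x * (y * x) = 1).card : ℕ)) : ℂ)) (D.π c)) fun c _ => ?_]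
      · refine (avg_comp D (fun x : Mat => (T (cls x) : ℂ) * (((n *
          (Finset.univ.filter fun y : Mat =>
            y ≠ 1 ∧ y * y = 1 ∧ y * x ≠ 1 ∧ y * x * (y * x) = 1).card : ℕ)) : ℂ))).trans ?_
        have h2 : ((4 * 48 : ℤ) : ℂ) = ∑ v : Mat, (T (cls v) : ℂ) * (((Finset.univ.filter fun x : Mat =>
          x ≠ 1 ∧ x * x = 1 ∧ x * v ≠ 1 ∧ x * v * (x * v) = 1).card : ℕ) : ℂ) := by
          rw [← hpairs]; push_cast; rfl
        rw [Finset.sum_congr rfl (g := fun v : Mat => (n : ℂ) * ((T (cls v) : ℂ) *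
          (((Finset.univ.filter fun x : Mat =>
            x ≠ 1 ∧ x * x = 1 ∧ x * v ≠ 1 ∧ x * v * (x * v) = 1).card : ℕ) : ℂ)))
          fun v _ => by push_cast; ring, ← Finset.mul_sum, ← h2]
        push_cast
        ring
      · show tcD D (tab k) c * conj ((F (c : G) : ℂ)) = _
        rw [Complex.conj_natCast]
        by_cases hc : Special (D.π c)
        · show tab k (cls (D.π c)) * _ = _
          rw [hT, hF]
          simp only
          rw [D.pairs ht c hc]
        · have h0 := tcD_eq_zero D (tab_supported k) c hc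
          rw [h0, zero_mul]
          have h0' : (T (cls (D.π c)) : ℂ) = 0 := by rw [← hT]; exact h0
          show (0 : ℂ) = (T (cls (D.π c)) : ℂ) * _
          rw [h0', zero_mul]
    have hGne : (Nat.card G : ℂ) ≠ 0 := Nat.cast_ne_zero.2 Nat.card_pos.ne'
    have h3 : Cfsg.classInner (θ k) (fun v => (F v : ℂ)) = (K : ℂ) * K / (Nat.card G : ℂ) *
        ∑ χ ∈ irrFinset G, Cfsg.classInner (θ k) χ * (χ t * χ t / χ 1) := by
      rw [classInner_def, Finset.sum_congr rfl (g := fun v => θ k v * (F v : ℂ)) fun v _ =>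
        congrArg (θ k v * ·) (Complex.conj_natCast (F v)), Finset.mul_sum, Finset.mul_sum]
      simp only [classInner_def, hFf, Finset.mul_sum, Finset.sum_mul]
      rw [Finset.sum_comm]
      refine Finset.sum_congr rfl fun χ _ => Finset.sum_congr rfl fun v _ => ?_
      ring
    rw [h1, hsumirr (fun ψ => Cfsg.classInner (θ k) ψ * (ψ t * ψ t / ψ 1))] at h3
    rw [Finset.sum_congr rfl (g := fun χ : IrrCharacter G =>
      (m k χ : ℂ) * ((zc χ : ℂ) ^ 2 / (d χ : ℂ))) fun χ _ => ?_] at h3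
    · have hn0 : (n : ℂ) ≠ 0 := Nat.cast_ne_zero.2 Nat.card_pos.ne'
      have h6 : (Nat.card G : ℚ) * ∑ χ, (m k χ : ℚ) * ((zc χ : ℚ) ^ 2 / (d χ : ℤ)) =
          9216 * (n ^ 3 : ℕ) := by
        apply Rat.cast_injective (α := ℂ)
        push_cast
        rw [hKG] at h3 hGne ⊢
        push_cast at h3 hGne ⊢
        have hK0 : (K : ℂ) ≠ 0 := right_ne_zero_of_mul hGne
        rw [show (K : ℂ) * K / (48 * n * K) = (K : ℂ) / (48 * n) by field_simp] at h3
        have h4 := h3
        rw [div_mul_eq_mul_div, eq_div_iff (mul_ne_zero (by norm_num) hn0)] at h4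
        linear_combination -48 * (n : ℂ) * h4
      exact h6
    · show Cfsg.classInner (θ k) (χ : G → ℂ) * _ = _
      rw [hm, hd]
      by_cases h0 : m k χ = 0
      · simp [h0]
      · rw [hval χ (hB k χ h0), sq]
  have hb := hS 0 beta (fun i => rfl) pairs_beta
  have hg := hS 1 gamma (fun i => rfl) pairs_gamma
  obtain ⟨a', c', e', f', hac, hsum, ha, hc, he, hf, hf1, -, hbS, hgS, i, j, hio, hjo, hbi, hgj,
      hai, hej⟩ :=
    degree_equations' o (m 0) (m 1) (m 2) (m 3) (m 4) (fun χ => (d χ : ℤ))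
      (hgram 0 0) (hgram 1 1) (hgram 2 2) (hgram 3 3) (hgram 4 4) (hgram 0 1) (hgram 0 2)
      (hgram 1 2) (hgram 0 3) (hgram 0 4) (hgram 1 3) (hgram 1 4) (hgram 2 3) (hgram 2 4) (hgram 3 4)
      (by rw [hone]; rfl) (by rw [hone]; rfl) (by rw [hone]; rfl) (by rw [hone]; rfl)
      (by rw [hone]; rfl) (by rw [hdo]; rfl) hd2 (hdeg 0) (hdeg 1) (hdeg 2) (hdeg 3) (hdeg 4)
      zc (fun χ => rfl)
  rw [hbS] at hb
  rw [hgS] at hg
  have hne : (Nat.card G : ℚ) ≠ 0 := Nat.cast_ne_zero.2 Nat.card_pos.ne'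
  obtain ⟨S, -, -, -, -, hS16⟩ := D.exists_sylow ht
  have h32 : ¬ 32 ∣ Nat.card G := by
    intro h32
    have h := (S : Subgroup G).index_mul_card
    rw [hS16] at h
    have := S.not_dvd_index
    omega
  rcases order_cover (w := n ^ 3) (hS16 ▸ (S : Subgroup G).card_subgroup_dvd_card) h32 D.odd.pow hac
    hsum ha hc he hf hf1 (mul_left_cancel₀ hne (hb.trans hg.symm)) hb with hsm | hsm
  · refine ⟨i, hB 0 i hbi, hio, d i, ?_, hd i⟩
    rcases hai with e | e <;> omega
  · refine ⟨j, hB 1 j hgj, hjo, d j, ?_, hd j⟩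
    rcases hej with e | e <;> omega

end CfsgLib.WongThree
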