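import Cfsg.Agent.WongThree.Cover
import Cfsg.Agent.GLTwoThree.Order

/-!
# Induction from a covered `GL₂(3)` centraliser
-/

set_option autoImplicit false
set_option linter.unusedSectionVars false
set_option linter.style.haveILetI false

namespace CfsgLib.WongThree

open CfsgLib.Char Finset CfsgLib.GLTwoThree
open scoped ComplexConjugate

universe u

theorem order_cover {N w : ℕ} (h16 : 16 ∣ N) (h32 : ¬ 32 ∣ N) (hw : Odd w) {a c e f : ℤ}
    (hac : a + c = -1) (hsum : a + e + f = 0) (ha : a ≠ 0) (hc : c ≠ 0) (he : e ≠ 0) (hf : f ≠ 0)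
    (hf1 : f ≠ 1) (heq : (1 + 16 / a + 9 / c : ℚ) = 16 / a + 9 / e + 1 / f)
    (hN : (N : ℚ) * (1 + 16 / a + 9 / c) = 9216 * w) :
    (-16 < a ∧ a < 16) ∨ (-16 < e ∧ e < 16) := by
  have haQ : (a : ℚ) ≠ 0 := Int.cast_ne_zero.2 ha
  have hcQ : (c : ℚ) ≠ 0 := Int.cast_ne_zero.2 hc
  have heQ : (e : ℚ) ≠ 0 := Int.cast_ne_zero.2 he
  have hfQ : (f : ℚ) ≠ 0 := Int.cast_ne_zero.2 hf
  have h1 : e * f * (c + 9) = c * (9 * f + e) := by
    have h0 : (1 + 9 / c : ℚ) = 9 / e + 1 / f := by linarith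
    field_simp at h0
    have h2 : ((e * f * (c + 9) : ℤ) : ℚ) = ((c * (9 * f + e) : ℤ) : ℚ) := by
      push_cast
      linear_combination h0
    exact_mod_cast h2
  have hfe : f = 1 + c - e := by omega
  have h2 : (f - 1) * (c * (-e) + 9 * f) = 0 := by
    subst hfe
    linear_combination -h1
  have h3 : (c + 9) * (-e + 9) = 72 := by
    have h4 : c * (-e) + 9 * f = 0 := (mul_eq_zero.1 h2).resolve_left (by omega)
    subst hfe
    linear_combination h4
  have hN' : (N : ℤ) * (a * c + 16 * c + 9 * a) = 9216 * w * (a * c) := by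
    field_simp at hN
    have h5 : (((N : ℤ) * (a * c + 16 * c + 9 * a) : ℤ) : ℚ) = ((9216 * w * (a * c) : ℤ) : ℚ) := by
      push_cast
      linear_combination hN
    exact_mod_cast h5
  obtain ⟨k, hk⟩ : ∃ k, N = 16 * (2 * k + 1) := by
    obtain ⟨m, rfl⟩ := h16
    exact ⟨m / 2, by omega⟩
  obtain ⟨l, hl⟩ := hw
  have hdvd : (c + 9) ∣ 72 := Dvd.intro _ h3
  have hub : c + 9 ≤ 72 := Int.le_of_dvd (by norm_num) hdvd
  have hlb : -(c + 9) ≤ 72 := Int.le_of_dvd (by norm_num) (Int.neg_dvd.2 hdvd)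
  have ha' : a = -1 - c := by omega
  subst ha'
  have hc2 : c ≤ 63 := by omega
  have hc3 : -81 ≤ c := by omega
  interval_cases c <;> (try norm_num at hdvd) <;> (try norm_num at ha hc) <;> (try norm_num at hN') <;>
    omega

variable {G : Type u} [Group G] [Fintype G] {t : G}

/-- A function on the centraliser given by a table on the classes. -/
def tcD (D : Cover t) (T : Fin 8 → ℂ) : Subgroup.centralizer ({t} : Set G) → ℂ :=
  fun c => T (cls (D.π c))

theorem tcD_eq_zero (D : Cover t) {T : Fin 8 → ℂ} (h0 : T 0 = 0 ∧ T 6 = 0 ∧ T 7 = 0)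
    (c : Subgroup.centralizer ({t} : Set G)) (hc : ¬ Special (D.π c)) : tcD D T c = 0 := by
  show T (cls (D.π c)) = 0
  by_cases e0 : cls (D.π c) = 0
  · rw [e0]; exact h0.1
  by_cases e6 : cls (D.π c) = 6
  · rw [e6]; exact h0.2.1
  by_cases e7 : cls (D.π c) = 7
  · rw [e7]; exact h0.2.2
  exact absurd ⟨e0, e6, e7⟩ hc

theorem indFun_tcD (D : Cover t) (ht : orderOf t = 2) {T : Fin 8 → ℂ}
    (h0 : T 0 = 0 ∧ T 6 = 0 ∧ T 7 = 0)
    (hcf : Cfsg.IsClassFunction (Subgroup.centralizer ({t} : Set G)) (tcD D T))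
    (c : Subgroup.centralizer ({t} : Set G)) (hc : Special (D.π c)) :
    Cfsg.indFun (Subgroup.centralizer ({t} : Set G)) (tcD D T) (c : G) = tcD D T c := by
  classical
  have hterm : ∀ x : G,
      Cfsg.extendByZero (Subgroup.centralizer ({t} : Set G)) (tcD D T) (x⁻¹ * c * x) =
      if x ∈ (Subgroup.centralizer ({t} : Set G)) then tcD D T c else 0 := fun x => by
    rw [extendByZero_eq]
    by_cases hm : x⁻¹ * (c : G) * x ∈ (Subgroup.centralizer ({t} : Set G))
    · rw [dif_pos hm]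
      by_cases hx : x ∈ (Subgroup.centralizer ({t} : Set G))
      · rw [if_pos hx]
        have h := hcf c ⟨x, hx⟩⁻¹
        rw [inv_inv] at h
        rw [← h]
        rfl
      · rw [if_neg hx]
        set v : (Subgroup.centralizer ({t} : Set G)) := ⟨x⁻¹ * c * x, hm⟩ with hv
        by_contra hne
        refine hx (D.conj_mem ht (c := v) (d := c) ?_ ?_ hc)
        · show x * (x⁻¹ * c * x) * x⁻¹ = c
          group
        · by_contra hs
          exact hne (tcD_eq_zero D h0 v hs)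
    · rw [dif_neg hm]
      by_cases hx : x ∈ (Subgroup.centralizer ({t} : Set G))
      · exact absurd ((Subgroup.centralizer ({t} : Set G)).mul_mem ((Subgroup.centralizer ({t} : Set G)).mul_mem ((Subgroup.centralizer ({t} : Set G)).inv_mem hx) c.2) hx) hm
      · rw [if_neg hx]
  rw [indFun_def, Finset.sum_congr rfl fun x _ => hterm x, ← Finset.sum_filter, Finset.sum_const,
    nsmul_eq_mul]
  have hcard : (univ.filter fun x : G => x ∈ (Subgroup.centralizer ({t} : Set G))).card =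
      Nat.card (Subgroup.centralizer ({t} : Set G)) := by
    rw [Nat.card_eq_fintype_card, Fintype.card_subtype]
  rw [hcard]
  exact inv_mul_cancel_left₀ (Nat.cast_ne_zero.2 Nat.card_pos.ne') _

/-- Averages over the centraliser are averages over `GL₂(3)`. -/
theorem avg_comp (D : Cover t) [Fintype (Subgroup.centralizer ({t} : Set G))] (F : Mat → ℂ) :
    (Nat.card (Subgroup.centralizer ({t} : Set G)) : ℂ)⁻¹ * ∑ c, F (D.π c) =
      (48 : ℂ)⁻¹ * ∑ x, F x := by
  have hn : (Nat.card D.π.ker : ℂ) ≠ 0 := Nat.cast_ne_zero.2 Nat.card_pos.ne'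
  rw [D.sum_comp, D.card_centralizer, Nat.cast_mul, mul_inv, ← mul_assoc, mul_assoc (_⁻¹) (_⁻¹),
    inv_mul_cancel₀ hn, mul_one]
  norm_num

theorem avg_cls (F : Fin 8 → ℂ) :
    (48 : ℂ)⁻¹ * ∑ x : Mat, F (cls x) = (48 : ℂ)⁻¹ * ∑ i, (csize i : ℂ) * F i := by
  congr 1
  refine (sum_cls F).trans ?_
  simp only [nsmul_eq_mul]

theorem classInner_tcD (D : Cover t) (ht : orderOf t = 2) {T S : Fin 8 → ℂ}
    (hT : T 0 = 0 ∧ T 6 = 0 ∧ T 7 = 0) (hS : S 0 = 0 ∧ S 6 = 0 ∧ S 7 = 0)
    (hScf : Cfsg.IsClassFunction (Subgroup.centralizer ({t} : Set G)) (tcD D S)) :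
    Cfsg.classInner (Cfsg.indFun (Subgroup.centralizer ({t} : Set G)) (tcD D T))
      (Cfsg.indFun (Subgroup.centralizer ({t} : Set G)) (tcD D S)) = tinner T S := by
  classical
  haveI : Fintype (Subgroup.centralizer ({t} : Set G)) :=
    Fintype.ofFinite (Subgroup.centralizer ({t} : Set G))
  rw [classInner_indFun _ (isClassFunction_indFun _ _), classInner_def, tinner,
    ← avg_cls (fun i => T i * conj (S i)), ← avg_comp D (fun x => T (cls x) * conj (S (cls x)))]
  congr 1
  refine Finset.sum_congr rfl fun c _ => ?_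
  show T (cls (D.π c)) * conj (Cfsg.indFun (Subgroup.centralizer ({t} : Set G)) (tcD D S) (c : G)) = _
  by_cases hc : Special (D.π c)
  · rw [indFun_tcD D ht hS hScf c hc]
    rfl
  · have : T (cls (D.π c)) = 0 := tcD_eq_zero D hT c hc
    rw [this, zero_mul, zero_mul]

theorem isGen_tcD (D : Cover t) (k : Fin 5) :
    Cfsg.IsGeneralizedCharacter (Subgroup.centralizer ({t} : Set G)) (tcD D (tab k)) := by
  have h : Cfsg.IsGeneralizedCharacter Mat (fun g => tab k (cls g)) := by
    fin_cases k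
    exacts [isGen_beta, isGen_gamma, isGen_delta, isGen_eta, isGen_eta']
  exact IsGeneralized.comp h D.π

end CfsgLib.WongThree
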