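import Cfsg.Agent.WongThree.FortyEightTop
import Cfsg.Agent.Criterion.TransferFull

/-!
# Point stabilisers `S₄ × C₂`: the subgroup of index two

The group `T` is a Sylow subgroup of order 32, the fully centralised conjugates of `t` in it are `t` and
`t z`, so the transfer to `T / T'` does not kill `t`: there is a normal subgroup of index two without
`t`, meeting the stabiliser in `S₄`.
-/

set_option autoImplicit false
set_option linter.unusedSectionVars false
set_option linter.style.haveILetI false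

namespace CfsgLib.WongThree

open Subgroup

universe u

variable {G : Type u} [Group G] [Finite G]

namespace Frame48

variable {H : Subgroup G} (F : Frame48 H)

include F

theorem conj_t {w : G} (hw : w ∈ F.T) : w * F.t * w⁻¹ = F.t ∨ w * F.t * w⁻¹ = F.t * F.z := by
  rcases hw with h | h
  · exact Or.inl (by rw [(F.tc (F.le h)).eq, mul_inv_cancel_right])
  · refine Or.inr ?_
    rw [show w * F.t * w⁻¹ = F.g * (F.g⁻¹ * w * F.t * (F.g⁻¹ * w)⁻¹) * F.g⁻¹ by group,
      (F.tc (F.le h)).eq, mul_inv_cancel_right, F.g_t]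

theorem T_inf_H {w : G} (hw : w ∈ F.T) (hwH : w ∈ H) : w ∈ F.C := by
  refine hw.resolve_right fun h => F.g_not ?_
  have := mul_mem hwH (inv_mem (F.le h))
  rwa [mul_inv_rev, inv_inv, mul_inv_cancel_left] at this

theorem card_T_le : Nat.card F.T ≤ 32 := by
  classical
  have hf : Function.Injective (fun x : F.T =>
      if h : (x : G) ∈ F.C then ((⟨x, h⟩ : F.C), true)
      else ((⟨F.g⁻¹ * x, x.2.resolve_left h⟩ : F.C), false)) := fun x y h => by
    simp only at h
    split_ifs at h <;> simp only [Prod.mk.injEq, Subtype.mk.injEq, and_true, Bool.true_eq_false,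
      Bool.false_eq_true, and_false] at h
    · exact Subtype.ext h
    · exact Subtype.ext (mul_left_cancel h)
  refine (Nat.card_le_card_of_injective _ hf).trans (le_of_eq ?_)
  rw [Nat.card_prod, F.card_C, Nat.card_eq_fintype_card (α := Bool), Fintype.card_bool]

theorem lt_card_T : 16 < Nat.card F.T := by
  rw [← F.card_C]
  refine lt_of_not_ge fun h => F.g_not (F.le ?_)
  exact (eq_of_le_of_card_ge F.C_le_T h).ge F.g_mem_T

theorem card_centralizer_conj (x : G) :
    Nat.card (centralizer ({x * F.t * x⁻¹} : Set G)) = 48 := by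
  have e : centralizer ({x * F.t * x⁻¹} : Set G) = H.map (MulAut.conj x).toMonoidHom := by
    ext y
    rw [mem_map_equiv, MulAut.conj_symm_apply, mem_centralizer_singleton_iff]
    refine Iff.trans ?_ (mem_centralizer_singleton_iff.symm.trans (SetLike.ext_iff.1 F.cent_t _))
    constructor <;> intro h
    · calc x⁻¹ * y * x * F.t = x⁻¹ * (y * (x * F.t * x⁻¹)) * x := by group
        _ = x⁻¹ * (x * F.t * x⁻¹ * y) * x := by rw [h]
        _ = _ := by group
    · calc y * (x * F.t * x⁻¹) = x * (x⁻¹ * y * x * F.t) * x⁻¹ := by group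
        _ = x * (F.t * (x⁻¹ * y * x)) * x⁻¹ := by rw [h]
        _ = _ := by group
  rw [e, card_map_of_injective (MulAut.conj x).injective, F.card_H]

/-- `t` is not conjugate to `z`. -/
theorem conj_ne_z (x : G) : x * F.t * x⁻¹ ≠ F.z := fun e => by
  have hle : F.T ≤ centralizer ({F.z} : Set G) := fun w hw => mem_centralizer_singleton_iff.2 (by
    rcases hw with h | h
    · exact (F.zc w h).eq
    · have h1 : Commute (F.g * (F.g⁻¹ * w)) F.z :=
        (show Commute F.g F.z from mul_inv_eq_iff_eq_mul.1 F.g_z).mul_left (F.zc _ h)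
      rwa [mul_inv_cancel_left] at h1)
  have hd := card_dvd_of_le hle
  rw [← e, F.card_centralizer_conj] at hd
  haveI : Fact (Nat.Prime 2) := ⟨Nat.prime_two⟩
  obtain ⟨k, hk⟩ := IsPGroup.iff_card.1 F.two_T
  have h16 := F.lt_card_T
  rw [hk] at hd h16
  have h5 : 5 ≤ k := by
    by_contra h
    have := Nat.pow_le_pow_right (show 0 < 2 by norm_num) (show k ≤ 4 by omega)
    norm_num at this
    omega
  have := (pow_dvd_pow 2 h5).trans hd
  norm_num at this

variable (P : Prim H)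
include P

theorem eq_t_of_comm {x : G} (hy : x * F.t * x⁻¹ ∈ F.T)
    (hc : ∀ w ∈ F.T, Commute (w * (x * F.t * x⁻¹) * w⁻¹) (x * F.t * x⁻¹)) :
    x * F.t * x⁻¹ = F.t ∨ x * F.t * x⁻¹ = F.t * F.z := by
  have hyy : x * F.t * x⁻¹ * (x * F.t * x⁻¹) = 1 := by
    rw [show x * F.t * x⁻¹ * (x * F.t * x⁻¹) = x * (F.t * F.t) * x⁻¹ by group, F.tt]; group
  rcases F.eq_of_comm P hy hyy hc with h | h | h | h
  · exact absurd (conj_eq_one_iff.1 h) F.t_ne
  · exact absurd h (F.conj_ne_z x)
  · exact Or.inl h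
  · exact Or.inr h

/-- **`T` is a Sylow subgroup.** -/
theorem exists_sylow : ∃ S : Sylow 2 G, (S : Subgroup G) = F.T := by
  haveI : Fact (Nat.Prime 2) := ⟨Nat.prime_two⟩
  obtain ⟨S, hS⟩ := F.two_T.exists_le_sylow
  refine ⟨S, ?_⟩
  by_contra hne
  haveI : Group.IsNilpotent ↥(S : Subgroup G) := S.isPGroup'.isNilpotent
  set T₀ := F.T.subgroupOf (S : Subgroup G)
  have hlt : T₀ < ⊤ := lt_top_iff_ne_top.2 fun h => hne (le_antisymm (subgroupOf_eq_top.1 h) hS)
  obtain ⟨⟨x, hxS⟩, hx, hxT⟩ := SetLike.exists_of_lt (Group.normalizerCondition_of_isNilpotent T₀ hlt)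
  have hn : ∀ w ∈ F.T, x * w * x⁻¹ ∈ F.T := fun w hw =>
    (mem_normalizer_iff.1 hx ⟨w, hS hw⟩).1 hw
  have hn' : ∀ w ∈ F.T, x⁻¹ * w * x ∈ F.T := fun w hw => by
    have h1 : x⁻¹ * w * x⁻¹⁻¹ ∈ F.T := (mem_normalizer_iff.1 (inv_mem hx) ⟨w, hS hw⟩).1 hw
    rwa [inv_inv] at h1
  have hy := F.eq_t_of_comm P (hn _ (F.C_le_T F.t_mem)) fun w hw => by
    have h1 : Commute (x⁻¹ * w * x * F.t * (x⁻¹ * w * x)⁻¹) F.t := by
      rcases F.conj_t (hn' w hw) with e | e <;> rw [e]
      exact (Commute.refl F.t).mul_left (F.tc (F.le F.z_mem))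
    have h2 := (Commute.conj_iff x).2 h1
    rwa [show x * (x⁻¹ * w * x * F.t * (x⁻¹ * w * x)⁻¹) * x⁻¹ = w * (x * F.t * x⁻¹) * w⁻¹ by group]
      at h2
  -- such an element normalises `C`
  have hfix : ∀ x' : G, x' * F.t * x'⁻¹ = F.t → (∀ w ∈ F.T, x' * w * x'⁻¹ ∈ F.T) → x' ∈ F.C := by
    intro x' he hn''
    have hxH : x' ∈ H := F.cent_t.le (mem_centralizer_singleton_iff.2 (mul_inv_eq_iff_eq_mul.1 he))
    exact F.mem_C hxH fun c hc => F.T_inf_H (hn'' c (F.C_le_T hc))
      (mul_mem (mul_mem hxH (F.le hc)) (inv_mem hxH))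
  apply hxT
  rcases hy with e | e
  · exact F.C_le_T (hfix x e hn)
  · have hg' : F.g⁻¹ * (F.t * F.z) * F.g = F.t := by rw [← F.g_t]; group
    have h1 := hfix (F.g⁻¹ * x) (by
      rw [show F.g⁻¹ * x * F.t * (F.g⁻¹ * x)⁻¹ = F.g⁻¹ * (x * F.t * x⁻¹) * F.g by group, e, hg'])
      fun w hw => by
        have h2 := mul_mem (mul_mem (inv_mem F.g_mem_T) (hn w hw)) F.g_mem_T
        rwa [show F.g⁻¹ * (x * w * x⁻¹) * F.g = F.g⁻¹ * x * w * (F.g⁻¹ * x)⁻¹ by group] at h2
    exact Or.inr h1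

/-- A fully centralised conjugate of `t` in `T` is `t` or `t z`. -/
theorem full_conj {x : G} (hy : x * F.t * x⁻¹ ∈ F.T)
    (hodd : Odd (F.T.relIndex (centralizer ({x * F.t * x⁻¹} : Set G)))) :
    x * F.t * x⁻¹ = F.t ∨ x * F.t * x⁻¹ = F.t * F.z := by
  set y := x * F.t * x⁻¹ with hydef
  set Z := F.T ⊓ centralizer ({y} : Set G) with hZ
  have h1 : Nat.card Z * F.T.relIndex (centralizer ({y} : Set G)) = 48 := by
    rw [← F.card_centralizer_conj x, ← hydef, ← inf_relIndex_right, ← relIndex_bot_left,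
      ← relIndex_bot_left (centralizer ({y} : Set G))]
    exact relIndex_mul_relIndex _ _ _ bot_le inf_le_right
  have h16 : 16 ∣ Nat.card Z := by
    refine (Nat.Coprime.pow_left 4 (Nat.coprime_two_left.2 hodd)).dvd_of_dvd_mul_right ?_
    rw [h1]; norm_num
  have h2 : Nat.card Z * Z.relIndex F.T = Nat.card F.T := by
    rw [← relIndex_bot_left, ← relIndex_bot_left F.T]
    exact relIndex_mul_relIndex _ _ _ bot_le inf_le_left
  have hidx : Z.relIndex F.T ≤ 2 := by
    have := Nat.le_of_dvd Nat.card_pos h16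
    have h32 := F.card_T_le
    nlinarith
  have hnorm : (Z.subgroupOf F.T).Normal := by
    have h0 : (Z.subgroupOf F.T).index ≠ 0 := index_ne_zero_of_finite
    rcases (show (Z.subgroupOf F.T).index = 1 ∨ (Z.subgroupOf F.T).index = 2 by
      have : (Z.subgroupOf F.T).index ≤ 2 := hidx
      omega) with h | h
    · rw [index_eq_one] at h
      rw [h]; infer_instance
    · exact Subgroup.normal_of_index_eq_two h
  refine F.eq_t_of_comm P hy fun w hw => ?_
  have hyZ : (⟨y, hy⟩ : F.T) ∈ Z.subgroupOf F.T :=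
    mem_inf.2 ⟨hy, mem_centralizer_singleton_iff.2 rfl⟩
  have h3 := hnorm.conj_mem _ hyZ ⟨w, hw⟩
  exact mem_centralizer_singleton_iff.1 (mem_inf.1 h3).2

/-- **The subgroup of index two.** -/
theorem exists_index_two : ∃ N : Subgroup G, N.Normal ∧ N.index = 2 ∧ F.t ∉ N ∧
    centralizer (N : Set G) = ⊥ ∧ ¬ Group.IsSolvable N ∧
    (∀ h ∈ H, h ∈ N → (∀ k ∈ H, Commute h k) → h = 1) := by
  classical
  haveI : Fact (Nat.Prime 2) := ⟨Nat.prime_two⟩
  obtain ⟨S, hS⟩ := F.exists_sylow P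
  let φ : ↥(S : Subgroup G) →* Abelianization ↥(S : Subgroup G) := Abelianization.of
  have htS : F.t ∈ (S : Subgroup G) := hS ▸ F.C_le_T F.t_mem
  set c := φ ⟨F.t, htS⟩ with hc
  have hcc : c * c = 1 := by rw [hc, ← map_mul, show (⟨F.t, htS⟩ : ↥(S : Subgroup G)) * ⟨F.t, htS⟩ = 1
    from Subtype.ext F.tt, map_one]
  have hc1 : c ≠ 1 := fun h => F.t_not_L P (by
    have h1 : (⟨F.t, htS⟩ : ↥(S : Subgroup G)) ∈ commutator ↥(S : Subgroup G) :=
      (QuotientGroup.eq_one_iff _).1 h
    have h2 : commutator ↥(S : Subgroup G) ≤ (F.L P).subgroupOf (S : Subgroup G) := by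
      rw [commutator_def, commutator_le]
      rintro ⟨a, ha⟩ - ⟨b, hb⟩ -
      rw [mem_subgroupOf, commutatorElement_def]
      exact F.comm_mem_L P (hS ▸ ha) (hS ▸ hb)
    exact h2 h1)
  have hfull : ∀ w : ↥(S : Subgroup G), IsConj F.t w →
      Odd ((S : Subgroup G).relIndex (centralizer ({(w : G)} : Set G))) → φ w = c := by
    rintro ⟨w, hw⟩ hconj hodd
    obtain ⟨x, hx⟩ := isConj_iff.1 hconj
    simp only at hx
    have hodd' : Odd (F.T.relIndex (centralizer ({x * F.t * x⁻¹} : Set G))) := by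
      rw [← hS, hx]; exact hodd
    rcases F.full_conj P (by rw [← hS, hx]; exact hw) hodd' with e | e
    · exact congrArg φ (Subtype.ext (hx.symm.trans e))
    · have hg : F.g ∈ (S : Subgroup G) := hS ▸ F.g_mem_T
      rw [show (⟨w, hw⟩ : ↥(S : Subgroup G)) = ⟨F.g, hg⟩ * ⟨F.t, htS⟩ * ⟨F.g, hg⟩⁻¹ from
        Subtype.ext (show w = F.g * F.t * F.g⁻¹ by rw [F.g_t, ← hx, e]), map_mul, map_mul, map_inv,
        mul_comm (φ ⟨F.g, hg⟩), mul_inv_cancel_right]
  set τ := MonoidHom.transfer φ with hτ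
  have ht : τ F.t = c := CfsgLib.Criterion.transfer_eq_of_full S φ F.tt hcc hfull
  have hker : τ.ker ≠ ⊥ := fun h => P.hsol (Group.isSolvable_of_comm fun a b =>
    ((MonoidHom.ker_eq_bot_iff τ).1 h) (by rw [map_mul, map_mul, mul_comm]))
  have hexp : ∀ a : G, τ a * τ a = 1 := by
    let K : Subgroup G :=
    { carrier := {a | τ a * τ a = 1}
      one_mem' := by simp
      mul_mem' := fun {a b} ha hb => by
        show τ (a * b) * τ (a * b) = 1
        rw [map_mul, mul_mul_mul_comm, ha, hb, one_mul]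
      inv_mem' := fun {a} ha => by
        show τ a⁻¹ * τ a⁻¹ = 1
        rw [map_inv, ← mul_inv, ha, inv_one] }
    have hH : H ≤ K := F.gen K fun h _ hh => by
      show τ h * τ h = 1
      rw [← map_mul, hh, map_one]
    have hK : τ.ker ⊔ H ≤ K := sup_le (fun a ha => by
      show τ a * τ a = 1
      rw [MonoidHom.mem_ker.1 ha, one_mul]) hH
    rw [P.sup_eq_top hker] at hK
    exact fun a => hK (mem_top a)
  -- a maximal subgroup without `t`
  obtain ⟨N, hN, hmax⟩ : ∃ N : Subgroup G, (τ.ker ≤ N ∧ F.t ∉ N) ∧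
      ∀ M : Subgroup G, τ.ker ≤ M ∧ F.t ∉ M → N ≤ M → N = M := by
    obtain ⟨N, hN⟩ := (Set.toFinite {M : Subgroup G | τ.ker ≤ M ∧ F.t ∉ M}).exists_maximal
      ⟨τ.ker, le_rfl, fun h => hc1 (ht.symm.trans (MonoidHom.mem_ker.1 h))⟩
    exact ⟨N, hN.1, fun M hM hle => le_antisymm hle (hN.2 hM hle)⟩
  haveI hNn : N.Normal := ⟨fun a ha b => by
    have h1 : b * a * b⁻¹ * a⁻¹ ∈ τ.ker := by
      rw [MonoidHom.mem_ker, map_mul, map_mul, map_mul, map_inv, map_inv, mul_comm (τ b),
        mul_inv_cancel_right, mul_inv_cancel]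
    have := mul_mem (hN.1 h1) ha
    rwa [inv_mul_cancel_right] at this⟩
  have hidx : N.index = 2 := by
    refine Subgroup.index_eq_two_iff.2 ⟨F.t, fun b => ?_⟩
    by_cases hb : b ∈ N
    · exact Or.inr ⟨hb, fun h => hN.2 (by simpa using mul_mem (inv_mem hb) h)⟩
    · refine Or.inl ⟨?_, hb⟩
      set M := N ⊔ zpowers b with hM
      have htM : F.t ∈ M := by
        by_contra h
        exact hb ((hmax M ⟨hN.1.trans le_sup_left, h⟩ le_sup_left).ge
          (mem_sup_right (mem_zpowers b)))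
      obtain ⟨n, hn, k, hk, hnk⟩ := mem_sup_of_normal_left.1 htM
      obtain ⟨i, rfl⟩ := mem_zpowers_iff.1 hk
      rcases Int.even_or_odd' i with ⟨j, rfl | rfl⟩
      · exfalso
        refine hN.2 ?_
        rw [← hnk]
        refine mul_mem hn (hN.1 ?_)
        rw [MonoidHom.mem_ker, zpow_mul, zpow_two, map_zpow, map_mul, hexp, one_zpow]
      · have h1 : b * b ^ (2 * j + 1) ∈ N := hN.1 (by
          rw [MonoidHom.mem_ker, map_mul, map_zpow, zpow_add_one, zpow_mul, zpow_two, hexp, one_zpow,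
            one_mul, hexp])
        have h2 := mul_mem (hNn.conj_mem n hn b) h1
        rwa [show b * n * b⁻¹ * (b * b ^ (2 * j + 1)) = b * (n * b ^ (2 * j + 1)) by group, hnk]
          at h2
  have hNsol : ¬ Group.IsSolvable N := fun h => by
    have hNb : N = ⊥ := P.eq_bot_of_solvable h
    have hker' := hN.1
    rw [hNb, le_bot_iff] at hker'
    exact hker hker'
  refine ⟨N, hNn, hidx, hN.2, ?_, hNsol, fun h hh hhN hall => ?_⟩
  · refine P.eq_bot_of_solvable ?_
    set Z := centralizer (N : Set G)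
    have hint : Z ⊓ N = ⊥ := P.eq_bot_of_solvable (Group.isSolvable_of_comm fun a b =>
      Subtype.ext (mem_centralizer_iff.1 (mem_inf.1 b.2).1 a (mem_inf.1 a.2).2))
    refine Group.isSolvable_of_comm fun a b => ?_
    have hf : Function.Injective ((QuotientGroup.mk' N).comp Z.subtype) := by
      refine (injective_iff_map_eq_one _).2 fun d hd => Subtype.ext ?_
      have : (d : G) ∈ Z ⊓ N := ⟨d.2, (QuotientGroup.eq_one_iff _).1 hd⟩
      rwa [hint, mem_bot] at this
    refine hf ?_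
    rw [map_mul, map_mul]
    haveI : Fact (Nat.Prime 2) := ⟨Nat.prime_two⟩
    haveI : IsCyclic (G ⧸ N) := isCyclic_of_prime_card (p := 2) (by rw [← index_eq_card, hidx])
    exact IsCyclic.isMulCommutative.is_comm.comm _ _
  · have hhC : h ∈ F.C := F.cent_z h hh (hall _ (F.le F.z_mem))
    obtain ⟨w, hw, hwz⟩ := F.conj_zu
    rcases F.central h hhC fun d hd => hall d (F.le hd) with e | e | e | e
    · exact e
    · exfalso
      rw [e] at hall
      exact F.u_ne.2.1 (hwz.symm.trans (by rw [← (hall w hw).eq, mul_inv_cancel_right]))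
    · exact absurd (e ▸ hhN) hN.2
    · exfalso
      have hz : Commute F.z w := by
        have h1 := (F.tc hw).symm.mul_left (e ▸ hall w hw)
        rwa [← mul_assoc, F.tt, one_mul] at h1
      exact F.u_ne.2.1 (hwz.symm.trans (by rw [← hz.eq, mul_inv_cancel_right]))

end Frame48

/-- **Stabilisers `S₄ × C₂`**: a normal subgroup of index two with trivial centraliser, insoluble, meeting
the stabiliser in `S₄`, and an involution outside it with centraliser the stabiliser. -/
theorem forty_eight_reduce {H : Subgroup G} (P : Prim H)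
    (e : H ≃* Equiv.Perm (Fin 4) × Multiplicative (ZMod 2)) {C : Subgroup G} (hCH : C ≤ H)
    (hC : 3 * Nat.card C = Nat.card H) {g : G} (hg : g ∈ normalizer (C : Set G)) (hgH : g ∉ H) :
    ∃ (N : Subgroup G) (t : G), N.Normal ∧ N.index = 2 ∧ centralizer (N : Set G) = ⊥ ∧
      ¬ Group.IsSolvable N ∧ t * t = 1 ∧ t ∉ N ∧ centralizer ({t} : Set G) = H ∧
      Nonempty (↥(H ⊓ N) ≃* Equiv.Perm (Fin 4)) := by
  classical
  obtain ⟨F⟩ := exists_frame48 P e hCH hC hg hgH
  obtain ⟨N, hN, hidx, htN, hcN, hsol, hcen⟩ := F.exists_index_two P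
  refine ⟨N, F.t, hN, hidx, hcN, hsol, F.tt, htN, F.cent_t, ?_⟩
  let f : ↥(H ⊓ N) →* Equiv.Perm (Fin 4) :=
    ((MonoidHom.fst _ _).comp e.toMonoidHom).comp (Subgroup.inclusion inf_le_left)
  have hinj : Function.Injective f := by
    refine (injective_iff_map_eq_one f).2 fun x hx => Subtype.ext ?_
    refine hcen x (mem_inf.1 x.2).1 (mem_inf.1 x.2).2 fun k hk => ?_
    have h0 : (e (Subgroup.inclusion inf_le_left x)).1 = 1 := hx
    have h1 : Commute (e (Subgroup.inclusion inf_le_left x)) (e ⟨k, hk⟩) :=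
      Prod.ext (by rw [Prod.fst_mul, Prod.fst_mul, h0, one_mul, mul_one]) (mul_comm _ _)
    exact congrArg Subtype.val (e.injective (by rw [map_mul, map_mul]; exact h1.eq) :
      Subgroup.inclusion inf_le_left x * ⟨k, hk⟩ = ⟨k, hk⟩ * Subgroup.inclusion inf_le_left x)
  have hcard : Nat.card ↥(H ⊓ N) = 24 := by
    have h1 : Nat.card ↥(H ⊓ N) * N.relIndex H = 48 := by
      rw [← F.card_H, inf_comm, ← inf_relIndex_right, ← relIndex_bot_left, ← relIndex_bot_left H]
      exact relIndex_mul_relIndex _ _ _ bot_le inf_le_right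
    have h2 : N.relIndex H ∣ 2 := hidx ▸ N.relIndex_dvd_index_of_normal H
    have h3 : N.relIndex H ≠ 1 := fun h => htN (relIndex_eq_one.1 h (F.le F.t_mem))
    rcases (Nat.dvd_prime Nat.prime_two).1 h2 with h | h
    · exact absurd h h3
    · rw [h] at h1; omega
  exact ⟨MulEquiv.ofBijective f ((Nat.bijective_iff_injective_and_card _).2
    ⟨hinj, by rw [hcard, Nat.card_perm, Nat.card_fin]; rfl⟩)⟩

end CfsgLib.WongThree
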