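import Cfsg.Agent.WongThree.Basic
import Mathlib.GroupTheory.Perm.Sign

/-!
# Point stabilisers `S₄ × C₂`: the frame

For a point stabiliser `H ≅ S₄ × C₂` with a moved two-point stabiliser `C` the facts about `C` used in
the transfer argument are read off in `S₄`.
-/

set_option autoImplicit false
set_option linter.unusedSectionVars false
set_option linter.style.haveILetI false

namespace CfsgLib.WongThree

open Subgroup

universe u

namespace S4Facts

open Equiv

/-- The double transposition fixed by the chosen Sylow subgroup of `S₄`. -/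
abbrev zP : Perm (Fin 4) := swap 0 2 * swap 1 3

/-- A second double transposition. -/
abbrev uP : Perm (Fin 4) := swap 0 1 * swap 2 3

theorem sq : ∀ σ : Perm (Fin 4), σ * zP = zP * σ → σ * σ = 1 ∨ σ * σ = zP := by decide

theorem comm : ∀ σ : Perm (Fin 4), σ * zP = zP * σ → ∀ τ : Perm (Fin 4), τ * zP = zP * τ →
    σ * τ * σ⁻¹ * τ⁻¹ = 1 ∨ σ * τ * σ⁻¹ * τ⁻¹ = zP := by decide +kernel

theorem central : ∀ σ : Perm (Fin 4), σ * zP = zP * σ →
    (∀ τ : Perm (Fin 4), τ * zP = zP * τ → σ * τ = τ * σ) → σ = 1 ∨ σ = zP := by decide +kernel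

theorem four : ∀ σ : Perm (Fin 4), σ * zP = zP * σ → σ * uP = uP * σ →
    (σ = 1 ∨ σ = zP) ∨ (σ * uP = 1 ∨ σ * uP = zP) := by decide

theorem four_normal : ∀ π σ : Perm (Fin 4), σ * zP = zP * σ → σ * uP = uP * σ →
    π * σ * π⁻¹ * zP = zP * (π * σ * π⁻¹) ∧ π * σ * π⁻¹ * uP = uP * (π * σ * π⁻¹) := by decide +kernel

theorem card_centralizer : Fintype.card {σ : Perm (Fin 4) // σ * zP = zP * σ} = 8 := by decide +kernel

theorem conj : ∃ π : Perm (Fin 4), π * zP * π⁻¹ = uP := by decide +kernel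

theorem root : ∃ r : Perm (Fin 4), r * zP = zP * r ∧ r * r = zP := by decide +kernel

theorem uP_facts : uP * zP = zP * uP ∧ uP * uP = 1 ∧ uP ≠ 1 ∧ uP ≠ zP ∧ zP * zP = 1 ∧ zP ≠ 1 := by
  decide

/-- `S₄` is generated by its involutions. -/
theorem gen (K : Subgroup (Perm (Fin 4))) (h : ∀ σ : Perm (Fin 4), σ * σ = 1 → σ ∈ K) : K = ⊤ := by
  refine eq_top_iff.2 fun σ h' => ?_
  clear h'
  induction σ using Equiv.Perm.swap_induction_on with
  | one => exact one_mem K
  | swap_mul f x y _ ih => exact mul_mem (h _ (Equiv.swap_mul_self x y)) ih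

end S4Facts

variable {G : Type u} [Group G]

/-- The data of a stabiliser `S₄ × C₂` with an element normalising its Sylow subgroup `C` from
outside: `C` is the centraliser of `z` in the stabiliser, `t` is central there. -/
structure Frame48 (H : Subgroup G) where
  /-- The Sylow subgroup. -/
  C : Subgroup G
  /-- The element outside. -/
  g : G
  /-- The central involution. -/
  t : G
  /-- The square in `C`. -/
  z : G
  /-- The second double transposition. -/
  u : G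
  /-- A root of `z`. -/
  r : G
  le : C ≤ H
  t_mem : t ∈ C
  z_mem : z ∈ C
  u_mem : u ∈ C
  r_mem : r ∈ C
  cent_t : centralizer ({t} : Set G) = H
  cent_z : ∀ h ∈ H, Commute h z → h ∈ C
  tt : t * t = 1
  zz : z * z = 1
  uu : u * u = 1
  rr : r * r = z
  t_ne : t ≠ 1
  z_ne : z ≠ 1
  tz_ne : t ≠ z
  u_ne : u ≠ 1 ∧ u ≠ z ∧ u ≠ t ∧ u ≠ t * z
  zc : ∀ c ∈ C, Commute c z
  sq : ∀ c ∈ C, c * c = 1 ∨ c * c = z
  comm : ∀ c ∈ C, ∀ d ∈ C, c * d * c⁻¹ * d⁻¹ = 1 ∨ c * d * c⁻¹ * d⁻¹ = z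
  central : ∀ c ∈ C, (∀ d ∈ C, Commute c d) → c = 1 ∨ c = z ∨ c = t ∨ c = t * z
  cent_u : ∀ c ∈ C, Commute c u → (c = 1 ∨ c = z ∨ c = t ∨ c = t * z) ∨
    (c * u = 1 ∨ c * u = z ∨ c * u = t ∨ c * u = t * z)
  four_normal : ∀ h ∈ H, ∀ c ∈ C, Commute c u → h * c * h⁻¹ ∈ C ∧ Commute (h * c * h⁻¹) u
  conj_zu : ∃ h ∈ H, h * z * h⁻¹ = u
  gen : ∀ K : Subgroup G, (∀ h ∈ H, h * h = 1 → h ∈ K) → H ≤ K
  g_norm : ∀ c ∈ C, g * c * g⁻¹ ∈ C
  g_not : g ∉ H
  card_H : Nat.card H = 48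
  card_C : Nat.card C = 16

/-- The abstract model of the stabiliser. -/
abbrev W48 : Type := Equiv.Perm (Fin 4) × Multiplicative (ZMod 2)

theorem mult_two : ∀ a : Multiplicative (ZMod 2), a = 1 ∨ a = Multiplicative.ofAdd 1 := by decide

/-- The chosen Sylow subgroup of the model. -/
def Q48 : Subgroup W48 := centralizer ({(S4Facts.zP, 1)} : Set W48)

theorem mem_Q48 {w : W48} : w ∈ Q48 ↔ w.1 * S4Facts.zP = S4Facts.zP * w.1 := by
  rw [Q48, mem_centralizer_singleton_iff]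
  exact ⟨fun h => congrArg Prod.fst h,
    fun h => Prod.ext h (show w.2 * 1 = 1 * w.2 by rw [mul_one, one_mul])⟩

theorem card_Q48 : Nat.card Q48 = 16 := by
  have e : ↥Q48 ≃ {σ : Equiv.Perm (Fin 4) // σ * S4Facts.zP = S4Facts.zP * σ} × Multiplicative (ZMod 2) :=
    { toFun := fun w => (⟨w.1.1, mem_Q48.1 w.2⟩, w.1.2)
      invFun := fun p => ⟨(p.1.1, p.2), mem_Q48.2 p.1.2⟩
      left_inv := fun _ => rfl
      right_inv := fun _ => rfl }
  rw [Nat.card_congr e, Nat.card_prod, Nat.card_eq_fintype_card, S4Facts.card_centralizer,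
    Nat.card_eq_fintype_card]
  rfl

theorem card_W48 : Nat.card W48 = 48 := by
  rw [Nat.card_prod, Nat.card_perm, Nat.card_fin, Nat.card_eq_fintype_card]
  rfl

variable [Finite G]

/-- The model can be chosen to carry a given subgroup of order `16` onto the chosen one. -/
theorem exists_iso48 {H C : Subgroup G} (e : H ≃* W48) (hCH : C ≤ H) (hC : Nat.card C = 16) :
    ∃ f : H ≃* W48, ∀ h : H, (h : G) ∈ C ↔ f h ∈ Q48 := by
  haveI : Fact (Nat.Prime 2) := ⟨Nat.prime_two⟩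
  have hfac : (Nat.card W48).factorization 2 = 4 := by
    rw [card_W48, show (48 : ℕ) = 2 ^ 4 * 3 by norm_num,
      Nat.factorization_mul (by norm_num) (by norm_num), Finsupp.add_apply,
      Nat.Prime.factorization_pow Nat.prime_two, Finsupp.single_eq_same,
      Nat.factorization_eq_zero_of_not_dvd (by norm_num)]
  set C' := (C.subgroupOf H).map e.toMonoidHom with hC'
  let P1 : Sylow 2 W48 := Sylow.ofCard C' (by
    rw [hC', card_map_of_injective e.injective, Nat.card_congr (subgroupOfEquivOfLe hCH).toEquiv,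
      hC, hfac]; norm_num)
  let P2 : Sylow 2 W48 := Sylow.ofCard Q48 (by rw [card_Q48, hfac]; norm_num)
  obtain ⟨w, hw⟩ := MulAction.exists_smul_eq W48 P1 P2
  have h1 : C'.map (MulAut.conj w).toMonoidHom = Q48 := by
    have h0 : (P2 : Subgroup W48) = Q48 := Sylow.coe_ofCard _ _
    rw [← hw, Sylow.coe_subgroup_smul, Sylow.coe_ofCard] at h0
    exact h0
  refine ⟨e.trans (MulAut.conj w), fun h => ?_⟩
  rw [← h1, hC', ← mem_subgroupOf]
  constructor
  · exact fun hh => ⟨e h, ⟨h, hh, rfl⟩, rfl⟩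
  · rintro ⟨_, ⟨h', hh', rfl⟩, e'⟩
    rwa [← e.injective ((MulAut.conj w).injective e')]

/-- **The frame** of a stabiliser `S₄ × C₂`. -/
theorem exists_frame48 {H : Subgroup G} (P : Prim H) (e : H ≃* W48) {C : Subgroup G} (hCH : C ≤ H)
    (hC : 3 * Nat.card C = Nat.card H) {g : G} (hg : g ∈ normalizer (C : Set G)) (hgH : g ∉ H) :
    Nonempty (Frame48 H) := by
  have hH : Nat.card H = 48 := by rw [Nat.card_congr e.toEquiv, card_W48]
  obtain ⟨f, hf⟩ := exists_iso48 e hCH (by omega)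
  obtain ⟨hu1, hu2, hu3, hu4, hz2, hz1⟩ := S4Facts.uP_facts
  obtain ⟨rP, hr1, hr2⟩ := S4Facts.root
  obtain ⟨π, hπ⟩ := S4Facts.conj
  let j : W48 →* G := H.subtype.comp f.symm.toMonoidHom
  have hj : Function.Injective j := H.subtype_injective.comp f.symm.injective
  have hjH : ∀ w, j w ∈ H := fun w => (f.symm w).2
  have hjC : ∀ w, j w ∈ C ↔ w ∈ Q48 := fun w => by
    rw [show j w = ((f.symm w : H) : G) from rfl, hf, f.apply_symm_apply]
  have hjs : ∀ h ∈ H, ∃ w, j w = h := fun h hh => ⟨f ⟨h, hh⟩, by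
    show ((f.symm (f ⟨h, hh⟩) : H) : G) = h
    rw [f.symm_apply_apply]⟩
  have hjc : ∀ w w', Commute (j w) (j w') ↔ Commute w w' := fun w w' =>
    ⟨fun h => hj (by rw [map_mul, map_mul]; exact h.eq), fun h => h.map j⟩
  set c := Multiplicative.ofAdd (1 : ZMod 2) with hc
  have hc1 : c ≠ 1 := by decide
  have hc2 : c * c = 1 := by decide
  set tW : W48 := (1, c) with htW
  set zW : W48 := (S4Facts.zP, 1) with hzW
  have htcen : ∀ w : W48, Commute w tW := fun w =>
    Prod.ext (show w.1 * 1 = 1 * w.1 by rw [mul_one, one_mul]) (mul_comm _ _)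
  have hpair : ∀ w : W48, w.1 = 1 ∨ w.1 = S4Facts.zP →
      j w = 1 ∨ j w = j zW ∨ j w = j tW ∨ j w = j tW * j zW := by
    rintro ⟨σ, a⟩ hσ
    rw [← map_mul, show (1 : G) = j 1 from (map_one j).symm, hj.eq_iff, hj.eq_iff, hj.eq_iff,
      hj.eq_iff]
    rcases hσ with rfl | rfl <;> rcases mult_two a with rfl | rfl
    · exact Or.inl rfl
    · exact Or.inr (Or.inr (Or.inl rfl))
    · exact Or.inr (Or.inl rfl)
    · exact Or.inr (Or.inr (Or.inr (Prod.ext (one_mul _).symm (mul_one _).symm)))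
  have hne : ∀ (w w' : W48), w.1 ≠ w'.1 → j w ≠ j w' := fun w w' h e => h (congrArg Prod.fst (hj e))
  refine ⟨{
    C := C, g := g, t := j tW, z := j zW, u := j (S4Facts.uP, 1), r := j (rP, 1),
    le := hCH, t_mem := (hjC _).2 (mem_Q48.2 (by rw [htW]; simp)),
    z_mem := (hjC _).2 (mem_Q48.2 rfl), u_mem := (hjC _).2 (mem_Q48.2 hu1),
    r_mem := (hjC _).2 (mem_Q48.2 hr1),
    cent_t := P.centralizer_singleton (hjH _) ?_ ?_,
    cent_z := ?_, tt := ?_, zz := ?_, uu := ?_, rr := ?_, t_ne := ?_, z_ne := ?_, tz_ne := ?_,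
    u_ne := ?_, zc := ?_, sq := ?_, comm := ?_, central := ?_, cent_u := ?_, four_normal := ?_,
    conj_zu := ?_, gen := ?_, g_norm := fun x hx => (mem_normalizer_iff.1 hg x).1 hx, g_not := hgH,
    card_H := hH, card_C := by omega }⟩
  · intro h; exact hc1 (congrArg Prod.snd (hj (h.trans (map_one j).symm)))
  · intro h hh; obtain ⟨w, rfl⟩ := hjs h hh; exact ((htcen w).map j).eq
  · intro h hh hcm; obtain ⟨w, rfl⟩ := hjs h hh
    exact (hjC w).2 (mem_Q48.2 (congrArg Prod.fst ((hjc _ _).1 hcm).eq))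
  · rw [← map_mul, show tW * tW = 1 from Prod.ext (one_mul _) hc2, map_one]
  · rw [← map_mul, show zW * zW = 1 from Prod.ext hz2 (one_mul _), map_one]
  · rw [← map_mul, show ((S4Facts.uP, 1) : W48) * (S4Facts.uP, 1) = 1 from Prod.ext hu2 (one_mul _),
      map_one]
  · rw [← map_mul, show ((rP, 1) : W48) * (rP, 1) = zW from Prod.ext hr2 (one_mul _)]
  · intro h; exact hc1 (congrArg Prod.snd (hj (h.trans (map_one j).symm)))
  · intro h; exact hz1 (congrArg Prod.fst (hj (h.trans (map_one j).symm)))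
  · exact hne _ _ hz1.symm
  · refine ⟨?_, hne _ _ hu4, hne _ _ hu3, ?_⟩
    · intro h; exact hu3 (congrArg Prod.fst (hj (h.trans (map_one j).symm)))
    · rw [← map_mul]; exact hne _ _ (by rw [Prod.fst_mul, htW, hzW, one_mul]; exact hu4)
  · intro x hx; obtain ⟨w, rfl⟩ := hjs x (hCH hx)
    exact (Commute.map (show Commute w zW from
      Prod.ext (mem_Q48.1 ((hjC w).1 hx)) (mul_comm _ _)) j)
  · intro x hx; obtain ⟨⟨σ, a⟩, rfl⟩ := hjs x (hCH hx)
    have ha : a * a = 1 := by rcases mult_two a with rfl | rfl <;> decide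
    rw [← map_mul, ← map_one j, hj.eq_iff, hj.eq_iff]
    rcases S4Facts.sq σ (mem_Q48.1 ((hjC _).1 hx)) with h | h
    · exact Or.inl (Prod.ext h ha)
    · exact Or.inr (Prod.ext h ha)
  · intro x hx y hy
    obtain ⟨⟨σ, a⟩, rfl⟩ := hjs x (hCH hx)
    obtain ⟨⟨τ, b⟩, rfl⟩ := hjs y (hCH hy)
    have hab : a * b * a⁻¹ * b⁻¹ = 1 := by rw [mul_right_comm a b, mul_inv_cancel, one_mul, mul_inv_cancel]
    rw [← map_inv, ← map_inv, ← map_mul, ← map_mul, ← map_mul, ← map_one j, hj.eq_iff, hj.eq_iff]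
    rcases S4Facts.comm σ (mem_Q48.1 ((hjC _).1 hx)) τ (mem_Q48.1 ((hjC _).1 hy)) with h | h
    · exact Or.inl (Prod.ext h hab)
    · exact Or.inr (Prod.ext h hab)
  · intro x hx hall; obtain ⟨w, rfl⟩ := hjs x (hCH hx)
    refine hpair w (S4Facts.central _ (mem_Q48.1 ((hjC w).1 hx)) fun τ hτ => ?_)
    exact congrArg Prod.fst ((hjc w (τ, 1)).1 (hall _ ((hjC _).2 (mem_Q48.2 hτ)))).eq
  · intro x hx hxu; obtain ⟨w, rfl⟩ := hjs x (hCH hx)
    rcases S4Facts.four _ (mem_Q48.1 ((hjC w).1 hx)) (congrArg Prod.fst ((hjc _ _).1 hxu).eq) with h | h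
    · exact Or.inl (hpair w h)
    · exact Or.inr (by rw [← map_mul]; exact hpair _ h)
  · intro h hh x hx hxu
    obtain ⟨p, rfl⟩ := hjs h hh
    obtain ⟨w, rfl⟩ := hjs x (hCH hx)
    have h1 := S4Facts.four_normal p.1 w.1 (mem_Q48.1 ((hjC w).1 hx))
      (congrArg Prod.fst ((hjc _ _).1 hxu).eq)
    rw [← map_inv, ← map_mul, ← map_mul, hjC, mem_Q48, hjc]
    exact ⟨h1.1, Prod.ext h1.2 (mul_comm _ _)⟩
  · refine ⟨j (π, 1), hjH _, ?_⟩
    rw [← map_inv, ← map_mul, ← map_mul]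
    exact congrArg j (Prod.ext hπ (by simp [hzW]))
  · intro K hK h hh
    obtain ⟨⟨σ, a⟩, rfl⟩ := hjs h hh
    have hinv : ∀ w : W48, w * w = 1 → j w ∈ K := fun w hw =>
      hK _ (hjH w) (by rw [← map_mul, hw, map_one])
    have hσ : ((σ, 1) : W48) ∈ K.comap j := by
      have := S4Facts.gen ((K.comap j).comap (MonoidHom.inl (Equiv.Perm (Fin 4)) (Multiplicative (ZMod 2))))
        fun τ hτ => hinv _ (Prod.ext hτ (one_mul _))
      exact this.ge (mem_top σ)
    rw [show ((σ, a) : W48) = (σ, 1) * (1, a) from Prod.ext (mul_one _).symm (one_mul _).symm, map_mul]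
    refine mul_mem hσ (hinv _ (Prod.ext (one_mul _) ?_))
    rcases mult_two a with rfl | rfl <;> decide

end CfsgLib.WongThree
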