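import Cfsg.Agent.WongThree.FortyEightFrame

/-!
# Point stabilisers `S₄ × C₂`: a Sylow subgroup of order 32

`T = C ∪ gC` is the normaliser of `C`; an involution of `T` whose centraliser has index at most two
there lies in `{z, t, tz}`, and the commutators of `T` avoid `t`.
-/

set_option autoImplicit false
set_option linter.unusedSectionVars false
set_option linter.style.haveILetI false

namespace CfsgLib.WongThree

open Subgroup

universe u

variable {G : Type u} [Group G] [Finite G]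

/-- A finite set closed under multiplication is a subgroup. -/
def closedSubgroup (M : Set G) (h1 : (1 : G) ∈ M)
    (hmul : ∀ {g h : G}, g ∈ M → h ∈ M → g * h ∈ M) : Subgroup G where
  carrier := M
  one_mem' := h1
  mul_mem' := hmul
  inv_mem' := fun {g} hg => by
    have hpow : ∀ n : ℕ, g ^ n ∈ M := fun n => by
      induction n with
      | zero => rw [pow_zero]; exact h1
      | succ n ih => rw [pow_succ]; exact hmul ih hg
    have he : g ^ (orderOf g - 1) = g⁻¹ := eq_inv_of_mul_eq_one_left (by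
      rw [← pow_succ, Nat.sub_add_cancel (orderOf_pos g), pow_orderOf_eq_one])
    exact he ▸ hpow _

namespace Frame48

variable {H : Subgroup G} (F : Frame48 H)

include F

/-- The group generated by `z` and `t`, as a predicate. -/
def Four (x : G) : Prop := x = 1 ∨ x = F.z ∨ x = F.t ∨ x = F.t * F.z

theorem tc {c : G} (hc : c ∈ H) : Commute c F.t :=
  mem_centralizer_singleton_iff.1 (F.cent_t.ge hc)

theorem four_mem {x : G} (h : F.Four x) : x ∈ F.C := by
  rcases h with rfl | rfl | rfl | rfl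
  exacts [one_mem _, F.z_mem, F.t_mem, mul_mem F.t_mem F.z_mem]

theorem four_comm {x : G} (h : F.Four x) {c : G} (hc : c ∈ F.C) : Commute c x := by
  rcases h with rfl | rfl | rfl | rfl
  exacts [Commute.one_right c, F.zc c hc, F.tc (F.le hc), (F.tc (F.le hc)).mul_right (F.zc c hc)]

theorem g_z : F.g * F.z * F.g⁻¹ = F.z := by
  rcases F.sq _ (F.g_norm _ F.r_mem) with h | h <;>
    rw [show F.g * F.r * F.g⁻¹ * (F.g * F.r * F.g⁻¹) = F.g * (F.r * F.r) * F.g⁻¹ by group, F.rr] at h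
  · exact absurd (conj_eq_one_iff.1 h) F.z_ne
  · exact h

theorem g_t : F.g * F.t * F.g⁻¹ = F.t * F.z := by
  have hc : ∀ d ∈ F.C, Commute (F.g * F.t * F.g⁻¹) d := fun d hd => by
    have hmaps : Function.Surjective (fun c : F.C => (⟨F.g * c * F.g⁻¹, F.g_norm c c.2⟩ : F.C)) :=
      Finite.injective_iff_surjective.1 fun a b h => Subtype.ext
        (mul_left_cancel (mul_right_cancel (congrArg Subtype.val h :)))
    obtain ⟨⟨c, hc⟩, he⟩ := hmaps ⟨d, hd⟩
    have he' : F.g * c * F.g⁻¹ = d := congrArg Subtype.val he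
    rw [← he']
    exact (Commute.conj_iff F.g).2 (F.tc (F.le hc)).symm
  rcases F.central _ (F.g_norm _ F.t_mem) hc with h | h | h | h
  · exact absurd (conj_eq_one_iff.1 h) F.t_ne
  · exact absurd (mul_left_cancel (mul_right_cancel (h.trans F.g_z.symm))) F.tz_ne
  · exact absurd (F.cent_t.le (mem_centralizer_singleton_iff.2 (mul_inv_eq_iff_eq_mul.1 h))) F.g_not
  · exact h

theorem g_four {x : G} (h : F.Four x) : F.Four (F.g * x * F.g⁻¹) := by
  rcases h with rfl | rfl | rfl | rfl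
  · exact Or.inl (by group)
  · exact Or.inr (Or.inl F.g_z)
  · exact Or.inr (Or.inr (Or.inr F.g_t))
  · refine Or.inr (Or.inr (Or.inl ?_))
    rw [show F.g * (F.t * F.z) * F.g⁻¹ = F.g * F.t * F.g⁻¹ * (F.g * F.z * F.g⁻¹) by group, F.g_t,
      F.g_z, mul_assoc, F.zz, mul_one]

/-- An element normalising `C` is in `C` once it lies in `H`. -/
theorem mem_C {h : G} (hh : h ∈ H) (hn : ∀ c ∈ F.C, h * c * h⁻¹ ∈ F.C) : h ∈ F.C := by
  refine F.cent_z h hh (mul_inv_eq_iff_eq_mul.1 ?_)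
  rcases F.sq _ (hn _ F.r_mem) with e | e <;>
    rw [show h * F.r * h⁻¹ * (h * F.r * h⁻¹) = h * (F.r * F.r) * h⁻¹ by group, F.rr] at e
  · exact absurd (conj_eq_one_iff.1 e) F.z_ne
  · exact e

theorem g_sq : F.g * F.g ∈ F.C := by
  refine F.mem_C (F.cent_t.le (mem_centralizer_singleton_iff.2 (mul_inv_eq_iff_eq_mul.1 ?_))) fun c hc => ?_
  · rw [show F.g * F.g * F.t * (F.g * F.g)⁻¹ = F.g * (F.g * F.t * F.g⁻¹) * F.g⁻¹ by group, F.g_t,
      show F.g * (F.t * F.z) * F.g⁻¹ = F.g * F.t * F.g⁻¹ * (F.g * F.z * F.g⁻¹) by group, F.g_t, F.g_z,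
      mul_assoc, F.zz, mul_one]
  · rw [show F.g * F.g * c * (F.g * F.g)⁻¹ = F.g * (F.g * c * F.g⁻¹) * F.g⁻¹ by group]
    exact F.g_norm _ (F.g_norm c hc)

/-- The group `T = C ∪ g C`. -/
def T : Subgroup G :=
  closedSubgroup {x | x ∈ F.C ∨ F.g⁻¹ * x ∈ F.C} (Or.inl (one_mem _))
    (by
      have hg' : ∀ c ∈ F.C, F.g⁻¹ * c * F.g ∈ F.C := fun c hc => by
        have h := mul_mem (mul_mem (inv_mem F.g_sq) (F.g_norm c hc)) F.g_sq
        rwa [show (F.g * F.g)⁻¹ * (F.g * c * F.g⁻¹) * (F.g * F.g) = F.g⁻¹ * c * F.g by group] at h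
      rintro x y (hx | hx) (hy | hy)
      · exact Or.inl (mul_mem hx hy)
      · refine Or.inr ?_
        have := mul_mem (hg' x hx) hy
        rwa [show F.g⁻¹ * x * F.g * (F.g⁻¹ * y) = F.g⁻¹ * (x * y) by group] at this
      · exact Or.inr (by rw [← mul_assoc]; exact mul_mem hx hy)
      · refine Or.inl ?_
        have := mul_mem (mul_mem F.g_sq (hg' _ hx)) hy
        rwa [show F.g * F.g * (F.g⁻¹ * (F.g⁻¹ * x) * F.g) * (F.g⁻¹ * y) = x * y by group] at this)

theorem mem_T {x : G} : x ∈ F.T ↔ x ∈ F.C ∨ F.g⁻¹ * x ∈ F.C := Iff.rfl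

theorem C_le_T : F.C ≤ F.T := fun _ h => Or.inl h

theorem g_mem_T : F.g ∈ F.T := Or.inr (by rw [inv_mul_cancel]; exact one_mem _)

theorem two_T : IsPGroup 2 F.T := by
  rintro ⟨x, hx⟩
  have hx2 : x * x ∈ F.C := by
    rcases hx with h | h
    · exact mul_mem h h
    · have := mul_mem (mul_mem (F.g_norm _ h) F.g_sq) h
      rwa [show F.g * (F.g⁻¹ * x) * F.g⁻¹ * (F.g * F.g) * (F.g⁻¹ * x) = x * x by group] at this
  refine ⟨3, Subtype.ext ?_⟩
  show x ^ (2 ^ 3) = 1
  rcases F.sq _ hx2 with h | h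
  · rw [show (2 : ℕ) ^ 3 = 2 * 2 * 2 by norm_num, pow_mul, pow_mul, _root_.sq x, _root_.sq (x * x), h, one_pow]
  · rw [show (2 : ℕ) ^ 3 = 2 * 2 * 2 by norm_num, pow_mul, pow_mul, _root_.sq x, _root_.sq (x * x), h,
      _root_.sq F.z, F.zz]

theorem u_not_four : ¬ F.Four F.u := by
  rintro (h | h | h | h)
  exacts [F.u_ne.1 h, F.u_ne.2.1 h, F.u_ne.2.2.1 h, F.u_ne.2.2.2 h]

/-- The conjugate `u'` of `u`. -/
def u' : G := F.g * F.u * F.g⁻¹

theorem u'_mem : F.u' ∈ F.C := F.g_norm _ F.u_mem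

theorem u'_sq : F.u' * F.u' = 1 := by
  rw [u', show F.g * F.u * F.g⁻¹ * (F.g * F.u * F.g⁻¹) = F.g * (F.u * F.u) * F.g⁻¹ by group, F.uu]
  group

theorem not_comm_u' (P : Prim H) : ¬ Commute F.u' F.u := by
  intro hu'
  set D := F.C ⊓ centralizer ({F.u} : Set G) with hD
  have hmem : ∀ x, x ∈ D ↔ x ∈ F.C ∧ Commute x F.u := fun x => by
    rw [hD, mem_inf, mem_centralizer_singleton_iff]; rfl
  have hne : D ≠ ⊥ := fun h => F.z_ne (by
    have : F.z ∈ D := (hmem _).2 ⟨F.z_mem, (F.zc _ F.u_mem).symm⟩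
    rwa [h, mem_bot] at this)
  have hn : H ≤ normalizer (D : Set G) := fun h hh => Subgroup.mem_normalizer_fintype fun x hx =>
    (hmem _).2 (F.four_normal h hh x ((hmem x).1 hx).1 ((hmem x).1 hx).2)
  have hgn : F.g ∈ normalizer (D : Set G) := by
    refine Subgroup.mem_normalizer_fintype fun x hx => (hmem _).2 ?_
    obtain ⟨hxC, hxu⟩ := (hmem x).1 hx
    refine ⟨F.g_norm x hxC, ?_⟩
    rcases F.cent_u x hxC hxu with h | h
    · exact (F.four_comm (F.g_four h) F.u_mem).symm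
    · have h1 : Commute (F.g * (x * F.u) * F.g⁻¹) F.u := (F.four_comm (F.g_four h) F.u_mem).symm
      have h2 := h1.mul_left hu'
      rwa [u', show F.g * (x * F.u) * F.g⁻¹ * (F.g * F.u * F.g⁻¹) = F.g * (x * (F.u * F.u)) * F.g⁻¹ by
        group, F.uu, mul_one] at h2
  exact F.g_not ((P.normalizer_eq (fun x hx => F.le ((hmem x).1 hx).1) hne hn).le hgn)

/-- `u u'` squares to `z`. -/
theorem r'_sq (P : Prim H) : F.u * F.u' * (F.u * F.u') = F.z := by
  refine (F.sq _ (mul_mem F.u_mem F.u'_mem)).resolve_left fun h => F.not_comm_u' P ?_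
  have h1 := eq_inv_of_mul_eq_one_left h
  rw [mul_inv_rev, inv_eq_of_mul_eq_one_right F.u'_sq, inv_eq_of_mul_eq_one_right F.uu] at h1
  exact h1.symm

theorem g_u' : F.g * F.u' * F.g⁻¹ = F.u ∨ F.g * F.u' * F.g⁻¹ = F.u * F.z := by
  rw [u', show F.g * (F.g * F.u * F.g⁻¹) * F.g⁻¹ =
    F.g * F.g * F.u * (F.g * F.g)⁻¹ * F.u⁻¹ * F.u by group]
  rcases F.comm _ F.g_sq _ F.u_mem with h | h <;> rw [h]
  · exact Or.inl (one_mul _)
  · exact Or.inr (F.zc _ F.u_mem).eq.symm

theorem comm_u {c : G} (hc : c ∈ F.C) (h : ¬ Commute c F.u) : c * F.u * c⁻¹ * F.u⁻¹ = F.z :=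
  (F.comm c hc _ F.u_mem).resolve_left fun e => h (mul_inv_eq_iff_eq_mul.1 (mul_inv_eq_one.1 e))

/-- An element of `C` not commuting with `u` is `u'` times one commuting with it. -/
theorem mul_u'_comm (P : Prim H) {c : G} (hc : c ∈ F.C) (h : ¬ Commute c F.u) :
    Commute (c * F.u') F.u := by
  have h1 := F.comm_u hc h
  have h2 := F.comm_u F.u'_mem (F.not_comm_u' P)
  refine mul_inv_eq_iff_eq_mul.1 ?_
  calc c * F.u' * F.u * (c * F.u')⁻¹ = c * (F.u' * F.u * F.u'⁻¹ * F.u⁻¹) * F.u * c⁻¹ := by group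
    _ = F.z * (c * F.u * c⁻¹ * F.u⁻¹) * F.u := by rw [h2, (F.zc c hc).eq]; group
    _ = F.u := by rw [h1, F.zz, one_mul]

/-- The group `{1, z, r, r z}`, `r = u u'`. -/
def InL (x : G) : Prop :=
  x = 1 ∨ x = F.z ∨ x = F.u * F.u' ∨ x = F.u * F.u' * F.z

theorem inL_mem {x : G} (h : F.InL x) : x ∈ F.C := by
  rcases h with rfl | rfl | rfl | rfl
  exacts [one_mem _, F.z_mem, mul_mem F.u_mem F.u'_mem,
    mul_mem (mul_mem F.u_mem F.u'_mem) F.z_mem]

variable (P : Prim H)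
include P

/-- The subgroup `{1, z, r, r z}`. -/
def L : Subgroup G :=
  closedSubgroup {x | F.InL x} (Or.inl rfl) (by
    have hr := mul_mem F.u_mem F.u'_mem
    have hzr := (F.zc _ hr).eq
    have hrr := F.r'_sq P
    have hmz : ∀ x, F.InL x → F.InL (x * F.z) := by
      rintro x (rfl | rfl | rfl | rfl)
      · exact Or.inr (Or.inl (one_mul _))
      · exact Or.inl F.zz
      · exact Or.inr (Or.inr (Or.inr rfl))
      · exact Or.inr (Or.inr (Or.inl (by rw [mul_assoc (F.u * F.u'), F.zz, mul_one])))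
    have hmr : ∀ x, F.InL x → F.InL (x * (F.u * F.u')) := by
      rintro x (rfl | rfl | rfl | rfl)
      · exact Or.inr (Or.inr (Or.inl (one_mul _)))
      · exact Or.inr (Or.inr (Or.inr hzr.symm))
      · exact Or.inr (Or.inl hrr)
      · refine Or.inl ?_
        rw [mul_assoc (F.u * F.u') F.z, ← hzr, ← mul_assoc (F.u * F.u'), hrr, F.zz]
    rintro x y hx (rfl | rfl | rfl | rfl)
    · rwa [mul_one]
    · exact hmz x hx
    · exact hmr x hx
    · rw [← mul_assoc x (F.u * F.u')]; exact hmz _ (hmr x hx))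

theorem mem_L {x : G} : x ∈ F.L P ↔ F.InL x := Iff.rfl

theorem z_mem_L : F.z ∈ F.L P := Or.inr (Or.inl rfl)

theorem r'_mem_L : F.u * F.u' ∈ F.L P := Or.inr (Or.inr (Or.inl rfl))

theorem conj_L {w x : G} (hw : w ∈ F.T) (hx : x ∈ F.L P) : w * x * w⁻¹ ∈ F.L P := by
  have hC : ∀ c ∈ F.C, ∀ x ∈ F.L P, c * x * c⁻¹ ∈ F.L P := fun c hc x hx => by
    rcases F.comm c hc x (F.inL_mem hx) with h | h
    · rw [mul_inv_eq_one.1 h]; exact hx
    · rw [mul_inv_eq_iff_eq_mul.1 h]; exact mul_mem (F.z_mem_L P) hx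
  have hg : ∀ x ∈ F.L P, F.g * x * F.g⁻¹ ∈ F.L P := by
    have hu : F.g * (F.u * F.u') * F.g⁻¹ ∈ F.L P := by
      have h1 : F.u' * F.u ∈ F.L P := by
        have := inv_mem (F.r'_mem_L P)
        rwa [mul_inv_rev, inv_eq_of_mul_eq_one_right F.u'_sq, inv_eq_of_mul_eq_one_right F.uu] at this
      rw [show F.g * (F.u * F.u') * F.g⁻¹ = F.g * F.u * F.g⁻¹ * (F.g * F.u' * F.g⁻¹) by group]
      rcases F.g_u' with e | e <;> rw [e]
      · exact h1
      · rw [← mul_assoc]; exact mul_mem h1 (F.z_mem_L P)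
    rintro x (rfl | rfl | rfl | rfl)
    · rw [mul_one, mul_inv_cancel]; exact one_mem _
    · rw [F.g_z]; exact F.z_mem_L P
    · exact hu
    · rw [show F.g * (F.u * F.u' * F.z) * F.g⁻¹ = F.g * (F.u * F.u') * F.g⁻¹ * (F.g * F.z * F.g⁻¹) by
        group, F.g_z]
      exact mul_mem hu (F.z_mem_L P)
  rcases hw with h | h
  · exact hC w h x hx
  · have := hg _ (hC _ h x hx)
    rwa [show F.g * (F.g⁻¹ * w * x * (F.g⁻¹ * w)⁻¹) * F.g⁻¹ = w * x * w⁻¹ by group] at this

theorem comm_mem_L {w x : G} (hw : w ∈ F.T) (hx : x ∈ F.T) : w * x * w⁻¹ * x⁻¹ ∈ F.L P := by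
  have hCC : ∀ a ∈ F.C, ∀ b ∈ F.C, a * b * a⁻¹ * b⁻¹ ∈ F.L P := fun a ha b hb => by
    rcases F.comm a ha b hb with h | h <;> rw [h]
    exacts [one_mem _, F.z_mem_L P]
  -- commutation modulo `L`
  have hl : ∀ {a b y : G}, a ∈ F.T → a * y * a⁻¹ * y⁻¹ ∈ F.L P → b * y * b⁻¹ * y⁻¹ ∈ F.L P →
      a * b * y * (a * b)⁻¹ * y⁻¹ ∈ F.L P := fun {a b y} ha h1 h2 => by
    have := mul_mem (F.conj_L P ha h2) h1
    rwa [show a * (b * y * b⁻¹ * y⁻¹) * a⁻¹ * (a * y * a⁻¹ * y⁻¹) = a * b * y * (a * b)⁻¹ * y⁻¹ by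
      group] at this
  have hsym : ∀ {a b : G}, a * b * a⁻¹ * b⁻¹ ∈ F.L P → b * a * b⁻¹ * a⁻¹ ∈ F.L P := fun {a b} h => by
    have := inv_mem h
    rwa [show (a * b * a⁻¹ * b⁻¹)⁻¹ = b * a * b⁻¹ * a⁻¹ by group] at this
  have hfour : ∀ {y : G}, F.Four y → F.g * y * F.g⁻¹ * y⁻¹ ∈ F.L P := by
    intro y hy
    rcases hy with rfl | rfl | rfl | rfl
    · rw [mul_one, mul_inv_cancel, inv_one, one_mul]; exact one_mem _
    · rw [F.g_z, mul_inv_cancel]; exact one_mem _
    · rw [F.g_t, inv_eq_of_mul_eq_one_right F.tt, mul_assoc, ← (F.tc (F.le F.z_mem)).symm.eq,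
        ← mul_assoc, F.tt, one_mul]
      exact F.z_mem_L P
    · rw [show F.g * (F.t * F.z) * F.g⁻¹ = F.g * F.t * F.g⁻¹ * (F.g * F.z * F.g⁻¹) by group, F.g_t,
        F.g_z, mul_inv_rev, inv_eq_of_mul_eq_one_right F.zz, mul_assoc F.t, F.zz, mul_one,
        (F.tc (F.le F.z_mem)).inv_right.eq, ← mul_assoc, mul_inv_cancel, one_mul]
      exact F.z_mem_L P
  have hgu : F.g * F.u * F.g⁻¹ * F.u⁻¹ ∈ F.L P := by
    have := inv_mem (F.r'_mem_L P)
    rwa [mul_inv_rev, show F.u'⁻¹ = F.u' from inv_eq_of_mul_eq_one_right F.u'_sq] at this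
  have hgu' : F.g * F.u' * F.g⁻¹ * F.u'⁻¹ ∈ F.L P := by
    rw [show F.u'⁻¹ = F.u' from inv_eq_of_mul_eq_one_right F.u'_sq]
    rcases F.g_u' with e | e <;> rw [e]
    · exact F.r'_mem_L P
    · rw [mul_assoc, ← (F.zc _ F.u'_mem).eq, ← mul_assoc]
      exact mul_mem (F.r'_mem_L P) (F.z_mem_L P)
  have hgC : ∀ c ∈ F.C, F.g * c * F.g⁻¹ * c⁻¹ ∈ F.L P := by
    have hmul : ∀ {a b : G}, a ∈ F.C → F.g * a * F.g⁻¹ * a⁻¹ ∈ F.L P →
        F.g * b * F.g⁻¹ * b⁻¹ ∈ F.L P → F.g * (a * b) * F.g⁻¹ * (a * b)⁻¹ ∈ F.L P :=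
      fun ha h1 h2 => hsym (hl (F.C_le_T ha) (hsym h1) (hsym h2))
    have hD : ∀ c ∈ F.C, Commute c F.u → F.g * c * F.g⁻¹ * c⁻¹ ∈ F.L P := fun c hc hcu => by
      rcases F.cent_u c hc hcu with h | h
      · exact hfour h
      · have h1 := hmul (F.four_mem h) (hfour h) hgu
        rwa [mul_assoc c, F.uu, mul_one] at h1
    intro c hc
    by_cases hcu : Commute c F.u
    · exact hD c hc hcu
    · have h1 := hmul (mul_mem hc F.u'_mem) (hD _ (mul_mem hc F.u'_mem) (F.mul_u'_comm P hc hcu)) hgu'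
      rwa [mul_assoc c, F.u'_sq, mul_one] at h1
  have hTC : ∀ a ∈ F.T, ∀ b ∈ F.C, a * b * a⁻¹ * b⁻¹ ∈ F.L P := fun a ha b hb => by
    rcases ha with h | h
    · exact hCC a h b hb
    · have h1 := hl F.g_mem_T (hgC b hb) (hCC _ h b hb)
      rwa [mul_inv_cancel_left] at h1
  rcases hw with h | h
  · exact hsym (hTC x hx w h)
  · have h2 : F.g * x * F.g⁻¹ * x⁻¹ ∈ F.L P := by
      rcases hx with h' | h'
      · exact hgC x h'
      · refine hsym ?_
        have h1 := hl F.g_mem_T (a := F.g) (b := F.g⁻¹ * x) (y := F.g)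
          (by simp) (hsym (hgC _ h'))
        rwa [mul_inv_cancel_left] at h1
    have h1 := hl F.g_mem_T h2 (hsym (hTC x hx _ h))
    rwa [mul_inv_cancel_left] at h1

/-- Commutators of `T` are not `t`. -/
theorem t_not_L : F.t ∉ F.L P := by
  rintro (h | h | h | h)
  · exact F.t_ne h
  · exact F.tz_ne h
  all_goals refine F.not_comm_u' P ?_
  · have e : F.u' = F.u * F.t := by rw [h, ← mul_assoc, F.uu, one_mul]
    rw [e]
    exact (Commute.refl F.u).mul_left (F.tc (F.le F.u_mem)).symm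
  · have e : F.u' = F.u * (F.t * F.z) := by
      rw [h, mul_assoc (F.u * F.u'), F.zz, mul_one, ← mul_assoc, F.uu, one_mul]
    rw [e]
    exact (Commute.refl F.u).mul_left
      ((F.tc (F.le F.u_mem)).mul_right (F.zc _ F.u_mem)).symm

/-- **An involution of `T` commuting with its conjugates there lies in `{z, t, t z}`.** -/
theorem eq_of_comm {y : G} (hy : y ∈ F.T) (hyy : y * y = 1)
    (hc : ∀ w ∈ F.T, Commute (w * y * w⁻¹) y) : F.Four y := by
  have hyi : y⁻¹ = y := inv_eq_of_mul_eq_one_right hyy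
  have hd : ∀ w ∈ F.T, w * y * w⁻¹ = y ∨ w * y * w⁻¹ = F.z * y := fun w hw => by
    have h1 := F.comm_mem_L P hw hy
    have h2 : w * y * w⁻¹ * y⁻¹ * (w * y * w⁻¹ * y⁻¹) = 1 := by
      rw [hyi]
      calc w * y * w⁻¹ * y * (w * y * w⁻¹ * y) = w * y * w⁻¹ * (y * (w * y * w⁻¹)) * y := by group
        _ = w * (y * y) * w⁻¹ * (y * y) := by rw [← (hc w hw).eq]; group
        _ = 1 := by rw [hyy]; group
    rcases h1 with e | e | e | e
    · exact Or.inl (mul_inv_eq_one.1 e)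
    · exact Or.inr (mul_inv_eq_iff_eq_mul.1 e)
    all_goals exfalso; rw [e] at h2
    · rw [F.r'_sq P] at h2; exact F.z_ne h2
    · rw [(F.zc _ (mul_mem F.u_mem F.u'_mem)).symm.mul_mul_mul_comm, F.r'_sq P, F.zz, mul_one] at h2
      exact F.z_ne h2
  rcases hy with hyC | hyC
  · by_cases hyu : Commute y F.u
    · refine (F.cent_u y hyC hyu).resolve_right fun h => ?_
      have hg := hd F.g F.g_mem_T
      have e : F.g * (y * F.u) * F.g⁻¹ * F.u' = F.g * y * F.g⁻¹ := by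
        rw [u', show F.g * (y * F.u) * F.g⁻¹ * (F.g * F.u * F.g⁻¹) = F.g * (y * (F.u * F.u)) * F.g⁻¹ by
          group, F.uu, mul_one]
      have h4 : Commute (F.g * (y * F.u) * F.g⁻¹) F.u := (F.four_comm (F.g_four h) F.u_mem).symm
      have h5 : Commute (F.g * y * F.g⁻¹) F.u := by
        rcases hg with e' | e' <;> rw [e']
        exacts [hyu, (F.zc _ F.u_mem).symm.mul_left hyu]
      refine F.not_comm_u' P ?_
      have := h4.inv_left.mul_left h5
      rwa [← e, inv_mul_cancel_left] at this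
    · exfalso
      have hD := F.mul_u'_comm P hyC hyu
      rcases F.cent_u _ (mul_mem hyC F.u'_mem) hD with h | h
      · -- `g` moves `u'` into the centraliser of `u`
        have e : F.g * (y * F.u') * F.g⁻¹ * (F.g * F.u' * F.g⁻¹) = F.g * y * F.g⁻¹ := by
          rw [show F.g * (y * F.u') * F.g⁻¹ * (F.g * F.u' * F.g⁻¹) =
            F.g * (y * (F.u' * F.u')) * F.g⁻¹ by group, F.u'_sq, mul_one]
        have h5 : Commute (F.g * y * F.g⁻¹) F.u := by
          rw [← e]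
          refine (F.four_comm (F.g_four h) F.u_mem).symm.mul_left ?_
          rcases F.g_u' with e' | e' <;> rw [e']
          exacts [Commute.refl _, (Commute.refl F.u).mul_left (F.zc _ F.u_mem).symm]
        refine hyu ?_
        rcases hd F.g F.g_mem_T with e' | e' <;> rw [e'] at h5
        · exact h5
        · have := (F.zc _ F.u_mem).symm.mul_left h5
          rwa [← mul_assoc, F.zz, one_mul] at this
      · refine F.z_ne ?_
        set w := y * F.u' * F.u with hw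
        have hwc : ∀ c ∈ F.C, Commute c w := fun c hc => F.four_comm h hc
        have hy' : y = w * (F.u * F.u') := by
          rw [hw, ← mul_assoc, mul_assoc _ F.u F.u, F.uu, mul_one, mul_assoc, F.u'_sq, mul_one]
        have hww : w * w = 1 := by
          rcases h with e | e | e | e <;> rw [e]
          · exact one_mul 1
          · exact F.zz
          · exact F.tt
          · calc F.t * F.z * (F.t * F.z) = F.t * (F.z * F.t) * F.z := by group
              _ = 1 := by rw [(F.tc (F.le F.z_mem)).eq, ← mul_assoc, F.tt, one_mul, F.zz]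
        rw [← F.r'_sq P, ← hyy, hy']
        calc F.u * F.u' * (F.u * F.u') = w * w * (F.u * F.u' * (F.u * F.u')) := by rw [hww, one_mul]
          _ = w * (F.u * F.u' * w) * (F.u * F.u') := by
              rw [(hwc _ (mul_mem F.u_mem F.u'_mem)).eq]; group
          _ = _ := by group
  · exfalso
    set c := F.g⁻¹ * y with hc'
    have hyc : y = F.g * c := by rw [hc', mul_inv_cancel_left]
    have h1 : Commute (y * F.u * y⁻¹) F.u := by
      rcases hd F.u (F.C_le_T F.u_mem) with e | e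
      · have h2 : Commute y F.u := (mul_inv_eq_iff_eq_mul.1 e : F.u * y = y * F.u).symm
        rw [h2.eq, mul_inv_cancel_right]
      · have h2 : y * F.u * y⁻¹ = F.z * F.u := by
          calc y * F.u * y⁻¹ = F.z * (F.z * y) * F.u * y⁻¹ := by rw [← mul_assoc F.z, F.zz, one_mul]
            _ = F.z * F.u * (y * y⁻¹) := by
                rw [← e, inv_eq_of_mul_eq_one_right F.uu]
                calc F.z * (F.u * y * F.u) * F.u * y⁻¹ = F.z * F.u * y * (F.u * F.u) * y⁻¹ := by group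
                  _ = _ := by rw [F.uu, mul_one, mul_assoc]
            _ = F.z * F.u := by rw [mul_inv_cancel, mul_one]
        rw [h2]
        exact (F.zc _ F.u_mem).symm.mul_left (Commute.refl _)
    refine F.not_comm_u' P ?_
    rw [hyc, show F.g * c * F.u * (F.g * c)⁻¹ = F.g * (c * F.u * c⁻¹ * F.u⁻¹) * F.g⁻¹ * F.u' by
      rw [u']; group] at h1
    rcases F.comm c hyC _ F.u_mem with e | e <;> rw [e] at h1
    · rwa [mul_one, mul_inv_cancel, one_mul] at h1
    · rw [F.g_z] at h1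
      have := (F.zc _ F.u_mem).symm.mul_left h1
      rwa [← mul_assoc, F.zz, one_mul] at this

end Frame48

end CfsgLib.WongThree
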