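import Cfsg.Agent.WongThree.SymFour
import Mathlib.Data.Nat.Totient
import Mathlib.GroupTheory.Complement
import Cfsg.Agent.Solvable.PGroupBasic

/-!
# Simplicity of a group with an `S₄` four-group normaliser
-/

set_option autoImplicit false
set_option linter.unusedSectionVars false
set_option linter.style.haveILetI false

namespace CfsgLib.WongThree

open Subgroup

universe u

variable {N : Type u} [Group N] [Finite N] {H : Subgroup N} (e : H ≃* Equiv.Perm (Fin 4))

local instance factTwoSimple : Fact (Nat.Prime 2) := ⟨Nat.prime_two⟩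

/-- The alternating part of a copy of `S₄`. -/
def altOf (e : H ≃* Equiv.Perm (Fin 4)) : Subgroup N :=
  ((alternatingGroup (Fin 4)).comap e.toMonoidHom).map H.subtype

theorem not_top_of_index_two (hN : normalizer (fourOf e : Set N) = H) (h16 : 16 ∣ Nat.card N)
    {K : Subgroup N} (hV : fourOf e ≤ K) (hK : K ⊓ H = altOf e) : K.index ≠ 2 := by
  classical
  intro h2
  obtain ⟨P, hP⟩ := (IsPGroup.of_card (n := 2) (G := (fourOf e).subgroupOf K) (by
    rw [Nat.card_congr (subgroupOfEquivOfLe hV).toEquiv, card_fourOf e]; norm_num)).exists_le_sylow (p := 2)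
  have h12 : Nat.card (altOf e) = 12 := by
    rw [altOf, card_map_of_injective H.subtype_injective]
    refine (Nat.card_congr (e.toEquiv.subtypeEquiv fun _ => Iff.rfl)).trans
      (?_ : Nat.card (alternatingGroup (Fin 4)) = 12)
    rw [nat_card_alternatingGroup, Nat.card_fin]
    rfl
  have hPeq : (P : Subgroup K) = (fourOf e).subgroupOf K := by
    refine le_antisymm ?_ hP
    by_contra hle
    haveI : Group.IsNilpotent (P : Subgroup K) := P.isPGroup'.isNilpotent
    have hlt : ((fourOf e).subgroupOf K).subgroupOf (P : Subgroup K) < ⊤ :=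
      lt_top_iff_ne_top.2 fun h => hle (subgroupOf_eq_top.1 h)
    obtain ⟨g, hg, hgV⟩ := SetLike.exists_of_lt (Group.normalizerCondition_of_isNilpotent _ hlt)
    have hgn : ((g : K) : N) ∈ normalizer (fourOf e : Set N) := by
      refine mem_normalizer_iff_map_conj_eq.2 (eq_of_le_of_card_ge ?_
        (card_map_of_injective (MulAut.conj ((g : K) : N)).injective).ge)
      rintro _ ⟨x, hx, rfl⟩
      have hxP : (⟨x, hV hx⟩ : K) ∈ (P : Subgroup K) := hP (mem_subgroupOf.2 hx)
      have := (mem_normalizer_iff.1 hg ⟨_, hxP⟩).1 (mem_subgroupOf.2 (mem_subgroupOf.2 hx))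
      exact mem_subgroupOf.1 (mem_subgroupOf.1 this)
    rw [hN] at hgn
    have hga : ((g : K) : N) ∈ altOf e := hK.le ⟨(g : K).2, hgn⟩
    -- a two-group inside `A₄`
    set Q : Subgroup N := (P : Subgroup K).map K.subtype ⊓ altOf e with hQ
    have hQp : IsPGroup 2 Q := (P.isPGroup'.map K.subtype).to_le inf_le_left
    obtain ⟨m, hm⟩ := IsPGroup.iff_card.1 hQp
    have hd := card_dvd_of_le (inf_le_right : Q ≤ altOf e)
    rw [hm, h12] at hd
    have hm2 : m ≤ 2 := by
      by_contra h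
      have : 8 ∣ 12 := (pow_dvd_pow 2 (show 3 ≤ m by omega)).trans hd
      norm_num at this
    have hVQ : fourOf e ≤ Q := fun x hx => ⟨⟨⟨x, hV hx⟩, hP (mem_subgroupOf.2 hx), rfl⟩,
      hK.le ⟨hV hx, fourOf_le e hx⟩⟩
    have hQV : Q = fourOf e := (eq_of_le_of_card_ge hVQ (by
      rw [hm, card_fourOf e]
      exact (pow_le_pow_right₀ (by norm_num) hm2).trans (by norm_num))).symm
    refine hgV (mem_subgroupOf.2 (mem_subgroupOf.2 ?_))
    rw [← hQV]
    exact ⟨⟨(g : K), g.2, rfl⟩, hga⟩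
  have hPc : Nat.card (P : Subgroup K) = 4 := by
    rw [hPeq, Nat.card_congr (subgroupOfEquivOfLe hV).toEquiv, card_fourOf e]
  have h8 : 8 ∣ Nat.card K := by
    have h1 := K.card_mul_index
    rw [h2] at h1
    omega
  have h := P.card_eq_multiplicity
  rw [hPc] at h
  have h3 : 3 ≤ (Nat.card K).factorization 2 :=
    (Nat.Prime.pow_dvd_iff_le_factorization Nat.prime_two Nat.card_pos.ne').1 (by simpa using h8)
  have : 2 ^ 3 ≤ 2 ^ (Nat.card K).factorization 2 := Nat.pow_le_pow_right (by norm_num) h3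
  omega

/-- A group with a self-centralising four-group with normaliser `S₄` and a Sylow 2-subgroup of order
at least sixteen is simple if every non-trivial invariant normal subgroup supplements the normaliser. -/
theorem isSimple_of (hN : normalizer (fourOf e : Set N) = H) (h16 : 16 ∣ Nat.card N)
    (hC : centralizer (fourOf e : Set N) = fourOf e) (α : MulAut N) (hα : α * α = 1)
    (hmax : ∀ L : Subgroup N, L.Normal → L.map α.toMonoidHom = L → L ≠ ⊥ → L ⊔ H = ⊤) :
    IsSimpleGroup N := by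
  classical
  haveI : Nontrivial N := Finite.one_lt_card_iff_nontrivial.1 (by
    have := Nat.le_of_dvd Nat.card_pos h16
    omega)
  have htop : ∀ L : Subgroup N, L.Normal → L.map α.toMonoidHom = L → L ≠ ⊥ → L = ⊤ := by
    intro L hL hLα hLne
    by_contra hLtop
    have hsup := hmax L hL hLα hLne
    haveI := hL
    set A := altOf e
    have hAH : A ≤ H := map_subtype_le _
    have hLH : L ⊓ H ≤ A := by
      haveI : ((L.subgroupOf H).map e.toMonoidHom).Normal :=
        Normal.map inferInstance _ e.surjective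
      have hne : (L.subgroupOf H).map e.toMonoidHom ≠ ⊤ := by
        intro h
        apply hLtop
        rw [← hsup, eq_comm, sup_eq_left]
        intro x hx
        obtain ⟨y, hy, hye⟩ := h.ge (mem_top (e ⟨x, hx⟩))
        have h' := mem_subgroupOf.1 hy
        rwa [show (y : N) = x from congrArg Subtype.val (e.injective hye)] at h'
      intro x ⟨hxL, hxH⟩
      exact ⟨⟨x, hxH⟩, normal_le_alternating hne ⟨⟨x, hxH⟩, mem_subgroupOf.2 hxL, rfl⟩, rfl⟩
    have hAn : H ≤ normalizer (A : Set N) := by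
      intro g hg
      refine mem_normalizer_iff_map_conj_eq.2 (eq_of_le_of_card_ge ?_
        (card_map_of_injective (MulAut.conj g).injective).ge)
      rintro _ ⟨_, ⟨y, hy, rfl⟩, rfl⟩
      exact ⟨⟨g, hg⟩ * y * ⟨g, hg⟩⁻¹, by
        show e (⟨g, hg⟩ * y * ⟨g, hg⟩⁻¹) ∈ alternatingGroup (Fin 4)
        rw [map_mul, map_mul, map_inv]
        exact (inferInstance : (alternatingGroup (Fin 4)).Normal).conj_mem _ hy _, rfl⟩
    have hmem : ∀ x, x ∈ L ⊔ A ↔ ∃ l ∈ L, ∃ a ∈ A, l * a = x := fun x => mem_sup_of_normal_left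
    have hKH : (L ⊔ A) ⊓ H = A := by
      refine le_antisymm (fun x ⟨hx, hxH⟩ => ?_) (le_inf le_sup_right hAH)
      obtain ⟨l, hl, a, ha, rfl⟩ := (hmem x).1 hx
      refine mul_mem (hLH ⟨hl, ?_⟩) ha
      simpa using H.mul_mem hxH (H.inv_mem (hAH ha))
    have hVA : fourOf e ≤ L ⊔ A := fun x hx => by
      obtain ⟨hxH, hx'⟩ := mem_fourOf.1 hx
      exact (le_sup_right : A ≤ L ⊔ A) ⟨⟨x, hxH⟩, kleinS4_le hx', rfl⟩
    refine not_top_of_index_two e hN h16 hVA hKH ?_
    obtain ⟨s, hs⟩ := e.surjective (Equiv.swap 0 1)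
    have hsA : ∀ y : H, (y : N) ∈ A ↔ Equiv.Perm.sign (e y) = 1 := fun y => by
      constructor
      · rintro ⟨w, hw, hwy⟩
        rw [← Subtype.ext hwy]
        exact hw
      · exact fun h => ⟨y, h, rfl⟩
    have hsgn : Equiv.Perm.sign (e s) = -1 := by rw [hs]; exact Equiv.Perm.sign_swap (by decide)
    have hsnot : (s : N) ∉ L ⊔ A := fun h => by
      have := (hsA s).1 (hKH.le ⟨h, s.2⟩)
      rw [hsgn] at this
      exact absurd this (by decide)
    rw [index_eq_two_iff]
    refine ⟨s, fun x => ?_⟩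
    have hx : x ∈ L ⊔ H := by rw [hsup]; exact mem_top x
    obtain ⟨l, hl, h, hh, rfl⟩ := mem_sup_of_normal_left.1 hx
    have hl' : l ∈ L ⊔ A := (le_sup_left : L ≤ L ⊔ A) hl
    rw [mul_assoc, mul_mem_cancel_left hl', mul_mem_cancel_left hl']
    by_cases hp : Equiv.Perm.sign (e ⟨h, hh⟩) = 1
    · refine Or.inr ⟨(le_sup_right : A ≤ L ⊔ A) ((hsA ⟨h, hh⟩).2 hp), fun hc => hsnot ?_⟩
      have := mul_mem (inv_mem ((le_sup_right : A ≤ L ⊔ A) ((hsA ⟨h, hh⟩).2 hp))) hc
      simpa using this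
    · refine Or.inl ⟨(le_sup_right : A ≤ L ⊔ A) ((hsA (⟨h, hh⟩ * s)).2 ?_), fun hc => hp ((hsA _).1 (hKH.le ⟨hc, hh⟩))⟩
      rw [map_mul, Equiv.Perm.sign_mul, hsgn, (Int.units_eq_one_or _).resolve_left hp]
      rfl
  refine ⟨fun R hR => ?_⟩
  haveI := hR
  rw [or_iff_not_imp_left]
  intro hRne
  set R' := R.map α.toMonoidHom with hR'
  haveI hR'n : R'.Normal := hR.map _ α.surjective
  have hαα : ∀ x, α (α x) = x := fun x => DFunLike.congr_fun hα x
  have hR'' : R'.map α.toMonoidHom = R := by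
    ext x
    simp only [hR', mem_map, MulEquiv.coe_toMonoidHom]
    exact ⟨fun ⟨_, ⟨z, hz, rfl⟩, h⟩ => by rwa [← h, hαα], fun hx => ⟨α x, ⟨x, hx, rfl⟩, hαα x⟩⟩
  by_cases hint : R ⊓ R' = ⊥
  swap
  · exact eq_top_iff.2 ((htop (R ⊓ R') inferInstance
      (by rw [map_inf R R' _ α.injective, hR'', ← hR', inf_comm]) hint).ge.trans inf_le_left)
  exfalso
  have hjoin : R ⊔ R' = ⊤ := htop (R ⊔ R') inferInstance
    (by rw [Subgroup.map_sup, hR'', ← hR', sup_comm]) fun h => hRne (eq_bot_iff.2 (h ▸ le_sup_left))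
  have hcomm : ∀ a ∈ R, ∀ b ∈ R', a * b = b * a := fun a ha b hb =>
    (commute_of_normal_of_disjoint R R' hR hR'n (disjoint_iff.2 hint) a b ha hb).eq
  have hcard : Nat.card N = Nat.card R * Nat.card R' := by
    refine (Subgroup.IsComplement'.card_mul_card (isComplement'_of_disjoint_and_mul_eq_univ (disjoint_iff.2 hint) ?_)).symm
    rw [← normal_mul, hjoin, coe_top]
  have hcR : Nat.card R' = Nat.card R := card_map_of_injective α.injective
  obtain ⟨S, hS⟩ := (IsPGroup.of_card (n := 2) (G := fourOf e) (by rw [card_fourOf e]; norm_num)).exists_le_sylow (p := 2)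
  -- a central involution in each factor
  have hz : ∀ T T' : Subgroup N, T.Normal → T ⊔ T' = ⊤ → (∀ a ∈ T, ∀ b ∈ T', a * b = b * a) →
      2 ∣ Nat.card T → ∀ P : Subgroup N, P = (S : Subgroup N) → 
      ∃ z, z ∈ T ∧ z ≠ 1 ∧ z ∈ P ∧ ∀ s ∈ P, s * z = z * s := by
    intro T T' hT _ _ h2 P hP
    subst hP
    haveI := hT
    set TS := T.subgroupOf (S : Subgroup N)
    haveI : TS.Normal := inferInstance
    have hTS : TS ≠ ⊥ := by
      intro h
      obtain ⟨Q, hQ⟩ := (IsPGroup.of_card (n := 0) (G := (⊥ : Subgroup T)) (by simp)).exists_le_sylow (p := 2)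
      have hQ2 : 1 < Nat.card (Q : Subgroup T) := by
        rw [Q.card_eq_multiplicity]
        exact Nat.one_lt_pow (((Nat.prime_two.dvd_iff_one_le_factorization Nat.card_pos.ne').1 h2).trans_lt'
          Nat.zero_lt_one).ne' (by norm_num)
      obtain ⟨S', hS'⟩ := (Q.isPGroup'.map T.subtype).exists_le_sylow (p := 2)
      obtain ⟨g, hg⟩ := MulAction.exists_smul_eq N S' S
      haveI := Finite.one_lt_card_iff_nontrivial.1 hQ2
      obtain ⟨q, hq1⟩ := exists_ne (1 : (Q : Subgroup T))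
      have hqS : g * ((q : T) : N) * g⁻¹ ∈ (S : Subgroup N) := by
        rw [← hg, Sylow.coe_subgroup_smul]
        exact ⟨_, hS' ⟨q, q.2, rfl⟩, rfl⟩
      have hqT : g * ((q : T) : N) * g⁻¹ ∈ T := hT.conj_mem _ (q : T).2 g
      have : (⟨_, hqS⟩ : (S : Subgroup N)) ∈ TS := mem_subgroupOf.2 hqT
      rw [h, mem_bot] at this
      apply hq1
      have := congrArg Subtype.val this
      rw [OneMemClass.coe_one, conj_eq_one_iff] at this
      exact Subtype.ext (Subtype.ext this)
    haveI : Group.IsNilpotent (S : Subgroup N) := S.isPGroup'.isNilpotent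
    have hnt := CfsgLib.PGroupBasic.inf_center_ne_bot TS hTS
    obtain ⟨⟨x, hx, hxc⟩, hx1⟩ := Subgroup.ne_bot_iff_exists_ne_one.1 hnt
    exact ⟨x, mem_subgroupOf.1 hx, fun h => hx1 (Subtype.ext (Subtype.ext h)), x.2,
      fun s hs => congrArg Subtype.val (mem_center_iff.1 hxc ⟨s, hs⟩)⟩
  have h2R : 2 ∣ Nat.card R := by
    have : 2 ∣ Nat.card R * Nat.card R := by rw [hcR] at hcard; rw [← hcard]; exact dvd_trans (by norm_num) h16
    exact ((Nat.prime_two.dvd_mul).1 this).elim id id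
  obtain ⟨x, hxR, hx1, hxS, hxc⟩ := hz R R' hR hjoin hcomm h2R _ rfl
  obtain ⟨y, hyR, hy1, hyS, hyc⟩ := hz R' R hR'n (by rw [sup_comm, hjoin])
    (fun a ha b hb => (hcomm b hb a ha).symm) (hcR ▸ h2R) _ rfl
  have hxV : x ∈ fourOf e := hC.le (mem_centralizer_iff.2 fun v hv => hxc v (hS hv))
  have hyV : y ∈ fourOf e := hC.le (mem_centralizer_iff.2 fun v hv => hyc v (hS hv))
  have hxy : x ≠ y := fun h => hx1 (by
    have : x ∈ R ⊓ R' := ⟨hxR, h ▸ hyR⟩
    rwa [hint, mem_bot] at this)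
  haveI := isKleinFour_fourOf e
  have hSV : (S : Subgroup N) ≤ centralizer (fourOf e : Set N) := by
    intro s hs
    refine mem_centralizer_iff.2 fun v hv => ?_
    have key : ∀ a b w : fourOf e, a ≠ 1 → b ≠ 1 → a ≠ b → w = 1 ∨ w = a ∨ w = b ∨ w = a * b := by
      intro a b w ha hb hab
      by_contra hcon
      push Not at hcon
      exact hcon.2.2.2 (IsKleinFour.eq_mul_of_ne_all ha hb hab hcon.1 hcon.2.1 hcon.2.2.1)
    rcases key ⟨x, hxV⟩ ⟨y, hyV⟩ ⟨v, hv⟩ (fun h => hx1 (congrArg Subtype.val h))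
      (fun h => hy1 (congrArg Subtype.val h)) (fun h => hxy (congrArg Subtype.val h)) with h | h | h | h
    · rw [show v = 1 from congrArg Subtype.val h, one_mul, mul_one]
    · rw [show v = x from congrArg Subtype.val h, hxc s hs]
    · rw [show v = y from congrArg Subtype.val h, hyc s hs]
    · rw [show v = x * y from congrArg Subtype.val h, mul_assoc, ← hyc s hs, ← mul_assoc, ← hxc s hs, mul_assoc]
  have h4 : Nat.card (S : Subgroup N) ≤ 4 :=
    le_of_le_of_eq (card_le_of_le (hSV.trans hC.le)) (card_fourOf e)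
  rw [S.card_eq_multiplicity] at h4
  have h4' : 4 ≤ (Nat.card N).factorization 2 :=
    (Nat.Prime.pow_dvd_iff_le_factorization Nat.prime_two Nat.card_pos.ne').1 (by simpa using h16)
  have : 2 ^ 4 ≤ 2 ^ (Nat.card N).factorization 2 := Nat.pow_le_pow_right (by norm_num) h4'
  omega

end CfsgLib.WongThree
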