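import Cfsg.Agent.WongThree.Basic
import Cfsg.Agent.S3331
import Cfsg.Agent.SmallSimple.OneSixtyEightMax
import Cfsg.Agent.GWApps.QDCentralizer
import Cfsg.Agent.Classical.PSLTwo

/-!
# Point stabilisers of order three and six
-/

set_option autoImplicit false
set_option linter.unusedSectionVars false
set_option linter.style.haveILetI false

namespace CfsgLib.WongThree

open Subgroup

universe u

local instance factThreeSmall : Fact (Nat.Prime 3) := ⟨Nat.prime_three⟩
local instance factSevenSmall : Fact (Nat.Prime 7) := ⟨by norm_num⟩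

/-- Stabilisers of order three or six. -/
theorem small_case {G : Type u} [Group G] [Finite G] {H : Subgroup G} (P : Prim H)
    (h' : Nat.card H = 3 ∨ Nonempty (H ≃* Equiv.Perm (Fin 3))) : Nonempty (G ≃* alternatingGroup (Fin 5)) := by
  classical
  have h : Nat.card H = 3 ∨ Nat.card H = 6 := h'.imp_right fun ⟨e⟩ => by
    rw [Nat.card_congr e.toEquiv, Nat.card_perm, Nat.card_fin]; rfl
  obtain ⟨S⟩ : Nonempty (Sylow 3 H) := Sylow.nonempty
  have hS : Nat.card (S : Subgroup H) = 3 := by
    rw [S.card_eq_multiplicity]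
    rcases h with e | e <;> rw [e]
    · rw [Nat.Prime.factorization_self Nat.prime_three]; norm_num
    · rw [show (6 : ℕ) = 2 * 3 by norm_num, Nat.factorization_mul (by norm_num) (by norm_num),
        Finsupp.add_apply, Nat.factorization_eq_zero_of_not_dvd (by norm_num),
        Nat.Prime.factorization_self Nat.prime_three]
      norm_num
  haveI hSn : (S : Subgroup H).Normal := by
    have hm := (S : Subgroup H).card_mul_index
    rw [hS] at hm
    rcases h with e | e <;> rw [e] at hm
    · rw [index_eq_one.1 (show (S : Subgroup H).index = 1 by omega)]; infer_instance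
    · exact Subgroup.normal_of_index_eq_two (by omega)
  set X := (S : Subgroup H).map H.subtype with hXdef
  have hXH : X ≤ H := map_subtype_le _
  have hX : Nat.card X = 3 := by rw [hXdef, card_map_of_injective H.subtype_injective, hS]
  have hXne : X ≠ ⊥ := fun e => by rw [e, card_bot] at hX; omega
  have hn : H ≤ normalizer (X : Set G) := by
    intro k hk
    refine mem_normalizer_iff_map_conj_eq.2 (eq_of_le_of_card_ge ?_
      (card_map_of_injective (MulAut.conj k).injective).ge)
    rintro _ ⟨_, ⟨x, hx, rfl⟩, rfl⟩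
    exact ⟨⟨k, hk⟩ * x * ⟨k, hk⟩⁻¹, hSn.conj_mem x hx _, rfl⟩
  have hN := P.normalizer_eq hXH hXne hn
  have hXc : ∀ a ∈ X, ∀ b ∈ X, a * b = b * a := fun a ha b hb => by
    haveI : IsCyclic X := isCyclic_of_prime_card hX
    letI := IsCyclic.commGroup (α := X)
    exact congrArg Subtype.val (mul_comm (⟨a, ha⟩ : X) ⟨b, hb⟩)
  have hC : centralizer (X : Set G) = X := by
    refine le_antisymm (fun c hc => ?_) fun a ha =>
      mem_centralizer_iff.2 fun b hb => hXc b hb a ha
    have hcH : c ∈ H := P.centralizer_le hXH hXne hn hc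
    rcases h' with e | hne
    · exact (eq_of_le_of_card_ge hXH (by rw [hX, e])).ge hcH
    obtain ⟨e⟩ := hne
    obtain ⟨y, hy, hy1⟩ := (Subgroup.ne_bot_iff_exists_ne_one.1 hXne |> fun ⟨⟨y, hy⟩, h1⟩ =>
      (⟨y, hy, fun e => h1 (Subtype.ext e)⟩ : ∃ y ∈ X, y ≠ 1))
    have hy3 : (⟨y, hXH hy⟩ : H) ^ 3 = 1 := Subtype.ext (by
      simpa [hX] using congrArg Subtype.val (pow_card_eq_one' (x := (⟨y, hy⟩ : X))))
    have key : ∀ p r : Equiv.Perm (Fin 3), r * r * r = 1 → r ≠ 1 → p * r = r * p → p * p * p = 1 := by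
      decide +kernel
    have hc3 : (⟨c, hcH⟩ : H) ^ 3 = 1 := e.injective (by
      rw [map_pow, map_one, pow_succ, pow_two]
      refine key _ (e ⟨y, hXH hy⟩) ?_ (fun e1 => hy1 ?_) ?_
      · rw [← map_mul, ← map_mul, ← pow_two, ← pow_succ, hy3, map_one]
      · rw [← map_one e] at e1
        exact congrArg Subtype.val (e.injective e1)
      · rw [← map_mul, ← map_mul]
        exact congrArg e (Subtype.ext (mem_centralizer_iff.1 hc y hy).symm))
    have hp3 : IsPGroup 3 (zpowers (⟨c, hcH⟩ : H)) := by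
      rintro ⟨_, i, rfl⟩
      refine ⟨1, Subtype.ext ?_⟩
      show ((⟨c, hcH⟩ : H) ^ i) ^ 3 ^ 1 = 1
      rw [pow_one, ← zpow_natCast, ← zpow_mul, mul_comm, zpow_mul, zpow_natCast, hc3, one_zpow]
    obtain ⟨R, hR⟩ := hp3.exists_le_sylow
    haveI : Unique (Sylow 3 H) := Sylow.unique_of_normal S hSn
    rw [Subsingleton.elim R S] at hR
    exact ⟨_, hR (mem_zpowers _), rfl⟩
  rcases Cfsg.Agent.S3331.result X hX hC with ⟨N, hNn, hnil, -, hq⟩ | ⟨N, hNn, hNc, -, hq⟩ | h7
  · exfalso
    haveI := hNn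
    haveI := hnil
    have hNb : N = ⊥ := P.eq_bot_of_solvable inferInstance
    subst hNb
    have e := QuotientGroup.quotientBot (G := G)
    refine P.hsol (CfsgLib.MaxNorm.isSolvable_of_twoPrimes ?_)
    rcases hq with hq | hne
    · rw [← Nat.card_congr e.toEquiv, hq, show (3 : ℕ) = 3 ^ 1 by norm_num]
      exact CfsgLib.MaxNorm.twoPrimes_pow Nat.prime_three 1
    · obtain ⟨e'⟩ := hne
      rw [← Nat.card_congr e.toEquiv, Nat.card_congr e'.toEquiv, Nat.card_perm, Nat.card_fin,
        show Nat.factorial 3 = 2 ^ 1 * 3 ^ 1 by rfl]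
      exact CfsgLib.MaxNorm.twoPrimes_mul Nat.prime_two Nat.prime_three 1 1
  · haveI := hNn
    have hNb : N = ⊥ := P.eq_bot_of_solvable
      (Group.isSolvable_of_comm fun a b => hNc.is_comm.comm a b)
    subst hNb
    obtain ⟨e⟩ := hq
    exact ⟨QuotientGroup.quotientBot.symm.trans e⟩
  · exfalso
    obtain ⟨e⟩ := h7
    haveI : IsSimpleGroup (Matrix.ProjectiveSpecialLinearGroup (Fin 2) (ZMod 7)) :=
      CfsgLib.Linear.isSimpleGroup_PSL
        (Or.inr (CfsgLib.Linear.Small.exists_sq_ne_one (F := ZMod 7) (by rw [ZMod.card]; norm_num)))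
    haveI : Nontrivial G := e.toEquiv.nontrivial
    haveI : IsSimpleGroup G := IsSimpleGroup.isSimpleGroup_of_surjective e.symm.toMonoidHom e.symm.surjective
    have h168 : Nat.card G = 168 := by
      rw [Nat.card_congr e.toEquiv]
      have := CfsgLib.Linear.PSLTwo.mul_card (F := ZMod 7)
      rw [Nat.card_zmod] at this
      norm_num at this
      rw [Nat.card_eq_fintype_card]
      show Fintype.card (CfsgLib.Dickson.PSL2 (ZMod 7)) = 168
      omega
    obtain ⟨R, hR⟩ := (IsPGroup.of_card (n := 1) (G := X) (by rw [hX]; norm_num)).exists_le_sylow (p := 3)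
    have hRX : X = (R : Subgroup G) :=
      eq_of_le_of_card_ge hR (by rw [hX, CfsgLib.Simple168.card_three h168 R])
    obtain ⟨U, hU, hle⟩ := CfsgLib.Simple168.normalizer_three_le h168 R
    rw [← hRX, hN] at hle
    haveI := hU
    have hcard := CfsgLib.Simple168.card_normalizer_klein h168 (U := U)
    rcases P.coatom.le_iff.1 hle with e' | e'
    · exact CfsgLib.Simple168.normalizer_klein_ne_top h168 (U := U) e'
    · rw [e'] at hcard; omega

end CfsgLib.WongThree
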