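import Mathlib.GroupTheory.Perm.Fin
import Mathlib.GroupTheory.SpecificGroups.Alternating
import Mathlib.GroupTheory.SpecificGroups.KleinFour
import Mathlib.GroupTheory.Sylow
import Mathlib.GroupTheory.Nilpotent

/-!
# Subgroups isomorphic to the symmetric group of degree four
-/

set_option autoImplicit false
set_option linter.unusedSectionVars false
set_option linter.style.haveILetI false

namespace CfsgLib.WongThree

open Subgroup

universe u

/-- The normal four-group of `S₄`. -/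
def kleinS4 : Subgroup (Equiv.Perm (Fin 4)) where
  carrier := {p | p * p = 1 ∧ Equiv.Perm.sign p = 1}
  mul_mem' := by
    intro a b ha hb
    revert ha hb
    revert a b
    decide +kernel
  one_mem' := by simp
  inv_mem' := by
    intro a ha
    revert ha
    revert a
    decide +kernel

theorem mem_kleinS4 {p : Equiv.Perm (Fin 4)} :
    p ∈ kleinS4 ↔ p * p = 1 ∧ Equiv.Perm.sign p = 1 := Iff.rfl

instance : DecidablePred (· ∈ kleinS4) := fun _ => decidable_of_iff' _ mem_kleinS4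

theorem card_kleinS4 : Nat.card kleinS4 = 4 := by
  rw [Nat.card_eq_fintype_card, Fintype.card_subtype]
  decide +kernel

instance : kleinS4.Normal := ⟨by decide +kernel⟩

theorem kleinS4_cent : ∀ p : Equiv.Perm (Fin 4),
    (∀ v, v ∈ kleinS4 → p * v = v * p) → p ∈ kleinS4 := by decide +kernel

theorem kleinS4_outer : ∀ a b : Equiv.Perm (Fin 4), a * a = 1 → b * b = 1 → a ∉ kleinS4 → b ∉ kleinS4 →
    a * b ∈ kleinS4 → a * b = b * a := by decide +kernel

set_option synthInstance.maxSize 1024 in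
theorem kleinS4_fix : ∀ a v w : Equiv.Perm (Fin 4), a * a = 1 → a ∉ kleinS4 →
    v ∈ kleinS4 → w ∈ kleinS4 → v ≠ 1 → w ≠ 1 → a * v = v * a → a * w = w * a → v = w := by
  decide +kernel

theorem sign_neg_generates : ∀ p : Equiv.Perm (Fin 4), Equiv.Perm.sign p = -1 →
    ∀ q : Equiv.Perm (Fin 4), Equiv.Perm.sign q = -1 → q * q = 1 →
      ∃ g h : Equiv.Perm (Fin 4), q = g * p * g⁻¹ ∨ q = g * p * g⁻¹ * (h * p * h⁻¹) * p ∨
        q = g * p * g⁻¹ * (h * p * h⁻¹) * p⁻¹ := by decide +kernel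

/-- A proper normal subgroup of `S₄` is even. -/
theorem normal_le_alternating {K : Subgroup (Equiv.Perm (Fin 4))} [K.Normal] (hK : K ≠ ⊤) :
    K ≤ alternatingGroup (Fin 4) := by
  intro p hp
  by_contra hpa
  have hs : Equiv.Perm.sign p = -1 := (Int.units_eq_one_or _).resolve_left hpa
  have hswap : ∀ q : Equiv.Perm (Fin 4), q.IsSwap → q ∈ K := fun q hq => by
    have hq1 : Equiv.Perm.sign q = -1 := hq.sign_eq
    have hq2 : q * q = 1 := by
      obtain ⟨x, y, hxy, rfl⟩ := hq
      exact Equiv.swap_mul_self x y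
    obtain ⟨g, h, e | e | e⟩ := sign_neg_generates p hs q hq1 hq2
    · exact e ▸ Subgroup.Normal.conj_mem ‹_› p hp g
    · exact e ▸ mul_mem (mul_mem (Subgroup.Normal.conj_mem ‹_› p hp g)
        (Subgroup.Normal.conj_mem ‹_› p hp h)) hp
    · exact e ▸ mul_mem (mul_mem (Subgroup.Normal.conj_mem ‹_› p hp g)
        (Subgroup.Normal.conj_mem ‹_› p hp h)) (inv_mem hp)
  apply hK
  rw [eq_top_iff, ← Equiv.Perm.closure_isSwap, closure_le]
  exact hswap

theorem kleinS4_le : kleinS4 ≤ alternatingGroup (Fin 4) := fun _ hp => hp.2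

variable {G : Type u} [Group G] {H : Subgroup G}

/-- The four-group of a copy of `S₄`. -/
def fourOf (e : H ≃* Equiv.Perm (Fin 4)) : Subgroup G := (kleinS4.comap e.toMonoidHom).map H.subtype

theorem mem_fourOf {e : H ≃* Equiv.Perm (Fin 4)} {x : G} :
    x ∈ fourOf e ↔ ∃ hx : x ∈ H, e ⟨x, hx⟩ ∈ kleinS4 := by
  constructor
  · rintro ⟨y, hy, rfl⟩
    exact ⟨y.2, hy⟩
  · rintro ⟨hx, h⟩
    exact ⟨⟨x, hx⟩, h, rfl⟩

variable (e : H ≃* Equiv.Perm (Fin 4))

theorem fourOf_le : fourOf e ≤ H := map_subtype_le _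

theorem card_fourOf : Nat.card (fourOf e) = 4 := by
  rw [fourOf, card_map_of_injective H.subtype_injective]
  exact (Nat.card_congr (e.toEquiv.subtypeEquiv fun _ => Iff.rfl)).trans card_kleinS4

theorem fourOf_sq {x : G} (hx : x ∈ fourOf e) : x * x = 1 := by
  obtain ⟨hxH, h1, -⟩ := mem_fourOf.1 hx
  have h2 : (⟨x, hxH⟩ : H) * ⟨x, hxH⟩ = 1 := e.injective (by rw [map_mul, map_one]; exact h1)
  exact congrArg Subtype.val h2

theorem isKleinFour_fourOf : IsKleinFour (fourOf e) := by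
  refine ⟨card_fourOf e, ?_⟩
  refine (Nat.dvd_prime Nat.prime_two).1 (Monoid.exponent_dvd_of_forall_pow_eq_one fun x => ?_) |>.resolve_left
    fun h => ?_
  · exact Subtype.ext (by simpa [sq] using fourOf_sq e x.2)
  · haveI := Monoid.exp_eq_one_iff.1 h
    have := Nat.card_unique (α := fourOf e)
    rw [card_fourOf e] at this
    omega

theorem le_normalizer_fourOf : H ≤ normalizer (fourOf e : Set G) := by
  intro g hg
  refine mem_normalizer_iff.2 fun x => ⟨fun hx => ?_, fun hx => ?_⟩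
  · obtain ⟨hxH, h⟩ := mem_fourOf.1 hx
    refine mem_fourOf.2 ⟨mul_mem (mul_mem hg hxH) (inv_mem hg), ?_⟩
    have := Subgroup.Normal.conj_mem (inferInstance : kleinS4.Normal) _ h (e ⟨g, hg⟩)
    rwa [← map_inv, ← map_mul, ← map_mul] at this
  · obtain ⟨hxH, h⟩ := mem_fourOf.1 hx
    have hxH' : x ∈ H := by
      have := mul_mem (mul_mem (inv_mem hg) hxH) hg
      simpa [mul_assoc] using this
    refine mem_fourOf.2 ⟨hxH', ?_⟩
    have := Subgroup.Normal.conj_mem (inferInstance : kleinS4.Normal) _ h (e ⟨g, hg⟩)⁻¹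
    rw [inv_inv] at this
    have e1 : (⟨x, hxH'⟩ : H) = ⟨g, hg⟩⁻¹ * ⟨g * x * g⁻¹, hxH⟩ * ⟨g, hg⟩ :=
      Subtype.ext (by simp [mul_assoc])
    rwa [e1, map_mul, map_mul, map_inv]

theorem centralizer_inf_fourOf : centralizer (fourOf e : Set G) ⊓ H = fourOf e := by
  refine le_antisymm (fun x ⟨hx, hxH⟩ => mem_fourOf.2 ⟨hxH, kleinS4_cent _ fun v hv => ?_⟩)
    (le_inf (show fourOf e ≤ centralizer (fourOf e : Set G) from
      fun x (hx : x ∈ fourOf e) => mem_centralizer_iff.2 fun y hy => ?_) (fourOf_le e))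
  · haveI := isKleinFour_fourOf e
    have hx2 := fourOf_sq e hx
    have hy2 := fourOf_sq e hy
    have hxy := fourOf_sq e (mul_mem hy hx)
    rw [← inv_eq_of_mul_eq_one_right hxy, mul_inv_rev, inv_eq_of_mul_eq_one_right hx2,
      inv_eq_of_mul_eq_one_right hy2]
  · obtain ⟨w, rfl⟩ := e.surjective v
    rw [← map_mul, ← map_mul]
    exact congrArg e (Subtype.ext (mem_centralizer_iff.1 hx w (mem_fourOf.2 ⟨w.2, hv⟩)).symm)

include e in
theorem card_of_sym : Nat.card H = 24 := by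
  rw [Nat.card_congr e.toEquiv, Nat.card_perm, Nat.card_fin]
  rfl

end CfsgLib.WongThree
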